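import Mathlib
import Cfsg.Agent.Lib.ChevSub2.Rat
import Cfsg.Agent.Lib.ChevSub.ApexC
import Cfsg.Agent.Lib.Chev.TwSCBN
import Cfsg.Agent.Lib.Chev.TwSCP
import Cfsg.Agent.Lib.Chev.TwSCH
import Cfsg.Agent.Lib.Chev.TwInst

/-!
# Subfield points of a twisted group: basic facts
-/

set_option autoImplicit false
set_option linter.unusedSectionVars false
set_option linter.unusedVariables false
set_option linter.unnecessarySimpa false

namespace Cfsg.Agent.Lib.ChevTw

open Cfsg Cfsg.Lie Matrix Cfsg.Agent.Lib.Chev Cfsg.Agent.Lib.Chev.Full Cfsg.Agent.Lib.Chev.Tri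
open Cfsg.Agent.Lib.ChevTransfer Cfsg.Agent.Lib.ChevAut.SubField Cfsg.Agent.Lib.ChevAut.WClosed
open Cfsg.Agent.Lib.ChevAut.ParabFit Cfsg.Agent.Lib.ChevInv Cfsg.Agent.Lib.ChevInv.CentG
open Cfsg.Agent.Lib.ChevSub Equiv

variable {T : Tabs} {X : Extra} {R : RootTab} {D : ChevalleyDatum} {hF : Full T X R D}
variable {F : Type*} [Field F] {τ : Tw hF F} {f : F ≃+* F} {ρ' π' : ℕ → ℕ} {J : ℕ → List ℕ} {A dd : ℕ → ℕ}

theorem sig_word (hF : Full T X R D) (f : F ≃+* F) (L : List (ℕ × F)) :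
    glMap D f (hF.c.wordG L) = hF.c.wordG (L.map fun p => (p.1, f p.2)) := by
  induction L with
  | nil => simp [Checks.wordG_nil]
  | cons a L ih =>
    simp only [List.map_cons, Checks.wordG_cons, map_mul, ih, sig_xG hF]

theorem sig_cw (hF : Full T X R D) (f : F ≃+* F) (ρ' : ℕ → ℕ) (r d : ℕ) (t : F) :
    glMap D f (hF.c.wordG (cw ρ' f r d t)) = hF.c.wordG (cw ρ' f r d (f t)) := by
  rw [sig_word hF]
  congr 1
  unfold cw
  rw [List.map_map]
  apply List.map_congr_left
  intro k _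
  simp only [Function.comp]
  rw [← Function.iterate_succ_apply' (⇑f), Function.iterate_succ_apply]

variable (h : SCOK τ f ρ' π' J A dd)

include h

theorem sig_G1 {g : GL D.Idx F} (hg : g ∈ h.G1) : glMap D f g ∈ h.G1 := by
  have hle : h.G1 ≤ h.G1.comap (glMap D f).toMonoidHom := by
    unfold SCOK.G1
    rw [Subgroup.closure_le]
    rintro g ⟨i, hi, t, ht, rfl | rfl⟩
    · rw [SetLike.mem_coe, Subgroup.mem_comap]
      show glMap D f _ ∈ Subgroup.closure _
      rw [sig_cw hF]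
      refine Subgroup.subset_closure ⟨i, hi, f t, ?_, Or.inl rfl⟩
      rw [← Function.iterate_succ_apply, Function.iterate_succ_apply', ht]
    · rw [SetLike.mem_coe, Subgroup.mem_comap]
      show glMap D f _ ∈ Subgroup.closure _
      rw [sig_cw hF]
      refine Subgroup.subset_closure ⟨i, hi, f t, ?_, Or.inr rfl⟩
      rw [← Function.iterate_succ_apply, Function.iterate_succ_apply', ht]
  exact hle hg

/-- The subfield points of the twisted group. -/
def MM (_h : SCOK τ f ρ' π' J A dd) : Subgroup (GL D.Idx F) where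
  carrier := {g | g ∈ _h.G1 ∧ glMap D f g = g}
  one_mem' := ⟨Subgroup.one_mem _, map_one _⟩
  mul_mem' := by
    rintro a b ⟨ha, ha'⟩ ⟨hb, hb'⟩
    exact ⟨Subgroup.mul_mem _ ha hb, by rw [map_mul, ha', hb']⟩
  inv_mem' := by
    rintro a ⟨ha, ha'⟩
    exact ⟨Subgroup.inv_mem _ ha, by rw [map_inv, ha']⟩

theorem mem_MM {g : GL D.Idx F} : g ∈ MM h ↔ g ∈ h.G1 ∧ glMap D f g = g := Iff.rfl

/-- Words in the class reflections, as monomial elements. -/
noncomputable def nw (_h : SCOK τ f ρ' π' J A dd) (L : List ℕ) : ↥(D.monomialSubgroup F) :=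
  (L.map fun i => ((J i).map (hF.nNt F)).prod).prod

theorem nw_mem {L : List ℕ} (hL : ∀ i ∈ L, i < D.rank) : (nw h L).1 ∈ MM h := by
  induction L with
  | nil =>
    exact Subgroup.one_mem _
  | cons a L ih =>
    have e : (nw h (a :: L)).1 = (((J a).map (hF.nNt F)).prod : ↥(D.monomialSubgroup F)).1 * (nw h L).1 := by
      unfold nw
      rw [List.map_cons, List.prod_cons]
      rfl
    rw [e]
    have ha := hL a (by simp)
    refine Subgroup.mul_mem _ ?_ (ih fun i hi => hL i (List.mem_cons_of_mem _ hi))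
    have h1 := h.twG.nC_mem a ha
    refine ⟨h1, ?_⟩
    have e2 : (((J a).map (hF.nNt F)).prod : ↥(D.monomialSubgroup F)).1 = ((J a).map hF.nS).prod :=
      hF.coe_prod_nNt (fun j hj => h.mem_J_lt ha hj)
    rw [e2, map_list_prod, List.map_map]
    congr 1
    apply List.map_congr_left
    intro j _
    exact sig_nS hF f j

/-- The action on roots of a word in the class reflections. -/
noncomputable def foldw (X : Extra) (J : ℕ → List ℕ) (L : List ℕ) (r : ℕ) : ℕ := L.foldr (fun i s => wAct X (J i) s) r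

theorem rhoN_nw {L : List ℕ} (hL : ∀ i ∈ L, i < D.rank) (r : Fin D.nroots) :
    ((hF.rhoN F (nw h L) r : Fin D.nroots) : ℕ) = foldw X J L r := by
  induction L generalizing r with
  | nil =>
    have e : nw h [] = 1 := rfl
    rw [e, map_one]
    rfl
  | cons a L ih =>
    have e : nw h (a :: L) = ((J a).map (hF.nNt F)).prod * nw h L := by
      unfold nw
      rw [List.map_cons, List.prod_cons]
    rw [e, map_mul, Perm.mul_apply, hF.rhoN_prod_nNt,
      hF.prod_wPt_apply (fun j hj => h.mem_J_lt (hL a (by simp)) hj), ih (fun i hi => hL i (List.mem_cons_of_mem _ hi))]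
    rfl

variable [Fintype F]

/-- The Bruhat form inside the twisted group. -/
theorem exists_form' {x : GL D.Idx F} (hx : x ∈ h.G1) :
    ∃ u₀ ∈ D.posUnipotent F, u₀ ∈ h.G1 ∧ ∃ t₀ ∈ D.diagonalSubgroup F, t₀ ∈ h.G1 ∧
      ∃ n : ↥(D.monomialSubgroup F), n.1 ∈ h.G1 ∧ ∃ u ∈ D.posUnipotent F, u ∈ h.G1 ∧ x = u₀ * t₀ * n.1 * u := by
  obtain ⟨n, hn, hc⟩ := h.twG.exists_cell hx
  obtain ⟨b, hb, hbG, u, hu, huG, e⟩ := h.twG.cell_decomp hx hn hc
  obtain ⟨u₀, hu₀, t₀, ht₀, rfl⟩ := h.twG.borel_split hb hbG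
  exact ⟨u₀, hu₀.1, hu₀.2, t₀, ht₀.1, ht₀.2, n, hn, u, hu, huG, e⟩

end Cfsg.Agent.Lib.ChevTw
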