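import Mathlib
import Cfsg.Agent.Lib.ChevTw.Base

/-!
# Rational representatives of cosets of parabolic subgroups in a twisted group
-/

set_option autoImplicit false
set_option linter.unusedSectionVars false
set_option linter.unusedVariables false
set_option linter.unnecessarySimpa false

namespace Cfsg.Agent.Lib.ChevTw

open Cfsg Cfsg.Lie Matrix Cfsg.Agent.Lib.Chev Cfsg.Agent.Lib.Chev.Full Cfsg.Agent.Lib.Chev.Tri
open Cfsg.Agent.Lib.ChevTransfer Cfsg.Agent.Lib.ChevAut.SubField Cfsg.Agent.Lib.ChevAut.WClosed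
open Cfsg.Agent.Lib.ChevAut.ParabFit Cfsg.Agent.Lib.ChevInv Cfsg.Agent.Lib.ChevInv.CentG
open Cfsg.Agent.Lib.ChevSub Equiv

variable {T : Tabs} {X : Extra} {R : RootTab} {D : ChevalleyDatum} {hF : Full T X R D}
variable {F : Type*} [Field F] {τ : Tw hF F} {f : F ≃+* F} {ρ' π' : ℕ → ℕ} {J : ℕ → List ℕ} {A dd : ℕ → ℕ}
variable (h : SCOK τ f ρ' π' J A dd) [Fintype F]

include h

/-- A rational representative of a `σ`-stable coset of a `τ`-stable parabolic in the twisted group. -/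
theorem rat_parabolic' (K : Set ℕ) (hinv : ∀ r : Fin D.nroots, R.lin D.rank (aJ K) (τ.ρ r : Fin D.nroots) = R.lin D.rank (aJ K) r)
    {g : GL D.Idx F} (hg : g ∈ h.G1)
    (hP : g⁻¹ * glMap D f g ∈ D.parabolicSubgroup F K) :
    ∃ a ∈ MM h, a⁻¹ * g ∈ D.parabolicSubgroup F K := by
  classical
  obtain ⟨u, hu, huG, t, ht, htG, n, hnG, b', hb', hb'G, rfl⟩ := exists_form' h hg
  obtain ⟨L, h₁, hL, hh₁, hh₁G, en⟩ := h.twG.N1_induction _ n hnG rfl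
  set nn : ↥(D.monomialSubgroup F) := nw h L with hnn
  have hn'eq : (L.map fun i => (h.twG.nC i).1).prod = nn.1 := by
    rw [hnn]
    unfold nw
    rw [← (D.monomialSubgroup F).subtype_apply, map_list_prod, List.map_map]
    rfl
  rw [hn'eq] at en
  have hnnM := nw_mem h hL
  rw [← hnn] at hnnM
  set n' : GL D.Idx F := nn.1 with hn'
  obtain ⟨a, ha⟩ := exists_lin_transport hF (hF.rhoN_mem_Wk nn) (aJ K)
  have hρ : ∀ r, ∀ hr : r < D.nroots,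
      R.lin D.rank (aJ K) ((hF.rhoN F nn⁻¹ ⟨r, hr⟩ : Fin D.nroots) : ℕ) = R.lin D.rank a r := by
    intro r hr
    have h1 := ha (hF.rhoN F nn⁻¹ ⟨r, hr⟩)
    rw [← h1, map_inv]
    simp
  -- invariance of the functional under `ρ`
  have hainv : ∀ r : Fin D.nroots, R.lin D.rank a (τ.ρ r : Fin D.nroots) = R.lin D.rank a r := by
    intro r
    have h1 := hρ r r.2
    have h2 := hρ (τ.ρ r) (τ.ρ r).2
    rw [← h1, ← h2]
    have h3 : hF.rhoN F nn⁻¹ (τ.ρ r) = τ.ρ (hF.rhoN F nn⁻¹ r) := by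
      rw [map_inv]
      have h4 := h.twG.rho_fix nn hnnM.1 ((hF.rhoN F nn)⁻¹ r)
      have h5 : hF.rhoN F nn ((hF.rhoN F nn)⁻¹ r) = r := by simp
      rw [h5] at h4
      rw [← h4]
      simp
    have h6 : (⟨((τ.ρ r : Fin D.nroots) : ℕ), (τ.ρ r).2⟩ : Fin D.nroots) = τ.ρ r := rfl
    rw [h6, h3]
    exact hinv _
  obtain ⟨u1, hu1, u2, hu2, rfl⟩ := hF.exists_factor
    (fun r => D.IsPosRoot r ∧ R.lin D.rank a r < 0) (fun r => D.IsPosRoot r ∧ 0 ≤ R.lin D.rank a r)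
    (fun r hr => by
      by_cases h0 : R.lin D.rank a r < 0
      · exact Or.inl ⟨hr, h0⟩
      · exact Or.inr ⟨hr, not_lt.1 h0⟩) hu
  have hcl : ∀ Q : ℕ → Prop, rootClosure D F (fun r => D.IsPosRoot r ∧ Q r) ≤ D.posUnipotent F := by
    intro Q
    unfold rootClosure ChevalleyDatum.posUnipotent
    apply Subgroup.closure_mono
    rintro g ⟨s, t, hs, hg⟩
    exact ⟨s, t, hs.1, hg⟩
  have hu1U : u1 ∈ D.posUnipotent F := hcl (fun r => R.lin D.rank a r < 0) hu1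
  have hu2U : u2 ∈ D.posUnipotent F := hcl (fun r => 0 ≤ R.lin D.rank a r) hu2
  -- conjugating the two factors
  have hP2 : ∀ {z : GL D.Idx F}, z ∈ rootClosure D F (fun r => D.IsPosRoot r ∧ 0 ≤ R.lin D.rank a r) →
      nn⁻¹.1 * z * nn⁻¹.1⁻¹ ∈ D.parabolicSubgroup F K := by
    intro z hz
    have h1 : nn⁻¹.1 * z * nn⁻¹.1⁻¹ ∈ rootClosure D F (fun s => s < D.nroots ∧ 0 ≤ R.lin D.rank (aJ K) s) := by
      refine conj_rootClosure hF nn⁻¹ ?_ hz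
      rintro r ⟨h2, h3⟩
      have hr := (hF.isPos_iff.1 h2).1
      refine ⟨hr, Fin.is_lt _, ?_⟩
      rw [hρ r hr]
      exact h3
    have h2 : rootClosure D F (fun s => s < D.nroots ∧ 0 ≤ R.lin D.rank (aJ K) s) ≤
        D.parabolicSubgroup F K := by
      rw [rootClosure, Subgroup.closure_le]
      rintro g ⟨s, t, hs, hg⟩
      rw [hF.c.eq_xG hg]
      exact xG_mem_parabolic_of_lin hF K hs.1 hs.2 t
    exact h2 h1
  have hP1 : ∀ {z : GL D.Idx F}, z ∈ rootClosure D F (fun r => D.IsPosRoot r ∧ R.lin D.rank a r < 0) →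
      nn⁻¹.1 * z * nn⁻¹.1⁻¹ ∈ rootClosure D F (fun s => s < D.nroots ∧ R.lin D.rank (aJ K) s < 0) := by
    intro z hz
    refine conj_rootClosure hF nn⁻¹ ?_ hz
    rintro r ⟨h2, h3⟩
    have hr := (hF.isPos_iff.1 h2).1
    refine ⟨hr, Fin.is_lt _, ?_⟩
    rw [hρ r hr]
    exact h3
  -- both factors are fixed by the twist
  have hu1G' : u1 ∈ D.group F := hF.c.posUnipotent_le_group hu1U
  have hu2G' : u2 ∈ D.group F := hF.c.posUnipotent_le_group hu2U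
  have hs1 : τ.s u1 ∈ rootClosure D F (fun r => D.IsPosRoot r ∧ R.lin D.rank a r < 0) := by
    refine τ.s_rootClosure (fun r hr => (hF.isPos_iff.1 hr.1).1) ?_ hu1
    rintro r hr ⟨h2, h3⟩
    refine ⟨τ.posRoot_ρ hr h2, ?_⟩
    rw [hainv ⟨r, hr⟩]
    exact h3
  have hs2 : τ.s u2 ∈ rootClosure D F (fun r => D.IsPosRoot r ∧ 0 ≤ R.lin D.rank a r) := by
    refine τ.s_rootClosure (fun r hr => (hF.isPos_iff.1 hr.1).1) ?_ hu2
    rintro r hr ⟨h2, h3⟩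
    refine ⟨τ.posRoot_ρ hr h2, ?_⟩
    rw [hainv ⟨r, hr⟩]
    exact h3
  have hfix0 : τ.s (u1 * u2) = u1 * u2 := h.twG.G1_fix _ huG
  rw [τ.s_mul hu1G' hu2G'] at hfix0
  have hz1 : u1⁻¹ * τ.s u1 = u2 * (τ.s u2)⁻¹ := by
    have : u1⁻¹ * (τ.s u1 * τ.s u2) * (τ.s u2)⁻¹ = u1⁻¹ * (u1 * u2) * (τ.s u2)⁻¹ := by rw [hfix0]
    calc u1⁻¹ * τ.s u1 = u1⁻¹ * (τ.s u1 * τ.s u2) * (τ.s u2)⁻¹ := by group
      _ = _ := by rw [this]; group
  have hz2 : nn⁻¹.1 * (u1⁻¹ * τ.s u1) * nn⁻¹.1⁻¹ = 1 := by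
    apply eq_one_of_parab hF K
    · rw [hz1]
      exact hP2 (mul_mem hu2 (inv_mem hs2))
    · exact hP1 (mul_mem (inv_mem hu1) hs1)
  have hu1fix : τ.s u1 = u1 := by
    have h3 : u1⁻¹ * τ.s u1 = 1 := by
      have h4 : u1⁻¹ * τ.s u1 = nn⁻¹.1⁻¹ * (nn⁻¹.1 * (u1⁻¹ * τ.s u1) * nn⁻¹.1⁻¹) * nn⁻¹.1 := by group
      rw [h4, hz2]
      group
    have := mul_left_cancel (a := u1⁻¹) (b := τ.s u1) (c := u1) (by rw [h3]; simp)
    exact this
  have hu1Gt : u1 ∈ h.G1 := h.twG.U_fix_le hu1U hu1fix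
  have hdiag : n'⁻¹ * (t * n.1) ∈ D.diagonalSubgroup F := by
    have hrho : hF.rhoN F (⟨n'⁻¹ * (t * h₁) * n', mul_mem (mul_mem (inv_mem nn.2) (hF.c.diagonal_le_monomial (mul_mem ht hh₁))) nn.2⟩ : ↥(D.monomialSubgroup F)) = 1 := by
      have e : (⟨n'⁻¹ * (t * h₁) * n', mul_mem (mul_mem (inv_mem nn.2) (hF.c.diagonal_le_monomial (mul_mem ht hh₁))) nn.2⟩ : ↥(D.monomialSubgroup F)) =
          nn⁻¹ * ⟨t * h₁, hF.c.diagonal_le_monomial (mul_mem ht hh₁)⟩ * nn := rfl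
      rw [e, map_mul, map_mul, hF.rhoN_of_mem_diagonal ⟨t * h₁, hF.c.diagonal_le_monomial (mul_mem ht hh₁)⟩ (mul_mem ht hh₁), map_inv]
      simp
    have h3 := hF.mem_diagonal_of_rhoN_eq_one hrho
    have e : n'⁻¹ * (t * n.1) = n'⁻¹ * (t * h₁) * n' := by
      rw [en]
      group
    rw [e]
    exact h3
  set τ₂ := n'⁻¹ * (t * n.1) with hτ₂
  have hu2' : n'⁻¹ * u2 * n' ∈ D.parabolicSubgroup F K := by
    have := hP2 hu2
    simpa [hn'] using this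
  set a0 := u1 * n' with ha0
  have hgeq : u1 * u2 * t * n.1 * b' = a0 * ((n'⁻¹ * u2 * n') * τ₂ * b') := by
    rw [hτ₂, ha0]
    group
  set p := (n'⁻¹ * u2 * n') * τ₂ * b' with hp
  have hpP : p ∈ D.parabolicSubgroup F K :=
    mul_mem (mul_mem hu2' (hF.borel_le_parabolic K (hF.c.diagonal_le_borel hdiag)))
      (hF.borel_le_parabolic K (U_le_B hF hb'))
  rw [hgeq] at hP hg ⊢
  have hsgn : glMap D f n' = n' := hnnM.2
  have h3 : a0⁻¹ * glMap D f a0 ∈ D.parabolicSubgroup F K := by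
    have e1 : a0⁻¹ * glMap D f a0 = p * ((a0 * p)⁻¹ * glMap D f (a0 * p)) * (glMap D f p)⁻¹ := by
      rw [map_mul (glMap D f) a0 p]
      generalize glMap D f a0 = A
      generalize glMap D f p = B
      generalize p = P
      generalize a0 = Q
      group
    rw [e1]
    exact mul_mem (mul_mem hpP hP) (inv_mem (sig_parabolic hF f K hpP))
  have h4 : a0⁻¹ * glMap D f a0 = nn⁻¹.1 * (u1⁻¹ * glMap D f u1) * nn⁻¹.1⁻¹ := by
    rw [ha0, map_mul, hsgn]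
    show _ = n'⁻¹ * (u1⁻¹ * glMap D f u1) * n'⁻¹⁻¹
    group
  have h5 : nn⁻¹.1 * (u1⁻¹ * glMap D f u1) * nn⁻¹.1⁻¹ ∈
      rootClosure D F (fun s => s < D.nroots ∧ R.lin D.rank (aJ K) s < 0) :=
    hP1 (mul_mem (inv_mem hu1) (sig_rootClosure hF f hu1))
  rw [← h4] at h5
  have h6 := eq_one_of_parab hF K h3 h5
  refine ⟨a0, ⟨mul_mem hu1Gt hnnM.1, ?_⟩, ?_⟩
  · have := mul_left_cancel (a := a0⁻¹) (b := glMap D f a0) (c := a0) (by rw [h6]; simp)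
    exact this
  · simpa using hpP

end Cfsg.Agent.Lib.ChevTw
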