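import Mathlib
import Cfsg.Agent.Lib.ChevTw.RatP

/-!
# Conjugates of the highest long root group under an overgroup with rational unipotent part
-/

set_option autoImplicit false
set_option linter.unusedSectionVars false
set_option linter.unusedVariables false
set_option linter.unnecessarySimpa false

namespace Cfsg.Agent.Lib.ChevTw

open Cfsg Cfsg.Lie Matrix Cfsg.Agent.Lib.Chev Cfsg.Agent.Lib.Chev.Full Cfsg.Agent.Lib.Chev.Tri
open Cfsg.Agent.Lib.ChevTransfer Cfsg.Agent.Lib.ChevAut.SubField Cfsg.Agent.Lib.ChevAut.WClosed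
open Cfsg.Agent.Lib.ChevAut.ParabFit Cfsg.Agent.Lib.ChevInv Cfsg.Agent.Lib.ChevInv.CentG
open Cfsg.Agent.Lib.ChevSub Cfsg.Agent.Lib.ChevAut.RootCent Equiv

variable {T : Tabs} {X : Extra} {R : RootTab} {D : ChevalleyDatum} {hF : Full T X R D}
variable {F : Type*} [Field F] {τ : Tw hF F} {f : F ≃+* F} {ρ' π' : ℕ → ℕ} {J : ℕ → List ℕ} {A dd : ℕ → ℕ}

section Cent

variable (hF) {top j0 : ℕ} (htop : top < D.nroots) (hmax : ∀ s < D.nroots, s ≤ top) (hpos : R.N ≤ top)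
  (hj0 : j0 < D.rank) (hcart0 : 0 < D.cartan j0 top) (hcart : ∀ j < D.rank, j ≠ j0 → D.cartan j top = 0)
  (hm : ChevMonoN.checkMono T X D = true)

include htop hmax hpos hj0 hcart0 hcart hm

/-- Elements normalising the highest root element lie in the parabolic. -/
theorem conj_top_parab {k : GL D.Idx F} (hk : k ∈ D.group F) {s s' : F} (hs : s ≠ 0)
    (e : k * hF.c.xG top s * k⁻¹ = hF.c.xG top s') :
    k ∈ D.parabolicSubgroup F {j | j ≠ j0} ∧ ∃ ν : Fˣ, ∀ row, (k : Matrix D.Idx D.Idx F) row (Sum.inr ⟨top, htop⟩) =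
      if row = Sum.inr ⟨top, htop⟩ then (ν : F) else 0 := by
  obtain ⟨u, hu, n, hn, u', hu', σ, ν, eg, h1, h3, hconj, hcol⟩ :=
    exists_top_form hF htop hmax hpos hm hk
  have h5 := hconj s
  rw [e] at h5
  have h6 : hF.c.xG ((σ ⟨top, htop⟩ : Fin D.nroots) : ℕ) ((ν ⟨top, htop⟩ : F) * s) = hF.c.xG top s' := by
    have h7 := top_comm_U hF htop hmax hpos hu s'
    have h8 : u⁻¹ * (u * hF.c.xG ((σ ⟨top, htop⟩ : Fin D.nroots) : ℕ) ((ν ⟨top, htop⟩ : F) * s) * u⁻¹) * u =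
        hF.c.xG ((σ ⟨top, htop⟩ : Fin D.nroots) : ℕ) ((ν ⟨top, htop⟩ : F) * s) := by group
    rw [← h8, ← h5]
    have h9 : u⁻¹ * hF.c.xG top s' * u = u⁻¹ * (u * hF.c.xG top s') := by
      rw [mul_assoc, ← h7]
    rw [h9]
    group
  have h7 : ((σ ⟨top, htop⟩ : Fin D.nroots) : ℕ) = top :=
    hF.xG_root_inj (σ ⟨top, htop⟩).2 htop (mul_ne_zero (Units.ne_zero _) hs) h6
  have hσ : σ ⟨top, htop⟩ = ⟨top, htop⟩ := Fin.ext h7
  have hrho : hF.rhoN F ⟨n, hn⟩ = σ := hF.rhoN_eq (g := ⟨n, hn⟩) h1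
  have hnY := stab_top hF htop hmax hpos hj0 hcart0 hcart _ ⟨n, hn⟩ rfl (by rw [hrho]; exact hσ)
  have hnP : n ∈ D.parabolicSubgroup F {j | j ≠ j0} := by
    have hle : Yg D F j0 ⊔ D.diagonalSubgroup F ≤ D.parabolicSubgroup F {j | j ≠ j0} :=
      sup_le (Yg_le_parabolic hF hj0) (le_trans hF.c.diagonal_le_borel (hF.borel_le_parabolic _))
    exact hle hnY
  refine ⟨?_, ν ⟨top, htop⟩, fun row => ?_⟩
  · rw [eg]
    exact mul_mem (mul_mem (hF.borel_le_parabolic _ (U_le_B hF hu)) hnP) (hF.borel_le_parabolic _ (U_le_B hF hu'))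
  · rw [hcol row, hσ, U_col_top hF htop hmax hpos hu]
    split_ifs <;> simp

end Cent

/-- `x` conjugates the highest root element to a rational element. -/
def Gd (hF : Full T X R D) (f : F ≃+* F) (top : ℕ) (x : GL D.Idx F) : Prop :=
  glMap D f (x * hF.c.xG top 1 * x⁻¹) = x * hF.c.xG top 1 * x⁻¹

variable (h : SCOK τ f ρ' π' J A dd)

/-- A Bruhat form of an element with a given image of the highest root. -/
def Form (_h : SCOK τ f ρ' π' J A dd) {top : ℕ} (htop : top < D.nroots) (x : GL D.Idx F) (r : ℕ) : Prop :=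
  ∃ u₀ ∈ D.posUnipotent F, u₀ ∈ _h.G1 ∧ ∃ t₀ ∈ D.diagonalSubgroup F, t₀ ∈ _h.G1 ∧
    ∃ n : ↥(D.monomialSubgroup F), n.1 ∈ _h.G1 ∧ ∃ u ∈ D.posUnipotent F, u ∈ _h.G1 ∧
      x = u₀ * t₀ * n.1 * u ∧ ((hF.rhoN F n ⟨top, htop⟩ : Fin D.nroots) : ℕ) = r

section Over

variable [Fintype F]
variable (H : Subgroup (GL D.Idx F)) (hHG : H ≤ h.G1) (hMH : MM h ≤ H)
  (hStar : ∀ u ∈ H, u ∈ D.posUnipotent F → glMap D f u = u)
variable {top j0 : ℕ} (htop : top < D.nroots) (hmax : ∀ s < D.nroots, s ≤ top) (hpos : R.N ≤ top)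

theorem form_conj {x : GL D.Idx F} {r : ℕ} {u₀ t₀ : GL D.Idx F} {n : ↥(D.monomialSubgroup F)} {u : GL D.Idx F}
    (hmax : ∀ s < D.nroots, s ≤ top) (hpos : R.N ≤ top)
    (hu : u ∈ D.posUnipotent F) (e : x = u₀ * t₀ * n.1 * u)
    (hrr : ((hF.rhoN F n ⟨top, htop⟩ : Fin D.nroots) : ℕ) = r) :
    ∃ ν : Fˣ, ∀ a : F, x * hF.c.xG top a * x⁻¹ = (u₀ * t₀) * hF.c.xG r ((ν : F) * a) * (u₀ * t₀)⁻¹ := by
  obtain ⟨ν, hν⟩ := hF.rhoN_spec_apply n ⟨top, htop⟩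
  refine ⟨ν, fun a => ?_⟩
  have h1 := top_comm_U hF htop hmax hpos hu a
  have h2 := hν a
  simp only at h2
  rw [hrr] at h2
  rw [← h2, e]
  have h3 : u₀ * t₀ * n.1 * u * hF.c.xG top a * (u₀ * t₀ * n.1 * u)⁻¹ =
      u₀ * t₀ * n.1 * (u * hF.c.xG top a) * u⁻¹ * n.1⁻¹ * (u₀ * t₀)⁻¹ := by group
  rw [h3, h1]
  group

/-- Conjugation by the Borel part normalises `U`. -/
theorem borel_conj_U (hF : Full T X R D) {u₀ t₀ z : GL D.Idx F} (hu₀ : u₀ ∈ D.posUnipotent F) (ht₀ : t₀ ∈ D.diagonalSubgroup F)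
    (hz : z ∈ D.posUnipotent F) : (u₀ * t₀) * z * (u₀ * t₀)⁻¹ ∈ D.posUnipotent F := by
  have hN : u₀ * t₀ ∈ Subgroup.normalizer (D.posUnipotent F : Set (GL D.Idx F)) :=
    mul_mem (Subgroup.le_normalizer hu₀) (hF.diagonal_le_normalizer_U ht₀)
  exact (Subgroup.mem_set_normalizer_iff.1 hN _).1 hz

/-- Rational long root elements lie in the subfield points. -/
theorem long_mem_MM {gs : ℕ → ℤ} (hs : ∀ r < D.nroots, ∀ a : F, τ.s (hF.c.xG r a) = hF.c.xG (ρ' r) ((gs r : F) * f a))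
    (hgs : ∀ r < D.nroots, ρ' r = r → gs r = 1) {β : ℕ} (hβ : β < D.nroots) (hβN : R.N ≤ β) (hρ : ρ' β = β) {c : F} (hc : f c = c) :
    hF.c.xG β c ∈ MM h := by
  refine ⟨h.twG.U_fix_le (hF.xG_mem_U hβ hβN c) ?_, ?_⟩
  · rw [hs β hβ, hρ, hgs β hβ hρ, hc]
    simp
  · rw [sig_xG hF, hc]

variable {gs : ℕ → ℤ} (hs : ∀ r < D.nroots, ∀ a : F, τ.s (hF.c.xG r a) = hF.c.xG (ρ' r) ((gs r : F) * f a))
    (hgs : ∀ r < D.nroots, ρ' r = r → gs r = 1) (hρtop : ρ' top = top)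

include hHG hMH hStar htop hmax hpos hs hgs hρtop

theorem good_of_pos {x : GL D.Idx F} (hx : x ∈ H) {r : ℕ} (hf : Form h htop x r) (hr : R.N ≤ r) : Gd hF f top x := by
  obtain ⟨u₀, hu₀, hu₀G, t₀, ht₀, ht₀G, n, hnG, u, hu, huG, e, hrr⟩ := hf
  obtain ⟨ν, hν⟩ := form_conj htop hmax hpos hu e hrr
  unfold Gd
  have hrn : r < D.nroots := by
    rw [← hrr]
    exact (hF.rhoN F n ⟨top, htop⟩).2
  apply hStar
  · have hx1 : hF.c.xG top 1 ∈ H := hMH (long_mem_MM h hs hgs htop hpos hρtop (map_one f))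
    exact mul_mem (mul_mem hx hx1) (inv_mem hx)
  · rw [hν 1]
    exact borel_conj_U hF hu₀ ht₀ (hF.xG_mem_U hrn hr _)

omit hHG hMH hStar hmax hpos hρtop hs hgs in
/-- A move by a long simple reflection. -/
theorem form_move {x : GL D.Idx F} {r : ℕ} (hf : Form h htop x r) {j : ℕ} (hj : j < D.rank) (hJ : J j = [j])
    (hρj : ρ' (D.simple j) = D.simple j) :
    ∃ c ∈ MM h, Form h htop (c * x) (X.wf j r) := by
  classical
  obtain ⟨u₀, hu₀, hu₀G, t₀, ht₀, ht₀G, n, hnG, u, hu, huG, e, hrr⟩ := hf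
  set cl : Set ℕ := {x | x ∈ J j} with hcl
  obtain ⟨y, hy, q, hq, rfl⟩ := hF.exists_UL_Q cl hu₀
  have hstab : τ.StableJ cl := h.twG.stable j hj
  have hyU := hF.UL_le_U cl hy
  have hqU := hF.radical_le_U cl hq
  have hyG := hF.c.posUnipotent_le_group hyU
  have hqG := hF.c.posUnipotent_le_group hqU
  have hfix0 : τ.s (y * q) = y * q := h.twG.G1_fix _ hu₀G
  rw [τ.s_mul hyG hqG] at hfix0
  have hz : y⁻¹ * τ.s y = q * (τ.s q)⁻¹ := by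
    have h1 : y⁻¹ * (τ.s y * τ.s q) * (τ.s q)⁻¹ = y⁻¹ * (y * q) * (τ.s q)⁻¹ := by rw [hfix0]
    calc y⁻¹ * τ.s y = y⁻¹ * (τ.s y * τ.s q) * (τ.s q)⁻¹ := by group
      _ = _ := by rw [h1]; group
  have hz1 : y⁻¹ * τ.s y ∈ D.unipotentRadical F cl ⊓ UL D F cl :=
    Subgroup.mem_inf.2 ⟨by rw [hz]; exact mul_mem hq (inv_mem (τ.s_Q hstab hq)), mul_mem (inv_mem hy) (τ.s_UL hstab hy)⟩
  rw [hF.Q_inf_UL] at hz1
  have hz2 : τ.s y = y := by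
    have h1 : y⁻¹ * τ.s y = 1 := hz1
    have := mul_left_cancel (a := y⁻¹) (b := τ.s y) (c := y) (by rw [h1]; simp)
    exact this
  have hyG1 : y ∈ h.G1 := h.twG.UL_fix j hj y hy hz2
  -- the element `y` is a rational root element
  have hQ : ∀ r, LQ D cl r ↔ r ∈ [D.simple j] := by
    intro r
    have h1 := h.lq_rs hj r
    rw [hcl, h1]
    have h2 := h.rs_eq hj
    rw [h2, hJ]
    rfl
  obtain ⟨tt, htt⟩ := hF.exists_wL_of_mem (L := [D.simple j]) (commL_of_nil (by simpa using hF.simple_lt hj) (by simp)) (by simp) hQ hy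
  have hys : y = hF.c.xG (D.simple j) (tt (D.simple j)) := by
    rw [htt, hF.wL_cons, hF.wL_nil, mul_one]
  have hyf : f (tt (D.simple j)) = tt (D.simple j) := by
    have h1 := hz2
    rw [hys, h.s_pos j hj, hρj] at h1
    exact hF.xG_param_inj (hF.simple_lt hj) h1
  have hyσ : glMap D f y = y := by
    rw [hys, sig_xG hF, hyf]
  -- the reflection
  set nj : ↥(D.monomialSubgroup F) := ((J j).map (hF.nNt F)).prod with hnj
  have hnjM : nj.1 ∈ MM h := by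
    have := nw_mem h (L := [j]) (by simpa using hj)
    have e : nw h [j] = nj := by
      unfold nw
      simp [hnj]
    rwa [e] at this
  have hnjW : hF.rhoN F nj ∈ hF.Wk cl := h.twG.nC_W j hj
  have hnjP : nj.1 ∈ D.parabolicSubgroup F cl := hF.mem_parabolic_of_rho hnjW
  refine ⟨nj.1 * y⁻¹, mul_mem hnjM (inv_mem ⟨hyG1, hyσ⟩), ?_⟩
  have hq1 : nj.1 * q * nj.1⁻¹ ∈ D.unipotentRadical F cl :=
    (Subgroup.mem_set_normalizer_iff.1 (hF.parabolic_le_normalizer cl hnjP) _).1 hq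
  have hqG1 : q ∈ h.G1 := by
    have : q = y⁻¹ * (y * q) := by group
    rw [this]
    exact mul_mem (inv_mem hyG1) hu₀G
  have ht1M : nj.1 * t₀ * nj.1⁻¹ ∈ D.diagonalSubgroup F := by
    have hrho : hF.rhoN F (nj * ⟨t₀, hF.c.diagonal_le_monomial ht₀⟩ * nj⁻¹) = 1 := by
      rw [map_mul, map_mul, hF.rhoN_of_mem_diagonal ⟨t₀, hF.c.diagonal_le_monomial ht₀⟩ ht₀, map_inv]
      simp
    exact hF.mem_diagonal_of_rhoN_eq_one hrho
  refine ⟨nj.1 * q * nj.1⁻¹, hF.radical_le_U cl hq1, mul_mem (mul_mem hnjM.1 hqG1) (inv_mem hnjM.1),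
    nj.1 * t₀ * nj.1⁻¹, ht1M, mul_mem (mul_mem hnjM.1 ht₀G) (inv_mem hnjM.1), nj * n, mul_mem hnjM.1 hnG, u, hu, huG, ?_, ?_⟩
  · rw [e]
    show nj.1 * y⁻¹ * (y * q * t₀ * n.1 * u) = nj.1 * q * nj.1⁻¹ * (nj.1 * t₀ * nj.1⁻¹) * (nj.1 * n.1) * u
    group
  · rw [map_mul, Perm.mul_apply, hnj, hF.rhoN_prod_nNt, hF.prod_wPt_apply (fun i hi => h.mem_J_lt hj hi), hJ, hrr]
    rfl

omit hStar in
theorem good_of_mul {c x : GL D.Idx F} (hc : c ∈ MM h) (hg : Gd hF f top (c * x)) : Gd hF f top x := by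
  unfold Gd at hg ⊢
  have e : x * hF.c.xG top 1 * x⁻¹ = c⁻¹ * ((c * x) * hF.c.xG top 1 * (c * x)⁻¹) * c := by group
  rw [e, map_mul, map_mul, map_inv, hg, hc.2]

variable (hj0 : j0 < D.rank) (hcart0 : 0 < D.cartan j0 top) (hcart : ∀ j < D.rank, j ≠ j0 → D.cartan j top = 0)
  (hm : ChevMonoN.checkMono T X D = true)
  (hinv : ∀ r : Fin D.nroots, R.lin D.rank (aJ {j | j ≠ j0}) (τ.ρ r : Fin D.nroots) = R.lin D.rank (aJ {j | j ≠ j0}) r)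

include hj0 hcart0 hcart hm hinv

theorem good_of_B {x : GL D.Idx F} (hx : x ∈ H) {r : ℕ} (hf : Form h htop x r) {γ : ℕ} {C : ℤ}
    (hne1 : r ≠ top) (hne2 : r ≠ D.neg top)
    (hterms : D.commTerms top r = [(γ, C, 1, 1)]) (hC : C = 1 ∨ C = -1) (hγ : γ < D.nroots) (hγN : R.N ≤ γ)
    {L : List ℕ} (hL : ∀ i ∈ L, i < D.rank) (hw1 : foldw X J L top = γ) {β' : ℕ} (hβ' : β' < D.nroots)
    (hw2 : foldw X J L β' = r) (hβQ : 0 < R.rcAt β' j0) : Gd hF f top x := by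
  obtain ⟨u₀, hu₀, hu₀G, t₀, ht₀, ht₀G, n, hnG, u, hu, huG, e, hrr⟩ := hf
  obtain ⟨ν, hν⟩ := form_conj htop hmax hpos hu e hrr
  have hrn : r < D.nroots := by
    rw [← hrr]
    exact (hF.rhoN F n ⟨top, htop⟩).2
  have hx1 : hF.c.xG top 1 ∈ H := hMH (long_mem_MM h hs hgs htop hpos hρtop (map_one f))
  obtain ⟨c, hc⟩ := hF.mem_diagonal_iff.1 ht₀
  set B₀ := u₀ * t₀ with hB₀
  let μ : F := (((chiT D c top)⁻¹ : Fˣ) : F)
  have hμ : μ ≠ 0 := Units.ne_zero _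
  have hB0top : B₀ * hF.c.xG top μ * B₀⁻¹ = hF.c.xG top 1 := by
    have h1 : t₀ * hF.c.xG top μ * t₀⁻¹ = hF.c.xG top 1 := by
      rw [hc, hF.tor_conj_xG c htop]
      congr 1
      show ((chiT D c top : Fˣ) : F) * (((chiT D c top)⁻¹ : Fˣ) : F) = 1
      rw [← Units.val_mul, mul_inv_cancel, Units.val_one]
    have h2 := top_comm_U hF htop hmax hpos hu₀ (1 : F)
    calc B₀ * hF.c.xG top μ * B₀⁻¹ = u₀ * (t₀ * hF.c.xG top μ * t₀⁻¹) * u₀⁻¹ := by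
          rw [hB₀]; group
      _ = _ := by rw [h1, h2]; group
  set ν' : F := (ν : F) * 1 with hν'
  have hν'0 : ν' ≠ 0 := by
    rw [hν', mul_one]
    exact Units.ne_zero _
  have hne1' : r ≠ top := hne1
  have hcomm := hF.xG_comm htop hrn hne1 hne2 μ ν'
  unfold ChevalleyDatum.commWord at hcomm
  rw [hterms] at hcomm
  simp only [List.map_cons, List.map_nil, Checks.wordG_cons, Checks.wordG_nil, mul_one, pow_one] at hcomm
  set e₀ : F := (C : F) * -μ * ν' with he₀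
  have hC0 : (C : F) ≠ 0 := by
    rcases hC with rfl | rfl <;> simp
  have he₀0 : e₀ ≠ 0 := mul_ne_zero (mul_ne_zero hC0 (neg_ne_zero.2 hμ)) hν'0
  have ha : x * hF.c.xG top 1 * x⁻¹ = B₀ * hF.c.xG r ν' * B₀⁻¹ := hν 1
  set a := x * hF.c.xG top 1 * x⁻¹ with hadef
  have haH : a ∈ H := mul_mem (mul_mem hx hx1) (inv_mem hx)
  -- the commutator
  have hz : B₀ * hF.c.xG γ e₀ * B₀⁻¹ = (hF.c.xG top 1 * a)⁻¹ * (a * hF.c.xG top 1) := by
    have h1 : hF.c.xG γ e₀ = (hF.c.xG top μ * hF.c.xG r ν')⁻¹ * (hF.c.xG r ν' * hF.c.xG top μ) := by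
      rw [hcomm]
      group
    rw [h1, ← hB0top, ha]
    group
  have hzH : B₀ * hF.c.xG γ e₀ * B₀⁻¹ ∈ H := by
    rw [hz]
    exact mul_mem (inv_mem (mul_mem hx1 haH)) (mul_mem haH hx1)
  have hzU : B₀ * hF.c.xG γ e₀ * B₀⁻¹ ∈ D.posUnipotent F := borel_conj_U hF hu₀ ht₀ (hF.xG_mem_U hγ hγN _)
  have hzf := hStar _ hzH hzU
  -- the word
  set w : ↥(D.monomialSubgroup F) := nw h L with hw
  have hwM : w.1 ∈ MM h := nw_mem h hL
  obtain ⟨v, hv⟩ := hF.rhoN_spec_apply w ⟨top, htop⟩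
  obtain ⟨v', hv'⟩ := hF.rhoN_spec_apply w ⟨β', hβ'⟩
  have hw1' : ((hF.rhoN F w ⟨top, htop⟩ : Fin D.nroots) : ℕ) = γ := by
    rw [hw, rhoN_nw h hL]
    exact hw1
  have hw2' : ((hF.rhoN F w ⟨β', hβ'⟩ : Fin D.nroots) : ℕ) = r := by
    rw [hw, rhoN_nw h hL]
    exact hw2
  set s₁ : F := ((v⁻¹ : Fˣ) : F) * e₀ with hs₁
  have hs₁0 : s₁ ≠ 0 := mul_ne_zero (Units.ne_zero _) he₀0
  have hv1 : w.1 * hF.c.xG top s₁ * w.1⁻¹ = hF.c.xG γ e₀ := by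
    have h1 := hv s₁
    simp only at h1
    rw [hw1'] at h1
    rw [h1, hs₁, ← mul_assoc, ← Units.val_mul, mul_inv_cancel, Units.val_one, one_mul]
  set e₁ : F := ((v'⁻¹ : Fˣ) : F) * ν' with he₁
  have hv2 : w.1 * hF.c.xG β' e₁ * w.1⁻¹ = hF.c.xG r ν' := by
    have h1 := hv' e₁
    simp only at h1
    rw [hw2'] at h1
    rw [h1, he₁, ← mul_assoc, ← Units.val_mul, mul_inv_cancel, Units.val_one, one_mul]
  set g₂ := B₀ * w.1 with hg₂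
  have hB₀G : B₀ ∈ h.G1 := mul_mem hu₀G ht₀G
  have hg₂G : g₂ ∈ h.G1 := mul_mem hB₀G hwM.1
  have hz2 : g₂ * hF.c.xG top s₁ * g₂⁻¹ = B₀ * hF.c.xG γ e₀ * B₀⁻¹ := by
    rw [← hv1, hg₂]
    group
  have ha2 : a = g₂ * hF.c.xG β' e₁ * g₂⁻¹ := by
    rw [ha, ← hv2, hg₂]
    group
  have hσg₂ : glMap D f g₂ ∈ h.G1 := sig_G1 h hg₂G
  have hk₂G : g₂⁻¹ * glMap D f g₂ ∈ h.G1 := mul_mem (inv_mem hg₂G) hσg₂
  have hk₂ : (g₂⁻¹ * glMap D f g₂) * hF.c.xG top (f s₁) * (g₂⁻¹ * glMap D f g₂)⁻¹ = hF.c.xG top s₁ := by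
    have h1 : glMap D f g₂ * hF.c.xG top (f s₁) * (glMap D f g₂)⁻¹ = g₂ * hF.c.xG top s₁ * g₂⁻¹ := by
      have h0 : glMap D f (g₂ * hF.c.xG top s₁ * g₂⁻¹) = glMap D f g₂ * hF.c.xG top (f s₁) * (glMap D f g₂)⁻¹ := by
        generalize g₂ = G
        rw [map_mul, map_mul, map_inv, sig_xG hF]
      rw [← h0, hz2, hzf]
    calc (g₂⁻¹ * glMap D f g₂) * hF.c.xG top (f s₁) * (g₂⁻¹ * glMap D f g₂)⁻¹
        = g₂⁻¹ * (glMap D f g₂ * hF.c.xG top (f s₁) * (glMap D f g₂)⁻¹) * g₂ := by group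
      _ = _ := by rw [h1]; group
  have hP := (conj_top_parab hF htop hmax hpos hj0 hcart0 hcart hm (h.G1_le_Fx hk₂G).1
    (s := f s₁) (by simpa using hs₁0) hk₂).1
  obtain ⟨a₀, ha₀M, ha₀P⟩ := rat_parabolic' h _ hinv hg₂G hP
  set w' := a₀⁻¹ * g₂ with hw'
  have hxQ : hF.c.xG β' e₁ ∈ D.unipotentRadical F {j | j ≠ j0} := by
    rw [unipotentRadical_eq]
    exact hF.xG_mem_rootClosure (hF.QU_of_rc hβ' hj0 (by simp) hβQ) _
  have hyQ := (Subgroup.mem_set_normalizer_iff.1 (hF.parabolic_le_normalizer _ ha₀P) _).1 hxQ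
  have hyE : w' * hF.c.xG β' e₁ * w'⁻¹ = a₀⁻¹ * a * a₀ := by
    rw [ha2, hw']
    group
  have hyH : w' * hF.c.xG β' e₁ * w'⁻¹ ∈ H := by
    rw [hyE]
    exact mul_mem (mul_mem (inv_mem (hMH ha₀M)) haH) (hMH ha₀M)
  have hyf := hStar _ hyH (hF.radical_le_U _ hyQ)
  rw [hyE] at hyf
  unfold Gd
  rw [← hadef]
  have e2 : a = a₀ * (a₀⁻¹ * a * a₀) * a₀⁻¹ := by group
  rw [e2, map_mul, map_mul, map_inv, hyf, ha₀M.2]

/-- The terminal positions of the highest root. -/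
def Tm (R : RootTab) (X : Extra) (D : ChevalleyDatum) (J : ℕ → List ℕ) (top j0 r : ℕ) : Prop :=
  R.N ≤ r ∨ ∃ (γ : ℕ) (C : ℤ) (L : List ℕ) (β' : ℕ), r ≠ top ∧ r ≠ D.neg top ∧ D.commTerms top r = [(γ, C, 1, 1)] ∧ (C = 1 ∨ C = -1) ∧
    γ < D.nroots ∧ R.N ≤ γ ∧ (∀ i ∈ L, i < D.rank) ∧ foldw X J L top = γ ∧ β' < D.nroots ∧ foldw X J L β' = r ∧ 0 < R.rcAt β' j0

theorem good_path {Lm : List ℕ} (hLm : ∀ j ∈ Lm, j < D.rank ∧ J j = [j] ∧ ρ' (D.simple j) = D.simple j) {x : GL D.Idx F} (hx : x ∈ H) {r : ℕ}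
    (hf : Form h htop x r) (hT : Tm R X D J top j0 (Lm.foldl (fun s j => X.wf j s) r)) : Gd hF f top x := by
  induction Lm generalizing x r with
  | nil =>
    rcases hT with hT | ⟨γ, C, L, β', hne1, hne2, hterms, hC, hγ, hγN, hL, hw1, hβ', hw2, hβQ⟩
    · exact good_of_pos h H hHG hMH hStar htop hmax hpos hs hgs hρtop hx hf hT
    · exact good_of_B h H hHG hMH hStar htop hmax hpos hs hgs hρtop hj0 hcart0 hcart hm hinv hx hf hne1 hne2 hterms hC hγ hγN hL hw1 hβ' hw2 hβQ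
  | cons j Lm ih =>
    obtain ⟨hj, hJ, hρj⟩ := hLm j (by simp)
    obtain ⟨c, hc, hf'⟩ := form_move h htop hf hj hJ hρj
    refine good_of_mul h H hHG hMH htop hmax hpos hs hgs hρtop hc ?_
    exact ih (fun i hi => hLm i (List.mem_cons_of_mem _ hi)) (mul_mem (hMH hc) hx) hf' hT

/-- All conjugates of the highest root element under `H` are rational. -/
theorem good_all (hρ : ∀ r : Fin D.nroots, ((τ.ρ r : Fin D.nroots) : ℕ) = ρ' r)
    (hT : ∀ r < D.nroots, ρ' r = r → ∃ Lm : List ℕ, (∀ j ∈ Lm, j < D.rank ∧ J j = [j] ∧ ρ' (D.simple j) = D.simple j) ∧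
      Tm R X D J top j0 (Lm.foldl (fun s j => X.wf j s) r)) {x : GL D.Idx F} (hx : x ∈ H) : Gd hF f top x := by
  obtain ⟨u₀, hu₀, hu₀G, t₀, ht₀, ht₀G, n, hnG, u, hu, huG, e⟩ := exists_form' h (hHG hx)
  have hf : Form h htop x ((hF.rhoN F n ⟨top, htop⟩ : Fin D.nroots) : ℕ) := ⟨u₀, hu₀, hu₀G, t₀, ht₀, ht₀G, n, hnG, u, hu, huG, e, rfl⟩
  have h1 := h.twG.rho_fix n hnG ⟨top, htop⟩
  have h2 : τ.ρ ⟨top, htop⟩ = ⟨top, htop⟩ := Fin.ext ((hρ _).trans hρtop)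
  rw [h2] at h1
  have h3 : ρ' ((hF.rhoN F n ⟨top, htop⟩ : Fin D.nroots) : ℕ) = ((hF.rhoN F n ⟨top, htop⟩ : Fin D.nroots) : ℕ) := by
    rw [← hρ, ← h1]
  obtain ⟨Lm, hLm, hTm⟩ := hT _ (hF.rhoN F n ⟨top, htop⟩).2 h3
  exact good_path h H hHG hMH hStar htop hmax hpos hs hgs hρtop hj0 hcart0 hcart hm hinv hLm hx hf hTm

end Over

end Cfsg.Agent.Lib.ChevTw
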