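import Mathlib
import Cfsg.Agent.Lib.ChevTw.Long

/-!
# An overgroup with rational unipotent part consists of rational elements
-/

set_option autoImplicit false
set_option linter.unusedSectionVars false
set_option linter.unusedVariables false
set_option linter.unnecessarySimpa false

namespace Cfsg.Agent.Lib.ChevTw

open Cfsg Cfsg.Lie Matrix Cfsg.Agent.Lib.Chev Cfsg.Agent.Lib.Chev.Full Cfsg.Agent.Lib.Chev.Tri
open Cfsg.Agent.Lib.ChevTransfer Cfsg.Agent.Lib.ChevAut.SubField Cfsg.Agent.Lib.ChevAut.WClosed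
open Cfsg.Agent.Lib.ChevAut.ParabFit Cfsg.Agent.Lib.ChevInv Cfsg.Agent.Lib.ChevInv.CentG
open Cfsg.Agent.Lib.ChevSub Cfsg.Agent.Lib.ChevAut.RootCent Equiv

variable {T : Tabs} {X : Extra} {R : RootTab} {D : ChevalleyDatum} {hF : Full T X R D}
variable {F : Type*} [Field F] {τ : Tw hF F} {f : F ≃+* F} {ρ' π' : ℕ → ℕ} {J : ℕ → List ℕ} {A dd : ℕ → ℕ}

/-- A class of commuting positive roots permuted by the twist, with signs making the product of root elements fixed. -/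
structure RatCl (R : RootTab) (D : ChevalleyDatum) (ρ' : ℕ → ℕ) (gs : ℕ → ℤ) (L : List ℕ) (e : ℕ → ℤ) : Prop where
  nd : L.Nodup
  lt : ∀ r ∈ L, r < D.nroots
  pos : ∀ r ∈ L, R.N ≤ r
  comm : ∀ r ∈ L, ∀ s ∈ L, s ≠ r → s ≠ D.neg r ∧ D.commTerms r s = []
  perm : (L.map ρ').Perm L
  sgn : ∀ r ∈ L, e (ρ' r) = gs r * e r
  unit : ∀ r ∈ L, e r = 1 ∨ e r = -1

variable (h : SCOK τ f ρ' π' J A dd) [Fintype F]

theorem gr_rel (hF : Full T X R D) {top : ℕ} (htop : top < D.nroots) (hmax : ∀ s < D.nroots, s ≤ top) (hpos : R.N ≤ top) :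
    ∃ (ℓ : D.Idx → ℕ) (d : ℕ) (M : ℤ), (∀ b, ℓ b < d) ∧
    (∀ b, (ℓ b : ℤ) = gr R D hF.phiW b + M) ∧
    ∀ g ∈ D.posUnipotent F, ∃ hd : ∀ b, ℓ b < d, g ∈ UT (F := F) ℓ 0 d hd :=
  exists_phi_lev hF htop hmax hpos

/-- Columns of a Bruhat form: the monomial part moves a positive root upwards. -/
theorem pos_move (hF : Full T X R D) {top : ℕ} (htop : top < D.nroots) (hmax : ∀ s < D.nroots, s ≤ top) (hpos : R.N ≤ top)
    (hm : ChevMonoN.checkMono T X D = true) {u₀ u : GL D.Idx F} (hu₀ : u₀ ∈ D.posUnipotent F) (hu : u ∈ D.posUnipotent F)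
    {n₂ : ↥(D.monomialSubgroup F)} {β : ℕ} (hβ : β < D.nroots) (hβN : R.N ≤ β) {ν : Fˣ}
    (hc : ∀ row, ((u₀ * n₂.1 * u : GL D.Idx F) : Matrix D.Idx D.Idx F) row (Sum.inr ⟨β, hβ⟩) =
      if row = Sum.inr ⟨β, hβ⟩ then (ν : F) else 0) :
    β ≤ ((hF.rhoN F n₂ ⟨β, hβ⟩ : Fin D.nroots) : ℕ) := by
  classical
  by_contra hlt
  have hlt' := not_le.1 hlt
  obtain ⟨σ, v, h1, h2⟩ := exists_good hF hm n₂.2
  have hσ : hF.rhoN F n₂ = σ := hF.rhoN_eq h1
  rw [hσ] at hlt'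
  obtain ⟨ℓ, d, M, hd, hℓ, hU⟩ := exists_phi_lev hF htop hmax hpos (F := F)
  obtain ⟨hd', hu'⟩ := hU u hu
  obtain ⟨hd'', hu₀'⟩ := hU u₀⁻¹ (inv_mem hu₀)
  have h3 := mem_UT.1 hu'
  have h4 := mem_UT.1 hu₀'
  set bβ : D.Idx := Sum.inr ⟨β, hβ⟩ with hbβ
  set bγ : D.Idx := Sum.inr (σ ⟨β, hβ⟩) with hbγ
  have hφβ : 0 < R.lin D.rank hF.phiW β := hF.phi_pos hβ hβN
  have hlev : ℓ bγ < ℓ bβ := by
    have e1 := hℓ bγ
    have e2 := hℓ bβ
    have e3 : gr R D hF.phiW bγ = R.lin D.rank hF.phiW ((σ ⟨β, hβ⟩ : Fin D.nroots) : ℕ) := gr_inr R D _ _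
    have e4 : gr R D hF.phiW bβ = R.lin D.rank hF.phiW β := gr_inr R D _ _
    have e5 := hF.phi_strict hlt' hβ
    omega
  have hne : bγ ≠ bβ := by
    intro e
    rw [e] at hlev
    exact lt_irrefl _ hlev
  -- the entry of `u₀⁻¹ * k`
  have hent : ((u₀⁻¹ * (u₀ * n₂.1 * u) : GL D.Idx F) : Matrix D.Idx D.Idx F) bγ bβ = 0 := by
    rw [Units.val_mul, Matrix.mul_apply, Finset.sum_eq_single bβ]
    · have h5 := h4 bγ bβ (by omega)
      rw [Matrix.sub_apply, sub_eq_zero, Matrix.one_apply_ne hne] at h5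
      rw [h5, zero_mul]
    · intro b _ hb
      rw [hc b, if_neg hb, mul_zero]
    · intro h
      exact absurd (Finset.mem_univ _) h
  have hent2 : ((u₀⁻¹ * (u₀ * n₂.1 * u) : GL D.Idx F) : Matrix D.Idx D.Idx F) bγ bβ = (v ⟨β, hβ⟩ : F) := by
    have e : u₀⁻¹ * (u₀ * n₂.1 * u) = n₂.1 * u := by group
    rw [e, Units.val_mul, Matrix.mul_apply, Finset.sum_eq_single bβ]
    · rw [h2 ⟨β, hβ⟩ bγ, if_pos rfl, U_diag hF htop hmax hpos hu, mul_one]
    · intro b _ hb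
      cases b with
      | inl i =>
        have h5 := h3 (Sum.inl i) bβ (by
          have e1 := hℓ (Sum.inl i)
          have e2 := hℓ bβ
          have e3 : gr R D hF.phiW (Sum.inl i) = 0 := gr_inl R D _ _
          have e4 : gr R D hF.phiW bβ = R.lin D.rank hF.phiW β := gr_inr R D _ _
          omega)
        rw [Matrix.sub_apply, sub_eq_zero, Matrix.one_apply_ne hb] at h5
        rw [h5, mul_zero]
      | inr s =>
        have hsβ : s ≠ ⟨β, hβ⟩ := fun e => hb (by rw [e])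
        rw [h2 s bγ, if_neg, zero_mul]
        intro e
        exact hsβ (σ.injective (Sum.inr.inj e).symm)
    · intro h
      exact absurd (Finset.mem_univ _) h
  rw [hent] at hent2
  exact Units.ne_zero _ hent2.symm

/-- A permutation moving each element of a family upwards fixes it. -/
theorem fix_of_up {n : ℕ} (w : Perm (Fin n)) (Lg : Fin n → Prop) (hstab : ∀ b, Lg b → Lg (w b))
    (hup : ∀ b, Lg b → (b : ℕ) ≤ (w b : ℕ)) : ∀ (m : ℕ) (b : Fin n), n - (b : ℕ) ≤ m → Lg b → w b = b := by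
  intro m
  induction m with
  | zero =>
    intro b hb
    have := b.2
    omega
  | succ m ih =>
    intro b hb hL
    by_contra hne
    have h1 : (b : ℕ) < (w b : ℕ) := lt_of_le_of_ne (hup b hL) (fun e => hne (Fin.ext e.symm))
    have h2 := ih (w b) (by have := (w b).2; omega) (hstab b hL)
    exact hne (w.injective h2)

include h

theorem wL_mem_MM {gs : ℕ → ℤ} (hs : ∀ r < D.nroots, ∀ a : F, τ.s (hF.c.xG r a) = hF.c.xG (ρ' r) ((gs r : F) * f a))
    {L : List ℕ} {e : ℕ → ℤ} (hc : RatCl R D ρ' gs L e) : hF.wL L (fun r => (e r : F)) ∈ MM h := by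
  have hcm : hF.CommL F L := commL_of_nil hc.lt hc.comm
  have hU : hF.wL L (fun r => (e r : F)) ∈ D.posUnipotent F :=
    hF.wL_mem_rootClosure (Q := D.IsPosRoot) (fun r hr => hF.isPos_iff.2 ⟨hc.lt r hr, hc.pos r hr⟩) _
  refine ⟨h.twG.U_fix_le hU ?_, ?_⟩
  · unfold Full.wL
    rw [τ.s_wordG (ρ' := ρ') (c' := fun r a => (gs r : F) * f a) _ (by
      intro p hp
      simp only [List.mem_map] at hp
      obtain ⟨r, hr, rfl⟩ := hp
      exact hc.lt r hr) (by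
      intro p hp
      simp only [List.mem_map] at hp
      obtain ⟨r, hr, rfl⟩ := hp
      exact hs r (hc.lt r hr) _)]
    have e1 : ((L.map fun r => (r, (e r : F))).map fun p => (ρ' p.1, (gs p.1 : F) * f p.2)) =
        (L.map ρ').map fun s => (s, (e s : F)) := by
      simp only [List.map_map]
      apply List.map_congr_left
      intro r hr
      simp only [Function.comp]
      rw [hc.sgn r hr, map_intCast]
      push_cast
      rfl
    rw [e1]
    apply hF.wordG_perm (hc.perm.map _)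
    intro p hp p' hp'
    have hperm := hc.perm
    simp only [List.mem_map] at hp hp'
    obtain ⟨s, hs1, rfl⟩ := hp
    obtain ⟨s', hs1', rfl⟩ := hp'
    exact hcm s (hperm.subset (List.mem_map.2 hs1)) s' (hperm.subset (List.mem_map.2 hs1')) _ _
  · unfold Full.wL
    rw [sig_word hF]
    congr 1
    simp only [List.map_map]
    apply List.map_congr_left
    intro r hr
    simp only [Function.comp, map_intCast]

theorem nw_append (L L' : List ℕ) : nw h (L ++ L') = nw h L * nw h L' := by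
  unfold nw
  rw [List.map_append, List.prod_append]

variable {top j0 : ℕ} (htop : top < D.nroots) (hmax : ∀ s < D.nroots, s ≤ top) (hpos : R.N ≤ top)
  (hj0 : j0 < D.rank) (hcart0 : 0 < D.cartan j0 top) (hcart : ∀ j < D.rank, j ≠ j0 → D.cartan j top = 0)
  (hm : ChevMonoN.checkMono T X D = true)

include htop hmax hpos hj0 hcart0 hcart hm

/-- Centralising a conjugate of the highest root element gives a column. -/
theorem col_of_comm {k : GL D.Idx F} (hk : k ∈ D.group F) {L : List ℕ} (hL : ∀ i ∈ L, i < D.rank)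
    (hc : k * ((nw h L).1 * hF.c.xG top 1 * (nw h L).1⁻¹) * k⁻¹ = (nw h L).1 * hF.c.xG top 1 * (nw h L).1⁻¹) :
    ∃ ν : Fˣ, ∀ row, (k : Matrix D.Idx D.Idx F) row (Sum.inr (hF.rhoN F (nw h L) ⟨top, htop⟩)) =
      if row = Sum.inr (hF.rhoN F (nw h L) ⟨top, htop⟩) then (ν : F) else 0 := by
  classical
  set W := nw h L with hW
  have hWG : W.1 ∈ D.group F := (h.G1_le_Fx (nw_mem h hL).1).1
  have hk' : W.1⁻¹ * k * W.1 ∈ D.group F := mul_mem (mul_mem (inv_mem hWG) hk) hWG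
  have hc' : (W.1⁻¹ * k * W.1) * hF.c.xG top 1 * (W.1⁻¹ * k * W.1)⁻¹ = hF.c.xG top 1 := by
    calc (W.1⁻¹ * k * W.1) * hF.c.xG top 1 * (W.1⁻¹ * k * W.1)⁻¹
        = W.1⁻¹ * (k * (W.1 * hF.c.xG top 1 * W.1⁻¹) * k⁻¹) * W.1 := by group
      _ = _ := by rw [hc]; group
  obtain ⟨-, ν, hν⟩ := conj_top_parab hF htop hmax hpos hj0 hcart0 hcart hm hk' one_ne_zero hc'
  obtain ⟨σ, u, h1, h2⟩ := exists_good hF hm W.2
  have hσ : hF.rhoN F W = σ := hF.rhoN_eq h1
  rw [hσ]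
  refine ⟨ν, fun row => ?_⟩
  have e : k * W.1 = W.1 * (W.1⁻¹ * k * W.1) := by group
  have h3 : ((k * W.1 : GL D.Idx F) : Matrix D.Idx D.Idx F) row (Sum.inr ⟨top, htop⟩) =
      ((W.1 * (W.1⁻¹ * k * W.1) : GL D.Idx F) : Matrix D.Idx D.Idx F) row (Sum.inr ⟨top, htop⟩) := by rw [← e]
  rw [Units.val_mul k W.1, Units.val_mul W.1 (W.1⁻¹ * k * W.1), Matrix.mul_apply, Matrix.mul_apply,
    Finset.sum_eq_single (Sum.inr (σ ⟨top, htop⟩)), Finset.sum_eq_single (Sum.inr ⟨top, htop⟩)] at h3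
  · rw [h2 ⟨top, htop⟩ (Sum.inr (σ ⟨top, htop⟩)), if_pos rfl, hν (Sum.inr ⟨top, htop⟩), if_pos rfl,
      h2 ⟨top, htop⟩ row] at h3
    have hu : ((u ⟨top, htop⟩ : Fˣ) : F) ≠ 0 := Units.ne_zero _
    by_cases hr : row = Sum.inr (σ ⟨top, htop⟩)
    · rw [if_pos hr] at h3 ⊢
      have : (k : Matrix D.Idx D.Idx F) row (Sum.inr (σ ⟨top, htop⟩)) * ((u ⟨top, htop⟩ : Fˣ) : F) = (ν : F) * ((u ⟨top, htop⟩ : Fˣ) : F) := by
        rw [h3, mul_comm]
      exact mul_right_cancel₀ hu this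
    · rw [if_neg hr] at h3 ⊢
      rw [zero_mul] at h3
      exact (mul_eq_zero.1 h3).resolve_right hu
  · intro b _ hb
    rw [hν b, if_neg hb, mul_zero]
  · intro h
    exact absurd (Finset.mem_univ _) h
  · intro b _ hb
    rw [h2 ⟨top, htop⟩ b, if_neg hb, mul_zero]
  · intro h
    exact absurd (Finset.mem_univ _) h

variable (hρ : ∀ r : Fin D.nroots, ((τ.ρ r : Fin D.nroots) : ℕ) = ρ' r) (hρtop : ρ' top = top)
  (hTr : ∀ β, R.N ≤ β → β < D.nroots → ρ' β = β → ∃ L : List ℕ, (∀ i ∈ L, i < D.rank) ∧ foldw X J L top = β)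
  (hSum : ∀ m < D.rank, ρ' (D.simple m) = D.simple m ∨ ∃ b₁ b₀, b₀ < b₁ ∧ b₁ < D.nroots ∧ R.N ≤ b₀ ∧ ρ' b₁ = b₁ ∧ ρ' b₀ = b₀ ∧
    ∀ j < D.rank, R.rcAt b₁ j - R.rcAt b₀ j = if j ∈ J m then 1 else 0)

include hρ hρtop hTr hSum

/-- Centralising the conjugates of the highest root element forces a Borel element. -/
theorem cent_B {k : GL D.Idx F} (hk : k ∈ h.G1)
    (hc : ∀ L : List ℕ, (∀ i ∈ L, i < D.rank) →
      k * ((nw h L).1 * hF.c.xG top 1 * (nw h L).1⁻¹) * k⁻¹ = (nw h L).1 * hF.c.xG top 1 * (nw h L).1⁻¹) :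
    k ∈ D.borelSubgroup F := by
  classical
  obtain ⟨u₀, hu₀, hu₀G, t₀, ht₀, ht₀G, n, hnG, u, hu, huG, e⟩ := exists_form' h hk
  have hkG : k ∈ D.group F := (h.G1_le_Fx hk).1
  let n₂ : ↥(D.monomialSubgroup F) := ⟨t₀, hF.c.diagonal_le_monomial ht₀⟩ * n
  have hn₂ : n₂.1 = t₀ * n.1 := rfl
  have hrho : hF.rhoN F n₂ = hF.rhoN F n := by
    show hF.rhoN F (⟨t₀, hF.c.diagonal_le_monomial ht₀⟩ * n) = _
    rw [map_mul, hF.rhoN_of_mem_diagonal ⟨t₀, hF.c.diagonal_le_monomial ht₀⟩ ht₀, one_mul]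
  have e2 : k = u₀ * n₂.1 * u := by
    rw [e, hn₂]
    group
  set w := hF.rhoN F n with hw
  let Lg : Fin D.nroots → Prop := fun b => R.N ≤ (b : ℕ) ∧ ρ' b = b
  have hwρ : ∀ b : Fin D.nroots, w (τ.ρ b) = τ.ρ (w b) := h.twG.rho_fix n hnG
  have hup : ∀ b, Lg b → (b : ℕ) ≤ (w b : ℕ) := by
    rintro b ⟨hb1, hb2⟩
    obtain ⟨L, hL, hL2⟩ := hTr b hb1 b.2 hb2
    obtain ⟨ν, hν⟩ := col_of_comm h htop hmax hpos hj0 hcart0 hcart hm hkG hL (hc L hL)
    have e3 : hF.rhoN F (nw h L) ⟨top, htop⟩ = b := by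
      apply Fin.ext
      rw [rhoN_nw h hL]
      exact hL2
    rw [e3] at hν
    have h1 := pos_move hF htop hmax hpos hm hu₀ hu (n₂ := n₂) b.2 hb1 (ν := ν) (by
      intro row
      rw [← e2]
      exact hν row)
    rw [hrho] at h1
    exact h1
  have hstab : ∀ b, Lg b → Lg (w b) := by
    intro b hb
    refine ⟨le_trans hb.1 (hup b hb), ?_⟩
    have h1 := hwρ b
    have h2 : τ.ρ b = b := Fin.ext ((hρ b).trans hb.2)
    rw [h2] at h1
    rw [← hρ, ← h1]
  have hfix : ∀ b, Lg b → w b = b := fun b hb => fix_of_up w Lg hstab hup _ b le_rfl hb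
  -- positivity on simple roots
  have hWw : w ∈ hF.Wk Set.univ := hF.rhoN_mem_Wk n
  have hone : w = 1 := by
    apply hF.Wk_pos_eq_one hWw
    intro m hm' _
    rcases hSum m hm' with h1 | ⟨b₁, b₀, hlt, hb₁, hb₀, hρ₁, hρ₀, hrc⟩
    · have h2 := hfix ⟨D.simple m, hF.simple_lt hm'⟩ ⟨hF.simple_ge hm', h1⟩
      rw [h2]
      exact hF.simple_ge hm'
    · obtain ⟨a, ha⟩ := exists_lin_transport hF (Subgroup.inv_mem _ hWw) hF.phiW
      have ha' : ∀ r : Fin D.nroots, R.lin D.rank a r = R.lin D.rank hF.phiW (w r) := by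
        intro r
        have := ha (w r)
        simpa using this
      have hb₀n : b₀ < D.nroots := by omega
      have e1 : R.lin D.rank a b₁ = R.lin D.rank hF.phiW b₁ := by
        have h2 := ha' ⟨b₁, hb₁⟩
        rw [hfix ⟨b₁, hb₁⟩ ⟨le_trans hb₀ hlt.le, hρ₁⟩] at h2
        exact h2
      have e0 : R.lin D.rank a b₀ = R.lin D.rank hF.phiW b₀ := by
        have h2 := ha' ⟨b₀, hb₀n⟩
        rw [hfix ⟨b₀, hb₀n⟩ ⟨hb₀, hρ₀⟩] at h2
        exact h2
      have hdiff := hF.phi_strict hlt hb₁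
      have hex : ∃ j ∈ J m, 0 < a j := by
        by_contra hcon
        push_neg at hcon
        have h3 : R.lin D.rank a b₁ - R.lin D.rank a b₀ = ∑ j ∈ Finset.range D.rank, a j * (if j ∈ J m then 1 else 0) := by
          unfold RootTab.lin
          rw [← Finset.sum_sub_distrib]
          apply Finset.sum_congr rfl
          intro j hj
          rw [← hrc j (Finset.mem_range.1 hj)]
          ring
        have h4 : ∑ j ∈ Finset.range D.rank, a j * (if j ∈ J m then (1 : ℤ) else 0) ≤ 0 := by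
          apply Finset.sum_nonpos
          intro j _
          split_ifs with h5
          · rw [mul_one]
            exact hcon j h5
          · simp
        omega
      obtain ⟨j, hjJ, hj⟩ := hex
      have hjlt : j < D.rank := h.mem_J_lt hm' hjJ
      have h5 := ha' ⟨D.simple j, hF.simple_lt hjlt⟩
      simp only at h5
      rw [hF.lin_simple _ hjlt] at h5
      have h6 : R.N ≤ ((w ⟨D.simple j, hF.simple_lt hjlt⟩ : Fin D.nroots) : ℕ) := by
        by_contra h7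
        have h8 := hF.phi_neg (not_le.1 h7)
        omega
      exact (h.twG.orbit_sign hwρ hm' hjlt hjJ).1 h6
  have hnT := hF.mem_diagonal_of_rhoN_eq_one hone
  rw [e]
  exact mul_mem (mul_mem (mul_mem (U_le_B hF hu₀) (hF.c.diagonal_le_borel ht₀)) (hF.c.diagonal_le_borel hnT)) (U_le_B hF hu)

/-- Centralising all conjugates of the highest root element forces a torus element. -/
theorem cent_T {k : GL D.Idx F} (hk : k ∈ h.G1) {L₀ : List ℕ} (hL₀ : ∀ i ∈ L₀, i < D.rank)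
    (hw0 : ∀ s < D.nroots, (R.N ≤ s ↔ foldw X J L₀ s < R.N))
    (hc : ∀ L : List ℕ, (∀ i ∈ L, i < D.rank) →
      k * ((nw h L).1 * hF.c.xG top 1 * (nw h L).1⁻¹) * k⁻¹ = (nw h L).1 * hF.c.xG top 1 * (nw h L).1⁻¹) :
    k ∈ D.diagonalSubgroup F := by
  set w₀ := nw h L₀ with hw₀
  have hw₀M := nw_mem h hL₀
  rw [← hw₀] at hw₀M
  have hkB := cent_B h htop hmax hpos hj0 hcart0 hcart hm hρ hρtop hTr hSum hk hc
  have hk' : w₀.1⁻¹ * k * w₀.1 ∈ D.borelSubgroup F := by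
    apply cent_B h htop hmax hpos hj0 hcart0 hcart hm hρ hρtop hTr hSum
      (mul_mem (mul_mem (inv_mem hw₀M.1) hk) hw₀M.1)
    intro L hL
    have h1 := hc (L₀ ++ L) (by
      intro i hi
      rcases List.mem_append.1 hi with h2 | h2
      · exact hL₀ i h2
      · exact hL i h2)
    rw [nw_append h] at h1
    have e : ((nw h L₀ * nw h L : ↥(D.monomialSubgroup F)) : GL D.Idx F) = w₀.1 * (nw h L).1 := rfl
    rw [e] at h1
    set y := (nw h L).1 * hF.c.xG top 1 * (nw h L).1⁻¹ with hy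
    have e2 : w₀.1 * (nw h L).1 * hF.c.xG top 1 * (w₀.1 * (nw h L).1)⁻¹ = w₀.1 * y * w₀.1⁻¹ := by
      rw [hy]
      group
    rw [e2] at h1
    calc (w₀.1⁻¹ * k * w₀.1) * y * (w₀.1⁻¹ * k * w₀.1)⁻¹
        = w₀.1⁻¹ * (k * (w₀.1 * y * w₀.1⁻¹) * k⁻¹) * w₀.1 := by group
      _ = _ := by rw [h1]; group
  obtain ⟨u, hu⟩ := hF.rhoN_spec w₀
  refine hF.borel_inf_conj hu.inv (inv_mem w₀.2) ?_ hkB (by simpa using hk')
  intro s
  have h1 := hw0 (((hF.rhoN F w₀)⁻¹ s : Fin D.nroots) : ℕ) (Fin.is_lt _)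
  have h2 : foldw X J L₀ (((hF.rhoN F w₀)⁻¹ s : Fin D.nroots) : ℕ) = (s : ℕ) := by
    have h3 := rhoN_nw h hL₀ ((hF.rhoN F w₀)⁻¹ s)
    rw [← h3, ← hw₀]
    simp
  rw [h2] at h1
  have h4 : ((hF.rhoN F w₀)⁻¹ s : Fin D.nroots).val < R.N ∨ R.N ≤ ((hF.rhoN F w₀)⁻¹ s : Fin D.nroots).val := lt_or_ge _ _
  omega

variable (H : Subgroup (GL D.Idx F)) (hHG : H ≤ h.G1) (hMH : MM h ≤ H)
  (hStar : ∀ u ∈ H, u ∈ D.posUnipotent F → glMap D f u = u)
  {gs : ℕ → ℤ} (hs : ∀ r < D.nroots, ∀ a : F, τ.s (hF.c.xG r a) = hF.c.xG (ρ' r) ((gs r : F) * f a))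
  (hgs : ∀ r < D.nroots, ρ' r = r → gs r = 1)
  (hinv : ∀ r : Fin D.nroots, R.lin D.rank (aJ {j | j ≠ j0}) (τ.ρ r : Fin D.nroots) = R.lin D.rank (aJ {j | j ≠ j0}) r)
  (hT : ∀ r < D.nroots, ρ' r = r → ∃ Lm : List ℕ, (∀ j ∈ Lm, j < D.rank ∧ J j = [j] ∧ ρ' (D.simple j) = D.simple j) ∧
      Tm R X D J top j0 (Lm.foldl (fun s j => X.wf j s) r))

include H hHG hMH hStar hs hgs hinv hT

/-- The second half of the main theorem: an overgroup with rational unipotent part is rational. -/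
theorem part_two {L₀ : List ℕ} (hL₀ : ∀ i ∈ L₀, i < D.rank)
    (hw0 : ∀ s < D.nroots, (R.N ≤ s ↔ foldw X J L₀ s < R.N))
    (hfin : ∀ c : Fin D.rank → Fˣ, (∀ β < D.nroots, R.N ≤ β → ρ' β = β → chiT D c β = 1) →
      (∀ r, (∃ L e, RatCl R D ρ' gs L e ∧ (∀ s ∈ L, 0 < R.rcAt s j0) ∧ r ∈ L) → chiT D c r = 1) →
      tor R D c = (1 : GL D.Idx F))
    {x : GL D.Idx F} (hx : x ∈ H) : glMap D f x = x := by
  classical
  have hgood : ∀ y ∈ H, Gd hF f top y := fun y hy =>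
    good_all h H hHG hMH hStar htop hmax hpos hs hgs hρtop hj0 hcart0 hcart hm hinv hρ hT hy
  have hxG := hHG hx
  set k := x⁻¹ * glMap D f x with hk
  have hσxG := sig_G1 h hxG
  have hkG : k ∈ h.G1 := mul_mem (inv_mem hxG) hσxG
  have hcomm : ∀ L : List ℕ, (∀ i ∈ L, i < D.rank) →
      k * ((nw h L).1 * hF.c.xG top 1 * (nw h L).1⁻¹) * k⁻¹ = (nw h L).1 * hF.c.xG top 1 * (nw h L).1⁻¹ := by
    intro L hL
    have hwM := nw_mem h hL
    have h1 := hgood (x * (nw h L).1) (mul_mem hx (hMH hwM))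
    unfold Gd at h1
    set W := (nw h L).1 with hW
    set y := W * hF.c.xG top 1 * W⁻¹ with hy
    have e1 : x * W * hF.c.xG top 1 * (x * W)⁻¹ = x * y * x⁻¹ := by
      rw [hy]
      group
    rw [e1] at h1
    have e2 : glMap D f (x * y * x⁻¹) = glMap D f x * y * (glMap D f x)⁻¹ := by
      have e3 : glMap D f y = y := by
        rw [hy, map_mul, map_mul, map_inv, hwM.2, sig_xG hF, map_one]
      rw [map_mul, map_mul, map_inv, e3]
    rw [e2] at h1
    rw [hk]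
    calc (x⁻¹ * glMap D f x) * y * (x⁻¹ * glMap D f x)⁻¹
        = x⁻¹ * (glMap D f x * y * (glMap D f x)⁻¹) * x := by group
      _ = _ := by rw [h1]; group
  have hkT := cent_T h htop hmax hpos hj0 hcart0 hcart hm hρ hρtop hTr hSum hkG hL₀ hw0 hcomm
  obtain ⟨c, hc⟩ := hF.mem_diagonal_iff.1 hkT
  -- the long roots
  have hlong : ∀ β < D.nroots, R.N ≤ β → ρ' β = β → chiT D c β = 1 := by
    intro β hβ hβN hρβ
    obtain ⟨L, hL, hL2⟩ := hTr β hβN hβ hρβ
    obtain ⟨v, hv⟩ := hF.rhoN_spec_apply (nw h L) ⟨top, htop⟩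
    have h1 := hcomm L hL
    rw [hv 1] at h1
    have e3 : ((hF.rhoN F (nw h L) ⟨top, htop⟩ : Fin D.nroots) : ℕ) = β := by
      rw [rhoN_nw h hL]
      exact hL2
    rw [e3, hc, hF.tor_conj_xG c hβ] at h1
    have h2 := hF.xG_param_inj hβ h1
    have h3 : ((v : F) * 1) ≠ 0 := by
      rw [mul_one]
      exact Units.ne_zero _
    apply Units.ext
    rw [Units.val_one]
    exact mul_right_cancel₀ h3 (by rw [h2, one_mul])
  -- the classes in the radical
  have hP : k ∈ D.parabolicSubgroup F {j | j ≠ j0} := by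
    have h1 := hcomm [] (by simp)
    have e : (nw h []).1 = 1 := rfl
    rw [e] at h1
    simp only [one_mul, inv_one, mul_one] at h1
    exact (conj_top_parab hF htop hmax hpos hj0 hcart0 hcart hm (h.G1_le_Fx hkG).1 one_ne_zero h1).1
  obtain ⟨a, haM, hay⟩ := rat_parabolic' h _ hinv hxG hP
  have hshort : ∀ r, (∃ L e, RatCl R D ρ' gs L e ∧ (∀ s ∈ L, 0 < R.rcAt s j0) ∧ r ∈ L) → chiT D c r = 1 := by
    rintro r ⟨L, e, hcl, hL0, hrL⟩
    have hzM := wL_mem_MM h hs hcl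
    set z := hF.wL L (fun r => (e r : F)) with hz
    have hzQ : z ∈ D.unipotentRadical F {j | j ≠ j0} := by
      rw [unipotentRadical_eq]
      exact hF.wL_mem_rootClosure (fun s hs' => hF.QU_of_rc (hcl.lt s hs') hj0 (by simp) (hL0 s hs')) _
    set y := a⁻¹ * x with hy
    have hyH : y ∈ H := mul_mem (inv_mem (hMH haM)) hx
    have h1 := (Subgroup.mem_set_normalizer_iff.1 (hF.parabolic_le_normalizer _ hay) _).1 hzQ
    have h2 := hStar _ (mul_mem (mul_mem hyH (hMH hzM)) (inv_mem hyH)) (hF.radical_le_U _ h1)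
    rw [map_mul, map_mul, map_inv, hzM.2] at h2
    have e1 : glMap D f y = a⁻¹ * glMap D f x := by
      rw [hy, map_mul, map_inv, haM.2]
    have h3 : k * z * k⁻¹ = z := by
      rw [e1] at h2
      rw [hk]
      have e2 : (x⁻¹ * glMap D f x) * z * (x⁻¹ * glMap D f x)⁻¹ = y⁻¹ * (a⁻¹ * glMap D f x * z * (a⁻¹ * glMap D f x)⁻¹) * y := by
        rw [hy]
        group
      rw [e2, h2]
      group
    rw [hc, hz, hF.tor_conj_wL c hcl.lt] at h3
    have h4 := hF.wL_inj (commL_of_nil hcl.lt hcl.comm) hcl.nd (fun s hs' => ⟨hcl.pos s hs', hcl.lt s hs'⟩) h3 r hrL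
    have h5 : ((e r : ℤ) : F) ≠ 0 := by
      rcases hcl.unit r hrL with h6 | h6 <;> rw [h6] <;> simp
    apply Units.ext
    rw [Units.val_one]
    exact mul_right_cancel₀ h5 (by rw [h4, one_mul])
  have hone := hfin c hlong hshort
  rw [← hc] at hone
  have := mul_left_cancel (a := x⁻¹) (b := glMap D f x) (c := x) (by rw [← hk, hone]; simp)
  exact this

end Cfsg.Agent.Lib.ChevTw
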