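import Mathlib
import Cfsg.Agent.Lib.ChevTw.PartII

/-!
# The filtration of the unipotent group by a level function
-/

set_option autoImplicit false
set_option linter.unusedSectionVars false
set_option linter.unusedVariables false
set_option linter.unnecessarySimpa false

namespace Cfsg.Agent.Lib.ChevTw

open Cfsg Cfsg.Lie Matrix Cfsg.Agent.Lib.Chev Cfsg.Agent.Lib.Chev.Full Cfsg.Agent.Lib.Chev.Tri
open Cfsg.Agent.Lib.ChevTransfer Cfsg.Agent.Lib.ChevAut.SubField Cfsg.Agent.Lib.ChevAut.WClosed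
open Cfsg.Agent.Lib.ChevAut.ParabFit Cfsg.Agent.Lib.ChevInv Cfsg.Agent.Lib.ChevInv.CentG
open Cfsg.Agent.Lib.ChevSub Cfsg.Agent.Lib.ChevAut.RootCent Equiv

variable {T : Tabs} {X : Extra} {R : RootTab} {D : ChevalleyDatum} (hF : Full T X R D)
variable {F : Type*} [Field F]

/-- The subgroup generated by the positive root elements of level at least `m`. -/
def Up (R : RootTab) (D : ChevalleyDatum) (a : ℕ → ℤ) (F : Type*) [Field F] (m : ℕ) : Subgroup (GL D.Idx F) :=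
  Full.rootClosure D F (fun r => r < D.nroots ∧ R.N ≤ r ∧ (m : ℤ) ≤ R.lin D.rank a r)

variable {a : ℕ → ℤ} (hlv : ∀ r < D.nroots, R.N ≤ r → 1 ≤ R.lin D.rank a r)

include hF

omit hF in
theorem xG_mem_Up (hF : Full T X R D) {m r : ℕ} (hr : r < D.nroots) (hN : R.N ≤ r) (hm : (m : ℤ) ≤ R.lin D.rank a r) (t : F) :
    hF.c.xG r t ∈ Up R D a F m :=
  hF.xG_mem_rootClosure (Q := fun r => r < D.nroots ∧ R.N ≤ r ∧ (m : ℤ) ≤ R.lin D.rank a r) ⟨hr, hN, hm⟩ t

theorem Up_le_U (m : ℕ) : Up R D a F m ≤ D.posUnipotent F := by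
  unfold Up Full.rootClosure ChevalleyDatum.posUnipotent
  apply Subgroup.closure_mono
  rintro g ⟨s, t, ⟨h1, h2, _⟩, hg⟩
  exact ⟨s, t, hF.isPos_iff.2 ⟨h1, h2⟩, hg⟩

theorem Up_anti {m n : ℕ} (h : m ≤ n) : Up R D a F n ≤ Up R D a F m := by
  unfold Up Full.rootClosure
  apply Subgroup.closure_mono
  rintro g ⟨s, t, ⟨h1, h2, h3⟩, hg⟩
  refine ⟨s, t, ⟨h1, h2, ?_⟩, hg⟩
  have : (m : ℤ) ≤ n := by exact_mod_cast h
  omega

include hlv

theorem U_le_Up_one : D.posUnipotent F ≤ Up R D a F 1 := by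
  unfold Up Full.rootClosure ChevalleyDatum.posUnipotent
  apply Subgroup.closure_mono
  rintro g ⟨s, t, hs, hg⟩
  obtain ⟨h1, h2⟩ := hF.isPos_iff.1 hs
  exact ⟨s, t, ⟨h1, h2, by simpa using hlv s h1 h2⟩, hg⟩

omit hlv in
theorem lin_term {r s : ℕ} (hr : r < D.nroots) (hs : s < D.nroots) (h1 : s ≠ r) (h2 : s ≠ D.neg r)
    {c : ℕ × ℤ × ℕ × ℕ} (hc : c ∈ D.commTerms r s) :
    0 < c.2.2.1 ∧ 0 < c.2.2.2 ∧ R.lin D.rank a c.1 = (c.2.2.1 : ℤ) * R.lin D.rank a r + (c.2.2.2 : ℤ) * R.lin D.rank a s := by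
  obtain ⟨h3, h4, h5, h6⟩ := hF.commTerms_spec hr hs h1 h2 hc
  refine ⟨h4, h5, ?_⟩
  unfold RootTab.lin
  rw [Finset.mul_sum, Finset.mul_sum, ← Finset.sum_add_distrib]
  apply Finset.sum_congr rfl
  intro j hj
  rw [h6 j (Finset.mem_range.1 hj)]
  ring

omit hlv in
theorem ne_neg_of_pos {r s : ℕ} (hr : r < D.nroots) (hrN : R.N ≤ r) (hsN : R.N ≤ s) : s ≠ D.neg r := by
  have := hF.neg_lt_N hr hrN
  omega

/-- `U` normalises the filtration. -/
theorem U_le_norm (m : ℕ) : D.posUnipotent F ≤ Subgroup.normalizer (Up R D a F m : Set (GL D.Idx F)) := by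
  unfold ChevalleyDatum.posUnipotent
  rw [Subgroup.closure_le]
  rintro g ⟨r, t, hr, hg⟩
  obtain ⟨h1, h2⟩ := hF.isPos_iff.1 hr
  rw [SetLike.mem_coe, hF.c.eq_xG hg]
  apply hF.xG_mem_normalizer h1
  · rintro s ⟨h3, h4, _⟩
    exact ⟨h3, ne_neg_of_pos hF h1 h2 h4⟩
  · rintro s ⟨h3, h4, h5⟩ hsr c hc
    have h6 := ne_neg_of_pos hF h1 h2 h4
    obtain ⟨h7, h8, h9⟩ := lin_term (a := a) hF h1 h3 hsr h6 hc
    obtain ⟨h10, h11, h12⟩ := hF.commTerm_pos h1 h3 hsr h6 hc h2 h4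
    obtain ⟨h13, _⟩ := hF.commTerms_spec h1 h3 hsr h6 hc
    refine ⟨h13, h10, ?_⟩
    have h14 := hlv r h1 h2
    have h15 : (1 : ℤ) ≤ c.2.2.1 := by exact_mod_cast h7
    have h16 : (1 : ℤ) ≤ c.2.2.2 := by exact_mod_cast h8
    rw [h9]
    nlinarith

theorem conj_Up {m : ℕ} {b v : GL D.Idx F} (hb : b ∈ D.posUnipotent F) (hv : v ∈ Up R D a F m) :
    b * v * b⁻¹ ∈ Up R D a F m :=
  (Subgroup.mem_set_normalizer_iff.1 (U_le_norm hF hlv m hb) v).1 hv

/-- Commutators on generators. -/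
theorem comm_gen {m r s : ℕ} (hr : r < D.nroots) (hrN : R.N ≤ r) (hm : (m : ℤ) ≤ R.lin D.rank a r)
    (hs : s < D.nroots) (hsN : R.N ≤ s) (t u : F) :
    hF.c.xG r t * hF.c.xG s u * (hF.c.xG r t)⁻¹ * (hF.c.xG s u)⁻¹ ∈ Up R D a F (m + 1) := by
  by_cases hsr : s = r
  · subst hsr
    have : hF.c.xG s t * hF.c.xG s u = hF.c.xG s u * hF.c.xG s t := by
      rw [hF.c.xG_add, hF.c.xG_add, add_comm]
    rw [this]
    simp [Subgroup.one_mem]
  · have h6 := ne_neg_of_pos hF hr hrN hsN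
    rw [hF.xG_conj hr hs hsr h6]
    have hU := hF.xG_mem_U hs hsN u
    have h7 : hF.c.wordG (D.commWord F r s (-t) u) ∈ Up R D a F (m + 1) := by
      apply hF.c.wordG_mem
      intro p hp
      simp only [ChevalleyDatum.commWord, List.mem_map] at hp
      obtain ⟨c, hc, rfl⟩ := hp
      obtain ⟨h7, h8, h9⟩ := lin_term (a := a) hF hr hs hsr h6 hc
      obtain ⟨h10, h11, h12⟩ := hF.commTerm_pos hr hs hsr h6 hc hrN hsN
      obtain ⟨h13, _⟩ := hF.commTerms_spec hr hs hsr h6 hc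
      refine xG_mem_Up hF h13 h10 ?_ _
      have h14 := hlv r hr hrN
      have h14' := hlv s hs hsN
      have h15 : (1 : ℤ) ≤ c.2.2.1 := by exact_mod_cast h7
      have h16 : (1 : ℤ) ≤ c.2.2.2 := by exact_mod_cast h8
      rw [h9]
      push_cast
      nlinarith
    exact conj_Up hF hlv hU h7

/-- Commutators of `Up m` with `U` lie in `Up (m + 1)`. -/
theorem comm_step {m : ℕ} {u y : GL D.Idx F} (hu : u ∈ Up R D a F m) (hy : y ∈ D.posUnipotent F) :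
    u * y * u⁻¹ * y⁻¹ ∈ Up R D a F (m + 1) := by
  have hUN : ∀ {b v : GL D.Idx F}, b ∈ D.posUnipotent F → v ∈ Up R D a F (m + 1) → b * v * b⁻¹ ∈ Up R D a F (m + 1) :=
    fun hb hv => conj_Up hF hlv hb hv
  have hleU := Up_le_U (a := a) (F := F) hF m
  -- first for generators `y`
  have h1 : ∀ (s : ℕ) (b : F), s < D.nroots → R.N ≤ s → ∀ u ∈ Up R D a F m,
      u * hF.c.xG s b * u⁻¹ * (hF.c.xG s b)⁻¹ ∈ Up R D a F (m + 1) := by
    intro s b hs hsN u hu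
    have huU := hu
    unfold Up Full.rootClosure at hu
    induction hu using Subgroup.closure_induction with
    | mem g hg =>
      obtain ⟨r, t, ⟨h2, h3, h4⟩, hg⟩ := hg
      rw [hF.c.eq_xG hg]
      exact comm_gen hF hlv h2 h3 h4 hs hsN t b
    | one => simp [Subgroup.one_mem]
    | mul x z hx hz ihx ihz =>
      have hx' : x ∈ Up R D a F m := hx
      have hz' : z ∈ Up R D a F m := hz
      have e : x * z * hF.c.xG s b * (x * z)⁻¹ * (hF.c.xG s b)⁻¹ =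
          (x * (z * hF.c.xG s b * z⁻¹ * (hF.c.xG s b)⁻¹) * x⁻¹) * (x * hF.c.xG s b * x⁻¹ * (hF.c.xG s b)⁻¹) := by
        group
      rw [e]
      exact mul_mem (hUN (hleU hx') (ihz hz')) (ihx hx')
    | inv x hx ihx =>
      have hx' : x ∈ Up R D a F m := hx
      have e : x⁻¹ * hF.c.xG s b * x⁻¹⁻¹ * (hF.c.xG s b)⁻¹ =
          x⁻¹ * (x * hF.c.xG s b * x⁻¹ * (hF.c.xG s b)⁻¹)⁻¹ * x⁻¹⁻¹ := by
        group
      rw [e]
      exact hUN (inv_mem (hleU hx')) (inv_mem (ihx hx'))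
  have hy' := hy
  unfold ChevalleyDatum.posUnipotent at hy
  induction hy using Subgroup.closure_induction with
  | mem g hg =>
    obtain ⟨r, t, hr, hg⟩ := hg
    obtain ⟨h2, h3⟩ := hF.isPos_iff.1 hr
    rw [hF.c.eq_xG hg]
    exact h1 r t h2 h3 u hu
  | one => simp [Subgroup.one_mem]
  | mul x z hx hz ihx ihz =>
    have e : u * (x * z) * u⁻¹ * (x * z)⁻¹ = (u * x * u⁻¹ * x⁻¹) * (x * (u * z * u⁻¹ * z⁻¹) * x⁻¹) := by
      group
    rw [e]
    exact mul_mem (ihx hx) (hUN hx (ihz hz))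
  | inv x hx ihx =>
    have e : u * x⁻¹ * u⁻¹ * x⁻¹⁻¹ = x⁻¹ * (u * x * u⁻¹ * x⁻¹)⁻¹ * x⁻¹⁻¹ := by
      group
    rw [e]
    exact hUN (inv_mem hx) (inv_mem (ihx hx))

/-- Factorisation of an element of `Up m`: the part of level `m` and a deeper part. -/
theorem exists_fac {m : ℕ} {L : List ℕ} (hL : ∀ r, r ∈ L ↔ r < D.nroots ∧ R.N ≤ r ∧ R.lin D.rank a r = m)
    (hc : hF.CommL F L) (hnd : L.Nodup) {u : GL D.Idx F} (hu : u ∈ Up R D a F m) :
    ∃ (t : ℕ → F) (u' : GL D.Idx F), u' ∈ Up R D a F (m + 1) ∧ u = hF.wL L t * u' := by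
  classical
  have hwU : ∀ t : ℕ → F, hF.wL L t ∈ D.posUnipotent F := fun t =>
    hF.wL_mem_rootClosure (Q := D.IsPosRoot) (fun r hr => by
      obtain ⟨h1, h2, _⟩ := (hL r).1 hr
      exact hF.isPos_iff.2 ⟨h1, h2⟩) t
  unfold Up Full.rootClosure at hu
  induction hu using Subgroup.closure_induction with
  | mem g hg =>
    obtain ⟨r, t, ⟨h2, h3, h4⟩, hg⟩ := hg
    rw [hF.c.eq_xG hg]
    by_cases h5 : R.lin D.rank a r = m
    · refine ⟨fun x => if x = r then t else 0, 1, one_mem _, ?_⟩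
      rw [mul_one, hF.wL_single hnd ((hL r).2 ⟨h2, h3, h5⟩)]
    · refine ⟨fun _ => 0, hF.c.xG r t, xG_mem_Up hF h2 h3 (by push_cast; omega) t, ?_⟩
      rw [hF.wL_zero, one_mul]
  | one => exact ⟨fun _ => 0, 1, one_mem _, by rw [hF.wL_zero, one_mul]⟩
  | mul x z _ _ ihx ihz =>
    obtain ⟨t₁, u₁, h₁, rfl⟩ := ihx
    obtain ⟨t₂, u₂, h₂, rfl⟩ := ihz
    refine ⟨fun r => t₁ r + t₂ r, (hF.wL L t₂)⁻¹ * u₁ * (hF.wL L t₂)⁻¹⁻¹ * u₂, mul_mem (conj_Up hF hlv (inv_mem (hwU t₂)) h₁) h₂, ?_⟩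
    rw [← hF.wL_mul hc]
    group
  | inv x _ ihx =>
    obtain ⟨t, u', hu', rfl⟩ := ihx
    refine ⟨fun r => - t r, hF.wL L t * u'⁻¹ * (hF.wL L t)⁻¹, conj_Up hF hlv (hwU t) (inv_mem hu'), ?_⟩
    rw [← hF.wL_inv hc]
    group


section Entries

variable {ℓ : D.Idx → ℕ} {dd : ℕ} {M : ℤ} (hd : ∀ b, ℓ b < dd) (hℓ : ∀ b, (ℓ b : ℤ) = gr R D a b + M)

include hd hℓ

omit hlv in
theorem Up_sub_J {k : ℕ} {g : GL D.Idx F} (hg : g ∈ Up R D a F (k + 1)) : (g : Matrix D.Idx D.Idx F) - 1 ∈ J ℓ (k + 1) := by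
  have h1 : g ∈ UT (F := F) ℓ k dd hd := by
    refine closure_le_UT hF hd hℓ ?_ hg
    rintro s ⟨h2, h3, h4⟩
    refine ⟨h2, ?_⟩
    push_cast at h4
    exact h4
  exact mem_UT.1 h1

omit hd hlv in
theorem xsub_J {k : ℕ} {r : ℕ} (hr : r < D.nroots) (hlin : R.lin D.rank a r = (k : ℤ) + 1) (t : F) :
    D.x F r t - 1 ∈ J ℓ (k + 1) :=
  x_sub_mem hF hℓ hr (by omega) t (by push_cast; omega)

/-- The sum of the leading terms. -/
noncomputable def lead0 (D : ChevalleyDatum) {F : Type*} [Field F] (L : List ℕ) (t : ℕ → F) : Matrix D.Idx D.Idx F :=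
  (L.map fun r => D.x F r (t r) - 1).sum

omit hd hlv in
theorem lead0_J {k : ℕ} {L : List ℕ} (hL : ∀ r ∈ L, r < D.nroots ∧ R.N ≤ r ∧ R.lin D.rank a r = (k : ℤ) + 1) (t : ℕ → F) :
    lead0 D L t ∈ J ℓ (k + 1) := by
  induction L with
  | nil =>
    simp only [lead0, List.map_nil, List.sum_nil]
    exact J_zero_mem _
  | cons b L ih =>
    simp only [lead0, List.map_cons, List.sum_cons]
    obtain ⟨h1, h2, h3⟩ := hL b List.mem_cons_self
    exact J_add (xsub_J hF hℓ h1 h3 _) (ih fun r hr => hL r (List.mem_cons_of_mem _ hr))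

omit hlv in
theorem wL_sub_lead {k : ℕ} {L : List ℕ} (hL : ∀ r ∈ L, r < D.nroots ∧ R.N ≤ r ∧ R.lin D.rank a r = (k : ℤ) + 1) (t : ℕ → F) :
    ((hF.wL L t : GL D.Idx F) : Matrix D.Idx D.Idx F) - 1 - lead0 D L t ∈ J ℓ (k + 2) := by
  induction L with
  | nil =>
    simp only [Full.wL_nil, lead0, List.map_nil, List.sum_nil, Units.val_one, sub_self, sub_zero]
    exact J_zero_mem _
  | cons b L ih =>
    obtain ⟨h1, h2, h3⟩ := hL b List.mem_cons_self
    have hih := ih fun r hr => hL r (List.mem_cons_of_mem _ hr)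
    have hW : hF.wL L t ∈ Up R D a F (k + 1) :=
      hF.wL_mem_rootClosure (Q := fun r => r < D.nroots ∧ R.N ≤ r ∧ (((k + 1 : ℕ) : ℤ)) ≤ R.lin D.rank a r) (fun r hr => by
        obtain ⟨h4, h5, h6⟩ := hL r (List.mem_cons_of_mem _ hr)
        exact ⟨h4, h5, by push_cast; omega⟩) t
    have hWJ := Up_sub_J hF hd hℓ hW
    have e : ((hF.wL (b :: L) t : GL D.Idx F) : Matrix D.Idx D.Idx F) - 1 - lead0 D (b :: L) t =
        ((hF.wL L t : GL D.Idx F) : Matrix D.Idx D.Idx F) - 1 - lead0 D L t +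
          (D.x F b (t b) - 1) * (((hF.wL L t : GL D.Idx F) : Matrix D.Idx D.Idx F) - 1) := by
      rw [hF.wL_cons, Units.val_mul, Checks.coe_xG]
      simp only [lead0, List.map_cons, List.sum_cons]
      noncomm_ring
    rw [e]
    refine J_add hih (J_anti (by omega) (J_mul (xsub_J hF hℓ h1 h3 _) hWJ))

omit hd hlv in
theorem xsub_row {s : ℕ} (hs : s < D.nroots) (t : F) (i : Fin D.rank) (c : D.Idx)
    (hc : c ≠ Sum.inr ⟨D.neg s, hF.neg_lt hs⟩) : (D.x F s t - 1) (Sum.inl i) c = 0 := by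
  rw [Matrix.sub_apply]
  by_cases h1 : c = Sum.inl i
  · subst h1
    rw [hF.x_entry_self hs, Matrix.one_apply_eq, sub_self]
  · rw [x_inl_row hF hs t i c h1 hc, Matrix.one_apply_ne (fun e => h1 e.symm), sub_zero]

omit hd hlv in
theorem xsub_cor {s : ℕ} (hs : s < D.nroots) (t : F) (i : Fin D.rank) :
    (D.x F s t - 1) (Sum.inl i) (Sum.inr ⟨D.neg s, hF.neg_lt hs⟩) =
      (((D.coroot.getD s #[]).getD i 0 : ℤ) : F) * t := by
  rw [Matrix.sub_apply, hF.x_entry_coroot hs t i, Matrix.one_apply_ne (by simp), sub_zero]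

omit hd hlv in
theorem lead0_entry {k : ℕ} {L : List ℕ} (hL : ∀ r ∈ L, r < D.nroots) (hnd : L.Nodup) (t : ℕ → F) (i : Fin D.rank)
    {r : ℕ} (hr : r < D.nroots) :
    lead0 D L t (Sum.inl i) (Sum.inr ⟨D.neg r, hF.neg_lt hr⟩) =
      if r ∈ L then (((D.coroot.getD r #[]).getD i 0 : ℤ) : F) * t r else 0 := by
  induction L with
  | nil => simp [lead0, Matrix.zero_apply]
  | cons b L ih =>
    simp only [lead0, List.map_cons, List.sum_cons, Matrix.add_apply]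
    have hih := ih (fun r hr => hL r (List.mem_cons_of_mem _ hr)) (List.nodup_cons.1 hnd).2
    simp only [lead0] at hih
    rw [hih]
    by_cases hbr : b = r
    · subst hbr
      rw [xsub_cor hF hℓ hr, if_pos List.mem_cons_self, if_neg (List.nodup_cons.1 hnd).1, add_zero]
    · rw [xsub_row hF hℓ (hL b List.mem_cons_self), zero_add]
      · by_cases hrL : r ∈ L
        · rw [if_pos hrL, if_pos (List.mem_cons_of_mem _ hrL)]
        · rw [if_neg hrL, if_neg (by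
            intro h
            rcases List.mem_cons.1 h with h | h
            · exact hbr h.symm
            · exact hrL h)]
      · intro e
        apply hbr
        have h8 : D.neg r = D.neg b := congrArg Fin.val (Sum.inr.inj e)
        rw [← hF.neg_neg (hL b List.mem_cons_self), ← h8, hF.neg_neg hr]

/-- Coordinates of the level part are determined. -/
theorem wL_of_mem_deeper {k : ℕ} {L : List ℕ} (hL : ∀ r ∈ L, r < D.nroots ∧ R.N ≤ r ∧ R.lin D.rank a r = (k : ℤ) + 1)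
    (hnd : L.Nodup) {s : ℕ → F} (hs : hF.wL L s ∈ Up R D a F (k + 2)) {r : ℕ} (hr : r ∈ L) : s r = 0 := by
  obtain ⟨h1, h2, h3⟩ := hL r hr
  apply eq_zero_of_coroot hF h1
  intro i
  have h4 := Up_sub_J hF hd hℓ (k := k + 1) hs
  have h5 := wL_sub_lead hF hd hℓ (k := k) hL s
  have h6 := J_sub h4 h5
  have h7 : (((hF.wL L s : GL D.Idx F) : Matrix D.Idx D.Idx F) - 1) - (((hF.wL L s : GL D.Idx F) : Matrix D.Idx D.Idx F) - 1 - lead0 D L s) = lead0 D L s := by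
    abel
  rw [h7] at h6
  have h8 := h6 (Sum.inl i) (Sum.inr ⟨D.neg r, hF.neg_lt h1⟩) (by
    have := lev_neg' hF hℓ h1 i
    omega)
  rw [lead0_entry hF hℓ (k := k) (fun r hr => (hL r hr).1) hnd s i h1, if_pos hr] at h8
  exact h8

end Entries

/-- Uniqueness of the factorisation. -/
theorem fac_unique {k : ℕ} {L : List ℕ} (hL : ∀ r ∈ L, r < D.nroots ∧ R.N ≤ r ∧ R.lin D.rank a r = (k : ℤ) + 1)
    (hc : hF.CommL F L) (hnd : L.Nodup) {t t' : ℕ → F} {z z' : GL D.Idx F} (hz : z ∈ Up R D a F (k + 2)) (hz' : z' ∈ Up R D a F (k + 2))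
    (h : hF.wL L t * z = hF.wL L t' * z') {r : ℕ} (hr : r ∈ L) : t r = t' r := by
  obtain ⟨ℓ, dd, M, hd, hℓ⟩ := Full.exists_lev R D a
  have h1 : hF.wL L (fun r => t r + - t' r) = z' * z⁻¹ := by
    have h2 : hF.wL L (fun r => - t' r) * hF.wL L t = z' * z⁻¹ := by
      rw [← hF.wL_inv hc]
      calc (hF.wL L t')⁻¹ * hF.wL L t = (hF.wL L t')⁻¹ * (hF.wL L t * z) * z⁻¹ := by group
        _ = _ := by rw [h]; group
    rw [← h2, hF.wL_mul hc]
    apply hF.wL_congr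
    intro r _
    ring
  have h2 : hF.wL L (fun r => t r + - t' r) ∈ Up R D a F (k + 2) := by
    rw [h1]
    exact mul_mem hz' (inv_mem hz)
  have h3 := wL_of_mem_deeper hF hlv hd hℓ hL hnd h2 hr
  linear_combination h3

end Cfsg.Agent.Lib.ChevTw
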