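import Mathlib
import Cfsg.Agent.Lib.ChevTw.Lev

/-!
# The leading relation of elements commuting with a rational class element
-/

set_option autoImplicit false
set_option linter.unusedSectionVars false
set_option linter.unusedVariables false
set_option linter.unnecessarySimpa false

namespace Cfsg.Agent.Lib.ChevTw

open Cfsg Cfsg.Lie Matrix Cfsg.Agent.Lib.Chev Cfsg.Agent.Lib.Chev.Full Cfsg.Agent.Lib.Chev.Tri
open Cfsg.Agent.Lib.ChevTransfer Cfsg.Agent.Lib.ChevAut.SubField Cfsg.Agent.Lib.ChevAut.WClosed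
open Cfsg.Agent.Lib.ChevAut.ParabFit Cfsg.Agent.Lib.ChevInv Cfsg.Agent.Lib.ChevInv.CentG
open Cfsg.Agent.Lib.ChevSub Cfsg.Agent.Lib.ChevAut.RootCent Equiv

variable {T : Tabs} {X : Extra} {R : RootTab} {D : ChevalleyDatum} (hF : Full T X R D)
variable {F : Type*} [Field F]

/-- The coroot coordinate. -/
def cor (D : ChevalleyDatum) (r i : ℕ) : ℤ := (D.coroot.getD r #[]).getD i 0

/-- The chain constant. -/
def NC (D : ChevalleyDatum) (s w r : ℕ) : ℤ := ((D.chainCoeff s (D.neg w) (D.neg r)).map (·.2)).sum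

/-- The exponents of a chain are all one. -/
def Ex1 (D : ChevalleyDatum) (s w r : ℕ) : Bool := (D.chainCoeff s (D.neg w) (D.neg r)).all (fun km => km.1 == 1)

/-- The coefficient of the leading coordinate at `r` in the relation. -/
def Zc (D : ChevalleyDatum) (L' : List ℕ) (e : ℕ → ℤ) (w i r : ℕ) : ℤ :=
  (L'.map fun s => cor D r i * NC D s w r * e s - cor D s i * e s * NC D r w s).sum

theorem chain_sum {s w r : ℕ} (h : Ex1 D s w r = true) (t : F) :
    ((D.chainCoeff s (D.neg w) (D.neg r)).map fun km => ((km.2 : ℤ) : F) * t ^ km.1).sum = ((NC D s w r : ℤ) : F) * t := by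
  unfold NC
  unfold Ex1 at h
  generalize D.chainCoeff s (D.neg w) (D.neg r) = L at h
  induction L with
  | nil => simp
  | cons a L ih =>
    simp only [List.all_cons, Bool.and_eq_true, beq_iff_eq] at h
    simp only [List.map_cons, List.sum_cons, Int.cast_add, add_mul, h.1, pow_one, ih h.2]

theorem lead_expand0 {ι : Type*} [Fintype ι] [DecidableEq ι] {F : Type*} [Field F] (L' : List ℕ) (A : Matrix ι ι F) (Q : ℕ → Matrix ι ι F) :
    (L'.map fun s => A * Q s - Q s * A).sum = A * (L'.map Q).sum - (L'.map Q).sum * A := by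
  induction L' with
  | nil => simp
  | cons b L' ih' =>
    simp only [List.map_cons, List.sum_cons, add_mul, mul_add, ih']
    abel

theorem lead_expand {ι : Type*} [Fintype ι] [DecidableEq ι] {F : Type*} [Field F] (L L' : List ℕ) (P Q : ℕ → Matrix ι ι F) :
    (L.map P).sum * (L'.map Q).sum - (L'.map Q).sum * (L.map P).sum =
      (L.map fun r => (L'.map fun s => P r * Q s - Q s * P r).sum).sum := by
  induction L with
  | nil => simp
  | cons a L ih =>
    simp only [List.map_cons, List.sum_cons, add_mul, mul_add]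
    rw [lead_expand0 L' (P a) Q, ← ih]
    abel

theorem entry_list_sum {ι : Type*} {F : Type*} [Field F] (L : List ℕ) (P : ℕ → Matrix ι ι F) (i j : ι) :
    (L.map P).sum i j = (L.map fun r => P r i j).sum := by
  induction L with
  | nil => simp
  | cons a L ih => simp only [List.map_cons, List.sum_cons, Matrix.add_apply, ih]

section Lead

variable {a : ℕ → ℤ} (hlv : ∀ r < D.nroots, R.N ≤ r → 1 ≤ R.lin D.rank a r)
variable {ℓ : D.Idx → ℕ} {dd : ℕ} {M : ℤ} (hd : ∀ b, ℓ b < dd) (hℓ : ∀ b, (ℓ b : ℤ) = gr R D a b + M)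

include hF hℓ

/-- The entry of a commutator of two `x`-differences at a coroot row. -/
theorem pair_entry {r s w : ℕ} (hr : r < D.nroots) (hs : s < D.nroots) (hw : w < D.nroots)
    (hrN : R.N ≤ r) (hsN : R.N ≤ s) (hwN : R.N ≤ w) (hwr : w ≠ r) (hws : w ≠ s) (h1 : Ex1 D s w r = true) (h2 : Ex1 D r w s = true)
    (t u : F) (i : Fin D.rank) :
    ((D.x F r t - 1) * (D.x F s u - 1) - (D.x F s u - 1) * (D.x F r t - 1)) (Sum.inl i) (Sum.inr ⟨D.neg w, hF.neg_lt hw⟩) =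
      (((cor D r i * NC D s w r : ℤ) : F)) * t * u - ((cor D s i * NC D r w s : ℤ) : F) * u * t := by
  rw [Matrix.sub_apply, Matrix.mul_apply, Matrix.mul_apply]
  have hs1 : ∑ c, (D.x F r t - 1) (Sum.inl i) c * (D.x F s u - 1) c (Sum.inr ⟨D.neg w, hF.neg_lt hw⟩) =
      (D.x F r t - 1) (Sum.inl i) (Sum.inr ⟨D.neg r, hF.neg_lt hr⟩) * (D.x F s u - 1) (Sum.inr ⟨D.neg r, hF.neg_lt hr⟩) (Sum.inr ⟨D.neg w, hF.neg_lt hw⟩) := by
    apply Finset.sum_eq_single
    · intro c _ hc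
      rw [xsub_row hF hℓ hr t i c hc, zero_mul]
    · simp
  have hs2 : ∑ c, (D.x F s u - 1) (Sum.inl i) c * (D.x F r t - 1) c (Sum.inr ⟨D.neg w, hF.neg_lt hw⟩) =
      (D.x F s u - 1) (Sum.inl i) (Sum.inr ⟨D.neg s, hF.neg_lt hs⟩) * (D.x F r t - 1) (Sum.inr ⟨D.neg s, hF.neg_lt hs⟩) (Sum.inr ⟨D.neg w, hF.neg_lt hw⟩) := by
    apply Finset.sum_eq_single
    · intro c _ hc
      rw [xsub_row hF hℓ hs u i c hc, zero_mul]
    · simp
  rw [hs1, hs2, xsub_cor hF hℓ hr, xsub_cor hF hℓ hs]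
  have hnegN := hF.neg_lt_N hw hwN
  have hne : ∀ {b : ℕ} (hb : b < D.nroots), w ≠ b → (⟨D.neg b, hF.neg_lt hb⟩ : Fin D.nroots) ≠ ⟨D.neg w, hF.neg_lt hw⟩ := by
    intro b hb hwb e
    apply hwb
    have h8 : D.neg b = D.neg w := congrArg Fin.val e
    rw [← hF.neg_neg hw, ← h8, hF.neg_neg hb]
  have hent : ∀ {b c : ℕ} (hb : b < D.nroots) (hc : c < D.nroots) (hN : R.N ≤ c ∨ True) (hwb : w ≠ b) (hwc : w ≠ c) (hEx : Ex1 D c w b = true) (v : F)
      (hcN : D.neg w ≠ c),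
      (D.x F c v - 1) (Sum.inr ⟨D.neg b, hF.neg_lt hb⟩) (Sum.inr ⟨D.neg w, hF.neg_lt hw⟩) = ((NC D c w b : ℤ) : F) * v := by
    intro b c hb hc _ hwb hwc hEx v hcN
    rw [Matrix.sub_apply, Matrix.one_apply_ne (by
      intro e
      exact hne hb hwb (Sum.inr.inj e)), sub_zero]
    rw [x_root_entry hF hc v (u := ⟨D.neg b, hF.neg_lt hb⟩) (c := ⟨D.neg w, hF.neg_lt hw⟩) ?_ ?_ ?_]
    · exact chain_sum hEx v
    · exact hcN
    · show D.neg w ≠ D.neg c
      intro e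
      apply hwc
      rw [← hF.neg_neg hw, e, hF.neg_neg hc]
    · exact hne hb hwb
  rw [hent hr hs (Or.inr trivial) hwr hws h1 u (by omega), hent hs hr (Or.inr trivial) hws hwr h2 t (by omega)]
  push_cast
  unfold cor
  ring

include hd hlv

/-- The leading relation. -/
theorem lead_class {k k' : ℕ} {L L' : List ℕ}
    (hL : ∀ r ∈ L, r < D.nroots ∧ R.N ≤ r ∧ R.lin D.rank a r = (k : ℤ) + 1)
    (hL' : ∀ r ∈ L', r < D.nroots ∧ R.N ≤ r ∧ R.lin D.rank a r = (k' : ℤ) + 1)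
    {w i : ℕ} (hw : w < D.nroots) (hwN : R.N ≤ w) (hlw : R.lin D.rank a w = (k : ℤ) + k' + 2) (hi : i < D.rank)
    (hex1 : ∀ r ∈ L, ∀ s ∈ L', Ex1 D s w r = true) (hex2 : ∀ r ∈ L, ∀ s ∈ L', Ex1 D r w s = true)
    {d : ℕ → F} {z : GL D.Idx F} (hz : z ∈ Up R D a F (k + 2)) {e : ℕ → ℤ}
    (hc : (hF.wL L d * z) * hF.wL L' (fun s => (e s : F)) = hF.wL L' (fun s => (e s : F)) * (hF.wL L d * z)) :
    (L.map fun r => ((Zc D L' e w i r : ℤ) : F) * d r).sum = 0 := by
  classical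
  set e' : ℕ → F := fun s => (e s : F) with he'
  set W := hF.wL L d with hW
  set Y := hF.wL L' e' with hY
  set A : Matrix D.Idx D.Idx F := lead0 D L d with hA
  set B : Matrix D.Idx D.Idx F := lead0 D L' e' with hB
  set A' : Matrix D.Idx D.Idx F := (W : Matrix D.Idx D.Idx F) - 1 - A with hA'
  set B' : Matrix D.Idx D.Idx F := (Y : Matrix D.Idx D.Idx F) - 1 - B with hB'
  set Z : Matrix D.Idx D.Idx F := (z : Matrix D.Idx D.Idx F) - 1 with hZ
  have hAJ : A ∈ J ℓ (k + 1) := lead0_J hF hℓ hL d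
  have hBJ : B ∈ J ℓ (k' + 1) := lead0_J hF hℓ hL' e'
  have hA'J : A' ∈ J ℓ (k + 2) := wL_sub_lead hF hd hℓ hL d
  have hB'J : B' ∈ J ℓ (k' + 2) := wL_sub_lead hF hd hℓ hL' e'
  have hZJ : Z ∈ J ℓ (k + 2) := Up_sub_J hF hd hℓ (k := k + 1) hz
  have hWU : W ∈ Up R D a F (k + 1) :=
    hF.wL_mem_rootClosure (Q := fun r => r < D.nroots ∧ R.N ≤ r ∧ (((k + 1 : ℕ) : ℤ)) ≤ R.lin D.rank a r) (fun r hr => by
      obtain ⟨h4, h5, h6⟩ := hL r hr
      exact ⟨h4, h5, by push_cast; omega⟩) d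
  have hWJ : (W : Matrix D.Idx D.Idx F) - 1 ∈ J ℓ (k + 1) := Up_sub_J hF hd hℓ hWU
  -- the difference of `Wz` from its leading term
  set V : Matrix D.Idx D.Idx F := A' + Z + ((W : Matrix D.Idx D.Idx F) - 1) * Z with hV
  have hVJ : V ∈ J ℓ (k + 2) := by
    refine J_add (J_add hA'J hZJ) (J_anti (by omega) (J_mul hWJ hZJ))
  have hmat : (((W * z * Y : GL D.Idx F)) : Matrix D.Idx D.Idx F) = ((Y * (W * z) : GL D.Idx F) : Matrix D.Idx D.Idx F) := by rw [hc]
  simp only [Units.val_mul] at hmat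
  have e1 : (W : Matrix D.Idx D.Idx F) * (z : Matrix D.Idx D.Idx F) = 1 + A + V := by
    rw [hV, hA', hZ]
    noncomm_ring
  have e2 : (Y : Matrix D.Idx D.Idx F) = 1 + B + B' := by
    rw [hB']
    abel
  rw [e1, e2] at hmat
  have e3 : A * B - B * A = (B + B') * V + B' * A - (A * B' + V * (B + B')) := by
    have h5 : (1 + A + V) * (1 + B + B') - (1 + B + B') * (1 + A + V) =
        (A * B - B * A) - ((B + B') * V + B' * A - (A * B' + V * (B + B'))) := by
      noncomm_ring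
    have h6 := h5.symm
    rw [hmat, sub_self] at h6
    exact sub_eq_zero.1 h6
  have hBB : B + B' ∈ J ℓ (k' + 1) := J_add hBJ (J_anti (by omega) hB'J)
  have hJ : A * B - B * A ∈ J ℓ (k + k' + 3) := by
    rw [e3]
    refine J_sub (J_add (J_anti (by omega) (J_mul hBB hVJ)) (J_anti (by omega) (J_mul hB'J hAJ)))
      (J_add (J_anti (by omega) (J_mul hAJ hB'J)) (J_anti (by omega) (J_mul hVJ hBB)))
  have hent := hJ (Sum.inl ⟨i, hi⟩) (Sum.inr ⟨D.neg w, hF.neg_lt hw⟩) (by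
    have := lev_neg' hF hℓ hw ⟨i, hi⟩
    omega)
  rw [hA, hB] at hent
  unfold lead0 at hent
  rw [lead_expand L L' (fun r => D.x F r (d r) - 1) (fun s => D.x F s (e' s) - 1),
    entry_list_sum] at hent
  have hkey : ∀ r ∈ L, ((L'.map fun s => (D.x F r (d r) - 1) * (D.x F s (e' s) - 1) - (D.x F s (e' s) - 1) * (D.x F r (d r) - 1)).sum)
      (Sum.inl ⟨i, hi⟩) (Sum.inr ⟨D.neg w, hF.neg_lt hw⟩) = ((Zc D L' e w i r : ℤ) : F) * d r := by
    intro r hr
    obtain ⟨h1, h2, h3⟩ := hL r hr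
    rw [entry_list_sum]
    unfold Zc
    have hgen : ∀ L₁ : List ℕ, (∀ s ∈ L₁, s ∈ L') →
        (L₁.map fun s => ((D.x F r (d r) - 1) * (D.x F s (e' s) - 1) - (D.x F s (e' s) - 1) * (D.x F r (d r) - 1))
          (Sum.inl ⟨i, hi⟩) (Sum.inr ⟨D.neg w, hF.neg_lt hw⟩)).sum =
        (((L₁.map fun s => cor D r i * NC D s w r * e s - cor D s i * e s * NC D r w s).sum : ℤ) : F) * d r := by
      intro L₁ hL₁
      induction L₁ with
      | nil => simp
      | cons b L₁ ih =>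
        obtain ⟨h4, h5, h6⟩ := hL' b (hL₁ b List.mem_cons_self)
        have hb := hL₁ b List.mem_cons_self
        simp only [List.map_cons, List.sum_cons]
        rw [ih fun s hs => hL₁ s (List.mem_cons_of_mem _ hs), pair_entry hF hℓ h1 h4 hw h2 h5 hwN (by
          rintro rfl
          omega) (by
          rintro rfl
          omega) (hex1 r hr b hb) (hex2 r hr b hb) (d r) (e' b) ⟨i, hi⟩]
        simp only [he']
        push_cast
        ring
    exact hgen L' (fun s hs => hs)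
  rw [List.map_congr_left hkey] at hent
  exact hent

end Lead

/-- The leading relation without reference to the levels on the indices. -/
theorem lead_rel {a : ℕ → ℤ} (hlv : ∀ r < D.nroots, R.N ≤ r → 1 ≤ R.lin D.rank a r) {k k' : ℕ} {L L' : List ℕ}
    (hL : ∀ r ∈ L, r < D.nroots ∧ R.N ≤ r ∧ R.lin D.rank a r = (k : ℤ) + 1)
    (hL' : ∀ r ∈ L', r < D.nroots ∧ R.N ≤ r ∧ R.lin D.rank a r = (k' : ℤ) + 1)
    {w i : ℕ} (hw : w < D.nroots) (hwN : R.N ≤ w) (hlw : R.lin D.rank a w = (k : ℤ) + k' + 2) (hi : i < D.rank)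
    (hex1 : ∀ r ∈ L, ∀ s ∈ L', Ex1 D s w r = true) (hex2 : ∀ r ∈ L, ∀ s ∈ L', Ex1 D r w s = true)
    {d : ℕ → F} {z : GL D.Idx F} (hz : z ∈ Up R D a F (k + 2)) {e : ℕ → ℤ}
    (hc : (hF.wL L d * z) * hF.wL L' (fun s => (e s : F)) = hF.wL L' (fun s => (e s : F)) * (hF.wL L d * z)) :
    (L.map fun r => ((Zc D L' e w i r : ℤ) : F) * d r).sum = 0 := by
  obtain ⟨ℓ, dd, M, hd, hℓ⟩ := Full.exists_lev R D a
  exact lead_class hF hlv hd hℓ hL hL' hw hwN hlw hi hex1 hex2 hz hc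

end Cfsg.Agent.Lib.ChevTw
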