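import Mathlib
import Cfsg.Agent.Lib.ChevTw.LevLead

/-!
# Extracting a class element from an irrational element of `H ∩ U`
-/

set_option autoImplicit false
set_option linter.unusedSectionVars false
set_option linter.unusedVariables false
set_option linter.unnecessarySimpa false

namespace Cfsg.Agent.Lib.ChevTw

open Cfsg Cfsg.Lie Matrix Cfsg.Agent.Lib.Chev Cfsg.Agent.Lib.Chev.Full Cfsg.Agent.Lib.Chev.Tri
open Cfsg.Agent.Lib.ChevTransfer Cfsg.Agent.Lib.ChevAut.SubField Cfsg.Agent.Lib.ChevAut.WClosed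
open Cfsg.Agent.Lib.ChevAut.ParabFit Cfsg.Agent.Lib.ChevInv Cfsg.Agent.Lib.ChevInv.CentG
open Cfsg.Agent.Lib.ChevSub Cfsg.Agent.Lib.ChevAut.RootCent Equiv

variable {T : Tabs} {X : Extra} {R : RootTab} {D : ChevalleyDatum} {hF : Full T X R D}
variable {F : Type*} [Field F] {τ : Tw hF F} {f : F ≃+* F} {ρ' π' : ℕ → ℕ} {J : ℕ → List ℕ} {A dd : ℕ → ℕ}

/-- Image of a commuting word under the twist. -/
theorem s_wL_eq (τ : Tw hF F) {L : List ℕ} (hc : hF.CommL F L) (hnd : L.Nodup) (hL : ∀ r ∈ L, R.N ≤ r ∧ r < D.nroots)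
    {ρ' : ℕ → ℕ} {c' : ℕ → F → F} (hperm : (L.map ρ').Perm L)
    (hs : ∀ r ∈ L, ∀ a : F, τ.s (hF.c.xG r a) = hF.c.xG (ρ' r) (c' r a)) (t : ℕ → F) :
    ∃ t'' : ℕ → F, τ.s (hF.wL L t) = hF.wL L t'' ∧ ∀ r ∈ L, t'' (ρ' r) = c' r (t r) := by
  classical
  have hinj : Set.InjOn ρ' {r | r ∈ L} := by
    have h1 : (L.map ρ').Nodup := hperm.nodup_iff.2 hnd
    exact List.inj_on_of_nodup_map h1
  let g := Function.invFunOn ρ' {r | r ∈ L}
  have hg : ∀ r ∈ L, g (ρ' r) = r := fun r hr => hinj.leftInvOn_invFunOn hr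
  let t'' : ℕ → F := fun s => c' (g s) (t (g s))
  refine ⟨t'', ?_, ?_⟩
  · unfold Full.wL
    rw [τ.s_wordG (ρ' := ρ') (c' := c') _ (by
      intro p hp
      simp only [List.mem_map] at hp
      obtain ⟨r, hr, rfl⟩ := hp
      exact (hL r hr).2) (by
      intro p hp
      simp only [List.mem_map] at hp
      obtain ⟨r, hr, rfl⟩ := hp
      exact hs r hr _)]
    have e : ((L.map fun r => (r, t r)).map fun p => (ρ' p.1, c' p.1 p.2)) =
        (L.map ρ').map fun s => (s, t'' s) := by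
      simp only [List.map_map]
      apply List.map_congr_left
      intro r hr
      simp only [Function.comp, t'', hg r hr]
    rw [e]
    apply hF.wordG_perm (hperm.map _)
    intro p hp1 p' hp2
    simp only [List.mem_map] at hp1 hp2
    obtain ⟨_, ⟨r, hr, rfl⟩, rfl⟩ := hp1
    obtain ⟨_, ⟨s, hs', rfl⟩, rfl⟩ := hp2
    exact hc _ (hperm.subset (List.mem_map_of_mem hr)) _ (hperm.subset (List.mem_map_of_mem hs')) _ _
  · intro r hr
    simp only [t'', hg r hr]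

variable (h : SCOK τ f ρ' π' J A dd)

section Lv

variable {a : ℕ → ℤ} (hlv : ∀ r < D.nroots, R.N ≤ r → 1 ≤ R.lin D.rank a r)
  (hρ : ∀ r : Fin D.nroots, ((τ.ρ r : Fin D.nroots) : ℕ) = ρ' r)
  (hρlv : ∀ r < D.nroots, R.lin D.rank a (ρ' r) = R.lin D.rank a r)
  {gs : ℕ → ℤ} (hs : ∀ r < D.nroots, ∀ a : F, τ.s (hF.c.xG r a) = hF.c.xG (ρ' r) ((gs r : F) * f a))
  (hgs : ∀ r < D.nroots, ρ' r = r → gs r = 1)

include hρ hρlv in
theorem s_Up {m : ℕ} {g : GL D.Idx F} (hg : g ∈ Up R D a F m) : τ.s g ∈ Up R D a F m := by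
  refine τ.s_rootClosure (P := fun r => r < D.nroots ∧ R.N ≤ r ∧ (m : ℤ) ≤ R.lin D.rank a r) (fun r hr => hr.1) ?_ hg
  rintro r hr ⟨_, h2, h3⟩
  refine ⟨(τ.ρ ⟨r, hr⟩).2, (τ.ρ_pos ⟨r, hr⟩).2 h2, ?_⟩
  rw [hρ ⟨r, hr⟩]
  simp only
  rw [hρlv r hr]
  exact h3

theorem sig_Up (hF : Full T X R D) (f : F ≃+* F) {m : ℕ} {g : GL D.Idx F} (hg : g ∈ Up R D a F m) : glMap D f g ∈ Up R D a F m :=
  sig_rootClosure hF f hg

include hρ hρlv in
/-- Class lists are permuted. -/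
theorem level_perm {m : ℕ} {L : List ℕ} (hL : ∀ r, r ∈ L ↔ r < D.nroots ∧ R.N ≤ r ∧ R.lin D.rank a r = m) (hnd : L.Nodup) :
    (L.map ρ').Perm L := by
  have hinj : Set.InjOn ρ' {r | r ∈ L} := by
    intro x hx y hy e
    obtain ⟨h1, _⟩ := (hL x).1 hx
    obtain ⟨h2, _⟩ := (hL y).1 hy
    have h3 : τ.ρ ⟨x, h1⟩ = τ.ρ ⟨y, h2⟩ := by
      apply Fin.ext
      rw [hρ, hρ]
      exact e
    exact congrArg Fin.val (τ.ρ.injective h3)
  have h1 : (L.map ρ').Nodup := (List.nodup_map_iff_inj_on hnd).2 (fun x hx y hy e => hinj hx hy e)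
  apply List.Subperm.perm_of_length_le
  · rw [List.subperm_ext_iff] 
    intro x hx
    rw [List.count_eq_one_of_mem h1 hx]
    simp only [List.mem_map] at hx
    obtain ⟨r, hr, rfl⟩ := hx
    obtain ⟨h2, h3, h4⟩ := (hL r).1 hr
    have h5 : ρ' r ∈ L := by
      refine (hL _).2 ⟨?_, ?_, ?_⟩
      · rw [← hρ ⟨r, h2⟩]
        exact (τ.ρ ⟨r, h2⟩).2
      · rw [← hρ ⟨r, h2⟩]
        exact (τ.ρ_pos ⟨r, h2⟩).2 h3
      · rw [hρlv r h2, h4]
    rw [List.count_eq_one_of_mem hnd h5]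
  · simp

variable [Fintype F]

include h hs in
/-- Pattern of the level part of a fixed element. -/
theorem fac_pattern (hρ : ∀ r : Fin D.nroots, ((τ.ρ r : Fin D.nroots) : ℕ) = ρ' r)
    (hρlv : ∀ r < D.nroots, R.lin D.rank a (ρ' r) = R.lin D.rank a r) (hlv : ∀ r < D.nroots, R.N ≤ r → 1 ≤ R.lin D.rank a r)
    {k : ℕ} {L : List ℕ} (hL : ∀ r, r ∈ L ↔ r < D.nroots ∧ R.N ≤ r ∧ R.lin D.rank a r = ((k + 1 : ℕ) : ℤ))
    (hc : hF.CommL F L) (hnd : L.Nodup) {t : ℕ → F} {u' : GL D.Idx F} (hu' : u' ∈ Up R D a F (k + 2))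
    (hfix : τ.s (hF.wL L t * u') = hF.wL L t * u') {r : ℕ} (hr : r ∈ L) : t (ρ' r) = (gs r : F) * f (t r) := by
  have hperm := level_perm (a := a) hρ hρlv hL hnd
  have hL1 : ∀ r ∈ L, r < D.nroots ∧ R.N ≤ r ∧ R.lin D.rank a r = (k : ℤ) + 1 := by
    intro r hr
    obtain ⟨h1, h2, h3⟩ := (hL r).1 hr
    exact ⟨h1, h2, by push_cast at h3; exact h3⟩
  obtain ⟨t'', h1, h2⟩ := s_wL_eq τ hc hnd (fun r hr => ⟨(hL1 r hr).2.1, (hL1 r hr).1⟩) hperm (c' := fun r a => (gs r : F) * f a)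
    (fun r hr a => hs r (hL1 r hr).1 a) t
  have hWG : hF.wL L t ∈ D.group F := hF.c.posUnipotent_le_group (hF.wL_mem_rootClosure (Q := D.IsPosRoot) (fun r hr => hF.isPos_iff.2 ⟨(hL1 r hr).1, (hL1 r hr).2.1⟩) t)
  have huG : u' ∈ D.group F := hF.c.posUnipotent_le_group (Up_le_U hF _ hu')
  rw [τ.s_mul hWG huG, h1] at hfix
  have h3 := fac_unique hF hlv hL1 hc hnd hu' (s_Up hρ hρlv hu') hfix.symm (hperm.subset (List.mem_map_of_mem hr))
  rw [h3, h2 r hr]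

include h hs in
/-- A word with the pattern is in the twisted group. -/
theorem pattern_mem_G1 {L : List ℕ} (hlt : ∀ r ∈ L, r < D.nroots ∧ R.N ≤ r) (hc : hF.CommL F L) (hnd : L.Nodup)
    (hperm : (L.map ρ').Perm L) {t : ℕ → F} (hp : ∀ r ∈ L, t (ρ' r) = (gs r : F) * f (t r)) : hF.wL L t ∈ h.G1 := by
  obtain ⟨t'', h1, h2⟩ := s_wL_eq τ hc hnd (fun r hr => ⟨(hlt r hr).2, (hlt r hr).1⟩) hperm (c' := fun r a => (gs r : F) * f a)
    (fun r hr a => hs r (hlt r hr).1 a) t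
  refine h.twG.U_fix_le (hF.wL_mem_rootClosure (Q := D.IsPosRoot) (fun r hr => hF.isPos_iff.2 ⟨(hlt r hr).1, (hlt r hr).2⟩) t) ?_
  rw [h1]
  apply hF.wL_congr
  intro r hr
  have h3 : r ∈ L.map ρ' := hperm.symm.subset hr
  simp only [List.mem_map] at h3
  obtain ⟨r', hr', rfl⟩ := h3
  rw [h2 r' hr', hp r' hr']

theorem sig_wL (f : F ≃+* F) (L : List ℕ) (t : ℕ → F) : glMap D f (hF.wL L t) = hF.wL L (fun r => f (t r)) := by
  unfold Full.wL
  rw [sig_word hF]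
  congr 1
  simp only [List.map_map]
  rfl

include h hs in
theorem pattern_mem_MM {L : List ℕ} (hlt : ∀ r ∈ L, r < D.nroots ∧ R.N ≤ r) (hc : hF.CommL F L) (hnd : L.Nodup)
    (hperm : (L.map ρ').Perm L) {t : ℕ → F} (hp : ∀ r ∈ L, t (ρ' r) = (gs r : F) * f (t r))
    (hfx : ∀ r ∈ L, f (t r) = t r) : hF.wL L t ∈ MM h := by
  refine ⟨pattern_mem_G1 h hs hlt hc hnd hperm hp, ?_⟩
  rw [sig_wL]
  exact hF.wL_congr hfx

end Lv

section Main

variable {a : ℕ → ℤ} (hlv : ∀ r < D.nroots, R.N ≤ r → 1 ≤ R.lin D.rank a r)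
  (hρ : ∀ r : Fin D.nroots, ((τ.ρ r : Fin D.nroots) : ℕ) = ρ' r)
  (hρlv : ∀ r < D.nroots, R.lin D.rank a (ρ' r) = R.lin D.rank a r)
  {gs : ℕ → ℤ} (hs : ∀ r < D.nroots, ∀ a : F, τ.s (hF.c.xG r a) = hF.c.xG (ρ' r) ((gs r : F) * f a))
  (hgs : ∀ r < D.nroots, ρ' r = r → gs r = 1)
  {Ls : ℕ → List ℕ} (hLs : ∀ m r, r ∈ Ls m ↔ r < D.nroots ∧ R.N ≤ r ∧ R.lin D.rank a r = m)
  (hnd : ∀ m, (Ls m).Nodup) (hcm : ∀ m, hF.CommL F (Ls m))
  {M : ℕ} (hM : ∀ r < D.nroots, R.lin D.rank a r < M)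

include hM in
theorem Up_top_eq_bot : Up R D a F M = ⊥ := by
  unfold Up Full.rootClosure
  rw [Subgroup.closure_eq_bot_iff]
  rintro x ⟨s, t, ⟨h1, h2, h3⟩, _⟩
  have := hM s h1
  omega

variable [Fintype F]

include h hlv hρ hρlv hs hgs hLs hnd hcm hM

/-- Elements of the twisted group in a deep enough level are rational. -/
theorem above_rat {mδ : ℕ} (hlong : ∀ r < D.nroots, R.N ≤ r → (mδ : ℤ) < R.lin D.rank a r → ρ' r = r) :
    ∀ (n m : ℕ), M ≤ m + n → mδ < m → ∀ g ∈ Up R D a F m, g ∈ h.G1 → g ∈ MM h := by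
  intro n
  induction n with
  | zero =>
    intro m hm hδ g hg _
    have h1 : Up R D a F m ≤ Up R D a F M := Up_anti hF (by omega)
    rw [Up_top_eq_bot hM] at h1
    have h2 := h1 hg
    rw [Subgroup.mem_bot] at h2
    rw [h2]
    exact one_mem _
  | succ n ih =>
    intro m hm hδ g hg hgG
    obtain ⟨k, rfl⟩ : ∃ k, m = k + 1 := ⟨m - 1, by omega⟩
    obtain ⟨t, u', hu', rfl⟩ := exists_fac hF hlv (hLs (k + 1)) (hcm _) (hnd _) hg
    have hfix : τ.s (hF.wL (Ls (k + 1)) t * u') = hF.wL (Ls (k + 1)) t * u' := h.twG.G1_fix _ hgG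
    have hp := fun r hr => fac_pattern h hs hρ hρlv hlv (hLs (k + 1)) (hcm _) (hnd _) hu' hfix (r := r) hr
    have hperm := level_perm (a := a) hρ hρlv (hLs (k + 1)) (hnd _)
    have hlt : ∀ r ∈ Ls (k + 1), r < D.nroots ∧ R.N ≤ r := fun r hr => ⟨((hLs _ _).1 hr).1, ((hLs _ _).1 hr).2.1⟩
    have hfx : ∀ r ∈ Ls (k + 1), f (t r) = t r := by
      intro r hr
      obtain ⟨h1, h2, h3⟩ := (hLs _ _).1 hr
      have h4 := hlong r h1 h2 (by rw [h3]; exact_mod_cast hδ)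
      have h5 := hp r hr
      rw [h4, hgs r h1 h4] at h5
      simpa using h5.symm
    have h6 := pattern_mem_MM h hs hlt (hcm _) (hnd _) hperm hp hfx
    have h7 : u' ∈ h.G1 := by
      have e : u' = (hF.wL (Ls (k + 1)) t)⁻¹ * (hF.wL (Ls (k + 1)) t * u') := by group
      rw [e]
      exact mul_mem (inv_mem h6.1) hgG
    exact mul_mem h6 (ih (k + 2) (by omega) (by omega) u' hu' h7)

variable (H : Subgroup (GL D.Idx F)) (hHG : H ≤ h.G1) (hMH : MM h ≤ H)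

include hHG hMH

/-- The deep form: `H` contains a level element, irrational, at the special level. -/
theorem part_one {mδ : ℕ} (hlong : ∀ r < D.nroots, R.N ≤ r → (mδ : ℤ) < R.lin D.rank a r → ρ' r = r)
    (hkill : ∀ k, k + 1 ≠ mδ → ∀ t : ℕ → F, (∀ r ∈ Ls (k + 1), t (ρ' r) = (gs r : F) * f (t r)) →
      (∀ (L' : List ℕ) (e : ℕ → ℤ) (k' w i : ℕ), RatCl R D ρ' gs L' e → (∀ s ∈ L', R.lin D.rank a s = (k' : ℤ) + 1) →
        w < D.nroots → R.N ≤ w → R.lin D.rank a w = (k : ℤ) + k' + 2 → i < D.rank →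
        (∀ r ∈ Ls (k + 1), ∀ s ∈ L', Ex1 D s w r = true) → (∀ r ∈ Ls (k + 1), ∀ s ∈ L', Ex1 D r w s = true) →
        ((Ls (k + 1)).map fun r => ((Zc D L' e w i r : ℤ) : F) * (f (t r) - t r)).sum = 0) →
      ∀ r ∈ Ls (k + 1), f (t r) = t r)
    (hStar : ∃ u ∈ H, u ∈ D.posUnipotent F ∧ glMap D f u ≠ u) :
    ∃ t : ℕ → F, hF.wL (Ls mδ) t ∈ H ∧ (∀ r ∈ Ls mδ, t (ρ' r) = (gs r : F) * f (t r)) ∧ ∃ r ∈ Ls mδ, f (t r) ≠ t r := by
  classical
  let P : ℕ → Prop := fun m => ∃ u ∈ H, u ∈ Up R D a F m ∧ glMap D f u ≠ u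
  have hP1 : P 1 := by
    obtain ⟨u, h1, h2, h3⟩ := hStar
    exact ⟨u, h1, U_le_Up_one hF hlv h2, h3⟩
  have hPM : ¬ P (M + 1) := by
    rintro ⟨u, _, h2, h3⟩
    have h1 : Up R D a F (M + 1) ≤ Up R D a F M := Up_anti hF (by omega)
    rw [Up_top_eq_bot hM] at h1
    have h4 := h1 h2
    rw [Subgroup.mem_bot] at h4
    rw [h4] at h3
    exact h3 (map_one _)
  obtain ⟨k, hPk, hnP⟩ : ∃ k, P (k + 1) ∧ ¬ P (k + 2) := by
    by_contra hcon
    push Not at hcon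
    have h1 : ∀ j, P (j + 1) := by
      intro j
      induction j with
      | zero => exact hP1
      | succ j ih => exact hcon j ih
    exact hPM (h1 M)
  obtain ⟨u, huH, huUp, hune⟩ := hPk
  have huG := hHG huH
  obtain ⟨t, u', hu', rfl⟩ := exists_fac hF hlv (hLs (k + 1)) (hcm _) (hnd _) huUp
  set L := Ls (k + 1) with hLdef
  have hfix : τ.s (hF.wL L t * u') = hF.wL L t * u' := h.twG.G1_fix _ huG
  have hp : ∀ r ∈ L, t (ρ' r) = (gs r : F) * f (t r) :=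
    fun r hr => fac_pattern h hs hρ hρlv hlv (hLs (k + 1)) (hcm _) (hnd _) hu' hfix (r := r) hr
  have hperm := level_perm (a := a) hρ hρlv (hLs (k + 1)) (hnd _)
  have hlt : ∀ r ∈ L, r < D.nroots ∧ R.N ≤ r := fun r hr => ⟨((hLs _ _).1 hr).1, ((hLs _ _).1 hr).2.1⟩
  have hL1 : ∀ r ∈ L, r < D.nroots ∧ R.N ≤ r ∧ R.lin D.rank a r = (k : ℤ) + 1 := by
    intro r hr
    obtain ⟨h1, h2, h3⟩ := (hLs _ _).1 hr
    exact ⟨h1, h2, by push_cast at h3; exact h3⟩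
  have hwG := pattern_mem_G1 h hs hlt (hcm _) (hnd _) hperm hp
  have hu'G : u' ∈ h.G1 := by
    have e : u' = (hF.wL L t)⁻¹ * (hF.wL L t * u') := by group
    rw [e]
    exact mul_mem (inv_mem hwG) huG
  -- the level part is irrational
  have hne : ¬ ∀ r ∈ L, f (t r) = t r := by
    intro hfx
    have h6 : hF.wL L t ∈ MM h := pattern_mem_MM h hs hlt (hcm _) (hnd _) hperm hp hfx
    have h7 : u' ∈ H := by
      have e : u' = (hF.wL L t)⁻¹ * (hF.wL L t * u') := by group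
      rw [e]
      exact mul_mem (inv_mem (hMH h6)) huH
    have h8 : glMap D f u' = u' := by
      by_contra h9
      exact hnP ⟨u', h7, hu', h9⟩
    apply hune
    rw [map_mul, h6.2, h8]
  have hWU : ∀ t : ℕ → F, hF.wL L t ∈ D.posUnipotent F := fun t =>
    hF.wL_mem_rootClosure (Q := D.IsPosRoot) (fun r hr => hF.isPos_iff.2 ⟨(hlt r hr).1, (hlt r hr).2⟩) t
  by_cases hk : k + 1 = mδ
  · -- the special level
    subst hk
    refine ⟨t, ?_, hp, ?_⟩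
    · have h6 : u' ∈ MM h := above_rat h hlv hρ hρlv hs hgs hLs hnd hcm hM hlong M (k + 2) (by omega) (by omega) u' hu' hu'G
      have e : hF.wL L t = (hF.wL L t * u') * u'⁻¹ := by group
      rw [e]
      exact mul_mem huH (inv_mem (hMH h6))
    · by_contra hcon
      push Not at hcon
      exact hne hcon
  · exfalso
    apply hne
    refine hkill k hk t hp ?_
    intro L' e k' w i hcl hlv' hw hwN hlw hi hex1 hex2
    have hL'1 : ∀ r ∈ L', r < D.nroots ∧ R.N ≤ r ∧ R.lin D.rank a r = (k' : ℤ) + 1 :=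
      fun r hr => ⟨hcl.lt r hr, hcl.pos r hr, hlv' r hr⟩
    set y := hF.wL L' (fun s => (e s : F)) with hy
    have hyM : y ∈ MM h := wL_mem_MM h hs hcl
    have hyU : y ∈ D.posUnipotent F :=
      hF.wL_mem_rootClosure (Q := D.IsPosRoot) (fun r hr => hF.isPos_iff.2 ⟨hcl.lt r hr, hcl.pos r hr⟩) _
    set u := hF.wL L t * u' with hu
    set d : ℕ → F := fun r => f (t r) - t r with hd
    -- the defect
    set z : GL D.Idx F := (hF.wL L d)⁻¹ * u'⁻¹ * hF.wL L d * glMap D f u' with hz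
    have hzm : z ∈ Up R D a F (k + 2) := by
      have e1 : z = ((hF.wL L d)⁻¹ * u'⁻¹ * (hF.wL L d)⁻¹⁻¹) * glMap D f u' := by
        rw [hz]
        group
      rw [e1]
      exact mul_mem (conj_Up hF hlv (inv_mem (hWU d)) (inv_mem hu')) (sig_Up hF f hu')
    have hv : u⁻¹ * glMap D f u = hF.wL L d * z := by
      have e1 : hF.wL L (fun r => f (t r)) = hF.wL L t * hF.wL L d := by
        rw [hF.wL_mul (hcm _)]
        apply hF.wL_congr
        intro r _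
        simp only [hd]
        ring
      rw [hu, map_mul, sig_wL, e1, hz]
      group
    -- the commutator is rational
    have hc : u * y * u⁻¹ * y⁻¹ ∈ H := mul_mem (mul_mem (mul_mem huH (hMH hyM)) (inv_mem huH)) (inv_mem (hMH hyM))
    have hcUp : u * y * u⁻¹ * y⁻¹ ∈ Up R D a F (k + 2) := comm_step hF hlv huUp hyU
    have hcfix : glMap D f (u * y * u⁻¹ * y⁻¹) = u * y * u⁻¹ * y⁻¹ := by
      by_contra hcon
      exact hnP ⟨_, hc, hcUp, hcon⟩
    rw [map_mul, map_mul, map_mul, map_inv, map_inv, hyM.2] at hcfix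
    have h5 : glMap D f u * y * (glMap D f u)⁻¹ = u * y * u⁻¹ := mul_right_cancel hcfix
    have hcomm : (hF.wL L d * z) * y = y * (hF.wL L d * z) := by
      rw [← hv]
      have e1 : (u⁻¹ * glMap D f u) * y = u⁻¹ * (glMap D f u * y * (glMap D f u)⁻¹) * glMap D f u := by group
      rw [e1, h5]
      group
    have h9 := lead_rel hF hlv hL1 hL'1 hw hwN hlw hi hex1 hex2 hzm hcomm
    exact h9

end Main

end Cfsg.Agent.Lib.ChevTw
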