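import Mathlib
import Cfsg.Agent.Lib.ChevTw.PartI
import Cfsg.Agent.Lib.ChevSub2.NB

/-!
# Generation by the special class, and the dichotomy
-/

set_option autoImplicit false
set_option linter.unusedSectionVars false
set_option linter.unusedVariables false
set_option linter.unnecessarySimpa false

namespace Cfsg.Agent.Lib.ChevTw

open Cfsg Cfsg.Lie Matrix Cfsg.Agent.Lib.Chev Cfsg.Agent.Lib.Chev.Full Cfsg.Agent.Lib.Chev.Tri
open Cfsg.Agent.Lib.ChevTransfer Cfsg.Agent.Lib.ChevAut.SubField Cfsg.Agent.Lib.ChevAut.WClosed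
open Cfsg.Agent.Lib.ChevAut.ParabFit Cfsg.Agent.Lib.ChevInv Cfsg.Agent.Lib.ChevInv.CentG
open Cfsg.Agent.Lib.ChevSub Cfsg.Agent.Lib.ChevAut.RootCent Equiv

variable {T : Tabs} {X : Extra} {R : RootTab} {D : ChevalleyDatum} {hF : Full T X R D}
variable {F : Type*} [Field F] {τ : Tw hF F} {f : F ≃+* F} {ρ' π' : ℕ → ℕ} {J : ℕ → List ℕ} {A dd : ℕ → ℕ}

/-- A relation with a single nonzero coefficient kills the coordinate. -/
theorem kill_row {L : List ℕ} (hnd : L.Nodup) {r : ℕ} (hr : r ∈ L) {Z : ℕ → ℤ} (hZ : ∀ s ∈ L, s ≠ r → Z s = 0)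
    (hu : Z r = 1 ∨ Z r = -1) {d : ℕ → F} (hsum : (L.map fun s => ((Z s : ℤ) : F) * d s).sum = 0) : d r = 0 := by
  have key : ∀ L : List ℕ, L.Nodup → (∀ s ∈ L, s ≠ r → Z s = 0) →
      (L.map fun s => ((Z s : ℤ) : F) * d s).sum = if r ∈ L then ((Z r : ℤ) : F) * d r else 0 := by
    intro L
    induction L with
    | nil => simp
    | cons b L ih =>
      intro h1 h2
      obtain ⟨h3, h4⟩ := List.nodup_cons.1 h1
      simp only [List.map_cons, List.sum_cons]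
      rw [ih h4 fun s hs => h2 s (List.mem_cons_of_mem _ hs)]
      by_cases hb : b = r
      · subst hb
        simp [h3]
      · rw [h2 b List.mem_cons_self hb]
        by_cases hrL : r ∈ L
        · simp [hrL]
        · have : r ∉ b :: L := by
            intro h
            rcases List.mem_cons.1 h with h | h
            · exact hb h.symm
            · exact hrL h
          simp [hrL, this]
  rw [key L hnd hZ, if_pos hr] at hsum
  rcases hu with h | h <;> rw [h] at hsum <;> simpa using hsum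

variable (h : SCOK τ f ρ' π' J A dd) [Fintype F]

include h

/-- A generator moved into the special class lies in `H`. -/
theorem gen_mem {gs : ℕ → ℤ} (hs : ∀ r < D.nroots, ∀ a : F, τ.s (hF.c.xG r a) = hF.c.xG (ρ' r) ((gs r : F) * f a))
    {Ld : List ℕ} (hlt : ∀ r ∈ Ld, r < D.nroots ∧ R.N ≤ r) (hc : hF.CommL F Ld) (hnd : Ld.Nodup)
    (hperm : (Ld.map ρ').Perm Ld) (H : Subgroup (GL D.Idx F)) (hMH : MM h ≤ H)
    (hfull : ∀ t : ℕ → F, (∀ r ∈ Ld, t (ρ' r) = (gs r : F) * f (t r)) → hF.wL Ld t ∈ H)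
    {r₀ d : ℕ} {t : F} (hg : hF.c.wordG (cw ρ' f r₀ d t) ∈ h.G1) (hlt₀ : ∀ k < d, ρ'^[k] r₀ < D.nroots)
    {Lw : List ℕ} (hLw : ∀ j ∈ Lw, j < D.rank) (hw : ∀ k < d, foldw X J Lw (ρ'^[k] r₀) ∈ Ld) :
    hF.c.wordG (cw ρ' f r₀ d t) ∈ H := by
  set g := hF.c.wordG (cw ρ' f r₀ d t) with hgdef
  have hgc : g ∈ Full.rootClosure D F (fun r => r ∈ rsOf ρ' r₀ d) := by
    apply hF.c.wordG_mem
    intro p hp
    simp only [cw, List.mem_map, List.mem_range] at hp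
    obtain ⟨k, hk, rfl⟩ := hp
    exact hF.xG_mem_rootClosure (Q := fun r => r ∈ rsOf ρ' r₀ d) (mem_rsOf hk) _
  set n := nw h Lw with hn
  have hnM : n.1 ∈ MM h := nw_mem h hLw
  have hy : n.1 * g * n.1⁻¹ ∈ Full.rootClosure D F (fun r => r ∈ Ld) := by
    refine conj_rootClosure hF n (Q := fun r => r ∈ rsOf ρ' r₀ d) ?_ hgc
    intro r hr
    simp only [rsOf, List.mem_map, List.mem_range] at hr
    obtain ⟨k, hk, rfl⟩ := hr
    refine ⟨hlt₀ k hk, ?_⟩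
    rw [rhoN_nw h hLw]
    exact hw k hk
  obtain ⟨s, hs'⟩ := hF.exists_wL_of_mem hc hnd (Q := fun r => r ∈ Ld) (fun r => Iff.rfl) hy
  have hyG : n.1 * g * n.1⁻¹ ∈ h.G1 := mul_mem (mul_mem hnM.1 hg) (inv_mem hnM.1)
  have hfix : τ.s (hF.wL Ld s) = hF.wL Ld s := by
    rw [← hs']
    exact h.twG.G1_fix _ hyG
  have hp := Tw.fixed_wL τ hc hnd (fun r hr => ⟨(hlt r hr).2, (hlt r hr).1⟩) (ρ' := ρ') (c' := fun r a => (gs r : F) * f a) hperm
    (fun r hr a => hs r (hlt r hr).1 a) hfix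
  have hyH : n.1 * g * n.1⁻¹ ∈ H := by
    rw [hs']
    exact hfull s hp
  have e : g = n.1⁻¹ * (n.1 * g * n.1⁻¹) * n.1 := by group
  rw [e]
  exact mul_mem (mul_mem (inv_mem (hMH hnM)) hyH) (hMH hnM)

/-- Generation from the special class. -/
theorem full_G1 {gs : ℕ → ℤ} (hs : ∀ r < D.nroots, ∀ a : F, τ.s (hF.c.xG r a) = hF.c.xG (ρ' r) ((gs r : F) * f a))
    {Ld : List ℕ} (hlt : ∀ r ∈ Ld, r < D.nroots ∧ R.N ≤ r) (hc : hF.CommL F Ld) (hnd : Ld.Nodup)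
    (hperm : (Ld.map ρ').Perm Ld) (H : Subgroup (GL D.Idx F)) (hMH : MM h ≤ H)
    (hfull : ∀ t : ℕ → F, (∀ r ∈ Ld, t (ρ' r) = (gs r : F) * f (t r)) → hF.wL Ld t ∈ H)
    (hgen : ∀ i < D.rank, dd i = 1 ∨
      ((∀ k < dd i, ρ'^[k] (D.simple (A i)) < D.nroots) ∧ (∀ k < dd i, ρ'^[k] (D.neg (D.simple (A i))) < D.nroots) ∧
        (∃ Lw : List ℕ, (∀ j ∈ Lw, j < D.rank) ∧ ∀ k < dd i, foldw X J Lw (ρ'^[k] (D.simple (A i))) ∈ Ld) ∧
        (∃ Lw : List ℕ, (∀ j ∈ Lw, j < D.rank) ∧ ∀ k < dd i, foldw X J Lw (ρ'^[k] (D.neg (D.simple (A i)))) ∈ Ld))) :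
    h.G1 ≤ H := by
  have hmemG : ∀ {g}, g ∈ scGens (hF := hF) f ρ' A dd → g ∈ h.G1 := fun hg => Subgroup.subset_closure hg
  have hlong : ∀ {r₀ d : ℕ} {t : F}, d = 1 → f^[d] t = t → hF.c.wordG (cw ρ' f r₀ d t) ∈ h.G1 → hF.c.wordG (cw ρ' f r₀ d t) ∈ H := by
    intro r₀ d t hd ht hg
    apply hMH
    refine ⟨hg, ?_⟩
    rw [sig_cw hF]
    subst hd
    have : f t = t := ht
    rw [this]
  unfold SCOK.G1
  rw [Subgroup.closure_le]
  rintro g ⟨i, hi, t, ht, rfl | rfl⟩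
  · have hg := hmemG (g := hF.c.wordG (cw ρ' f (D.simple (A i)) (dd i) t)) ⟨i, hi, t, ht, Or.inl rfl⟩
    rcases hgen i hi with h1 | ⟨h1, h2, ⟨Lw, h3, h4⟩, _⟩
    · exact hlong h1 ht hg
    · exact gen_mem h hs hlt hc hnd hperm H hMH hfull hg h1 h3 h4
  · have hg := hmemG (g := hF.c.wordG (cw ρ' f (D.neg (D.simple (A i))) (dd i) t)) ⟨i, hi, t, ht, Or.inr rfl⟩
    rcases hgen i hi with h1 | ⟨h1, h2, _, ⟨Lw, h3, h4⟩⟩
    · exact hlong h1 ht hg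
    · exact gen_mem h hs hlt hc hnd hperm H hMH hfull hg h2 h3 h4

/-- Rational torus elements fixed by the twist lie in the subfield points. -/
theorem tor_mem_MM {reps : List ℕ} (hreps : ∀ i ∈ reps, i < D.rank) (hnd : (reps.flatMap J).Nodup)
    (hcov : ∀ j < D.rank, j ∈ reps.flatMap J) {c : Fin D.rank → Fˣ} (hc : ∀ j, c (τ.π j) = unitsF f (c j))
    (hc' : ∀ k, f (c k : F) = (c k : F)) : tor R D c ∈ MM h := by
  refine ⟨h.tor_mem_of_fixed hreps hnd hcov hc, ?_⟩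
  exact sig_of_mem_Lf hF f (Cfsg.Agent.Lib.ChevSub2.tor_mem_Lf hF f c hc')

omit h [Fintype F] in
/-- The conjugate of a word. -/
theorem conj_wordG {n : GL D.Idx F} {w : ℕ → ℕ} {v : ℕ → F} (A' : List (ℕ × F))
    (hs : ∀ p ∈ A', n * hF.c.xG p.1 p.2 * n⁻¹ = hF.c.xG (w p.1) (v p.1 * p.2)) :
    n * hF.c.wordG A' * n⁻¹ = hF.c.wordG (A'.map fun p => (w p.1, v p.1 * p.2)) := by
  induction A' with
  | nil => simp [Checks.wordG_nil]
  | cons a L ih =>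
    simp only [List.map_cons, Checks.wordG_cons]
    rw [← hs a List.mem_cons_self, ← ih fun p hp => hs p (List.mem_cons_of_mem _ hp)]
    group

omit h [Fintype F] in
/-- A conjugate of a class element: coordinates. -/
theorem conj_wL_eq {n : GL D.Idx F} {w : ℕ → ℕ} {v : ℕ → F} {L L₂ : List ℕ} (hc : hF.CommL F L₂) (hnd₂ : L₂.Nodup)
    (hperm : (L.map w).Perm L₂) (hs : ∀ r ∈ L, ∀ a : F, n * hF.c.xG r a * n⁻¹ = hF.c.xG (w r) (v r * a)) (t : ℕ → F) :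
    ∃ t'' : ℕ → F, n * hF.wL L t * n⁻¹ = hF.wL L₂ t'' ∧ ∀ r ∈ L, t'' (w r) = v r * t r := by
  classical
  have hinj : Set.InjOn w {r | r ∈ L} := by
    have h1 : (L.map w).Nodup := hperm.nodup_iff.2 hnd₂
    exact List.inj_on_of_nodup_map h1
  let g := Function.invFunOn w {r | r ∈ L}
  have hg : ∀ r ∈ L, g (w r) = r := fun r hr => hinj.leftInvOn_invFunOn hr
  let t'' : ℕ → F := fun s => v (g s) * t (g s)
  refine ⟨t'', ?_, ?_⟩
  · unfold Full.wL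
    rw [conj_wordG (hF := hF) (w := w) (v := v) _ (by
      intro p hp
      simp only [List.mem_map] at hp
      obtain ⟨r, hr, rfl⟩ := hp
      exact hs r hr _)]
    have e : ((L.map fun r => (r, t r)).map fun p => (w p.1, v p.1 * p.2)) =
        (L.map w).map fun s => (s, t'' s) := by
      simp only [List.map_map]
      apply List.map_congr_left
      intro r hr
      simp only [Function.comp, t'', hg r hr]
    rw [e]
    apply hF.wordG_perm (hperm.map _)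
    intro p hp1 p' hp2
    simp only [List.mem_map] at hp1 hp2
    obtain ⟨_, ⟨r, hr, rfl⟩, rfl⟩ := hp1
    obtain ⟨_, ⟨s, hs', rfl⟩, rfl⟩ := hp2
    exact hc _ (hperm.subset (List.mem_map_of_mem hr)) _ (hperm.subset (List.mem_map_of_mem hs')) _ _
  · intro r hr
    simp only [t'', hg r hr]

/-- Transfer of a class element by a rational monomial element. -/
theorem transfer {gs : ℕ → ℤ} (hs : ∀ r < D.nroots, ∀ a : F, τ.s (hF.c.xG r a) = hF.c.xG (ρ' r) ((gs r : F) * f a))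
    {L₁ L₂ Lw : List ℕ} (hLw : ∀ j ∈ Lw, j < D.rank) (hlt₁ : ∀ r ∈ L₁, r < D.nroots)
    (hpos₂ : ∀ r ∈ L₂, r < D.nroots ∧ R.N ≤ r) (hc₂ : hF.CommL F L₂) (hnd₂ : L₂.Nodup)
    (hpr₂ : (L₂.map ρ').Perm L₂) (hperm : (L₁.map (foldw X J Lw)).Perm L₂)
    {r₁ : ℕ} (hr₁ : r₁ ∈ L₁) (H : Subgroup (GL D.Idx F)) (hHG : H ≤ h.G1) (hMH : MM h ≤ H) :
    ∃ v : F, v ≠ 0 ∧ f v = v ∧ ∀ t : ℕ → F, hF.wL L₁ t ∈ H → ∃ t'' : ℕ → F, hF.wL L₂ t'' ∈ H ∧
      t'' (foldw X J Lw r₁) = v * t r₁ ∧ ∀ r ∈ L₂, t'' (ρ' r) = (gs r : F) * f (t'' r) := by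
  classical
  set n := nw h Lw with hn
  have hnM : n.1 ∈ MM h := nw_mem h hLw
  have hspec : ∀ r : ℕ, ∃ u : F, r < D.nroots → u ≠ 0 ∧ ∀ a : F, n.1 * hF.c.xG r a * n.1⁻¹ = hF.c.xG (foldw X J Lw r) (u * a) := by
    intro r
    by_cases hr : r < D.nroots
    · obtain ⟨u, hu⟩ := hF.rhoN_spec_apply n ⟨r, hr⟩
      refine ⟨(u : F), fun _ => ⟨Units.ne_zero u, fun a => ?_⟩⟩
      have h1 := hu a
      rw [rhoN_nw h hLw] at h1
      exact h1
    · exact ⟨0, fun h => absurd h hr⟩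
  choose v hv using hspec
  have hfv : ∀ r < D.nroots, f (v r) = v r := by
    intro r hr
    obtain ⟨_, h2⟩ := hv r hr
    have h3 := congrArg (glMap D f) (h2 1)
    rw [map_mul, map_mul, map_inv, hnM.2, sig_xG hF, sig_xG hF, map_one, h2 1] at h3
    simp only [mul_one] at h3
    have hr' : foldw X J Lw r < D.nroots := by
      rw [← rhoN_nw h hLw ⟨r, hr⟩]
      exact (hF.rhoN F n ⟨r, hr⟩).2
    exact (hF.xG_param_inj hr' h3).symm
  refine ⟨v r₁, (hv r₁ (hlt₁ r₁ hr₁)).1, hfv r₁ (hlt₁ r₁ hr₁), ?_⟩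
  intro t ht
  obtain ⟨t'', h1, h2⟩ := conj_wL_eq (hF := hF) (n := n.1) (w := foldw X J Lw) (v := v) hc₂ hnd₂ hperm
    (fun r hr a => (hv r (hlt₁ r hr)).2 a) t
  have hH : hF.wL L₂ t'' ∈ H := by
    rw [← h1]
    exact mul_mem (mul_mem (hMH hnM) ht) (inv_mem (hMH hnM))
  refine ⟨t'', hH, h2 r₁ hr₁, ?_⟩
  have hfix : τ.s (hF.wL L₂ t'') = hF.wL L₂ t'' := h.twG.G1_fix _ (hHG hH)
  exact Tw.fixed_wL τ hc₂ hnd₂ (fun r hr => ⟨(hpos₂ r hr).2, (hpos₂ r hr).1⟩) (ρ' := ρ') (c' := fun r a => (gs r : F) * f a) hpr₂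
    (fun r hr a => hs r (hpos₂ r hr).1 a) hfix

/-- The list of positive roots of a given level. -/
noncomputable def LsF (R : RootTab) (D : ChevalleyDatum) (a : ℕ → ℤ) (m : ℕ) : List ℕ :=
  (List.range D.nroots).filter fun r => decide (R.N ≤ r) && decide (R.lin D.rank a r = m)

omit h [Fintype F] in
theorem mem_LsF {a : ℕ → ℤ} (m r : ℕ) : r ∈ LsF R D a m ↔ r < D.nroots ∧ R.N ≤ r ∧ R.lin D.rank a r = m := by
  simp [LsF, List.mem_filter, List.mem_range]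

omit h [Fintype F] in
theorem nodup_LsF {a : ℕ → ℤ} (m : ℕ) : (LsF R D a m).Nodup := List.Nodup.filter _ List.nodup_range

omit h [Fintype F] in
theorem commL_LsF (hF : Full T X R D) {a : ℕ → ℤ}
    (ht : ∀ r < D.nroots, ∀ s < D.nroots, R.N ≤ r → R.N ≤ s → R.lin D.rank a r = R.lin D.rank a s → s ≠ r → s ≠ D.neg r ∧ D.commTerms r s = [])
    (m : ℕ) : hF.CommL F (LsF R D a m) := by
  apply commL_of_nil (fun r hr => ((mem_LsF m r).1 hr).1)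
  intro r hr s hs hne
  obtain ⟨h1, h2, h3⟩ := (mem_LsF m r).1 hr
  obtain ⟨h4, h5, h6⟩ := (mem_LsF m s).1 hs
  exact ht r h1 s h4 h2 h5 (h3.trans h6.symm) hne

/-- The dichotomy. -/
theorem dichotomy {a : ℕ → ℤ} {gs : ℕ → ℤ} {top j0 M mδ : ℕ} {L₀ : List ℕ}
    (htop : top < D.nroots) (hmax : ∀ s < D.nroots, s ≤ top) (hpos : R.N ≤ top)
    (hj0 : j0 < D.rank) (hcart0 : 0 < D.cartan j0 top) (hcart : ∀ j < D.rank, j ≠ j0 → D.cartan j top = 0)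
    (hm : ChevMonoN.checkMono T X D = true)
    (hρ : ∀ r : Fin D.nroots, ((τ.ρ r : Fin D.nroots) : ℕ) = ρ' r) (hρtop : ρ' top = top)
    (hTr : ∀ β, R.N ≤ β → β < D.nroots → ρ' β = β → ∃ L : List ℕ, (∀ i ∈ L, i < D.rank) ∧ foldw X J L top = β)
    (hSum : ∀ m < D.rank, ρ' (D.simple m) = D.simple m ∨ ∃ b₁ b₀ : ℕ, b₀ < b₁ ∧ b₁ < D.nroots ∧ R.N ≤ b₀ ∧ ρ' b₁ = b₁ ∧ ρ' b₀ = b₀ ∧
      ∀ j < D.rank, R.rcAt b₁ j - R.rcAt b₀ j = if j ∈ J m then 1 else 0)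
    (hs : ∀ r < D.nroots, ∀ a : F, τ.s (hF.c.xG r a) = hF.c.xG (ρ' r) ((gs r : F) * f a))
    (hgs : ∀ r < D.nroots, ρ' r = r → gs r = 1)
    (hinv : ∀ r : Fin D.nroots, R.lin D.rank (aJ {j | j ≠ j0}) (τ.ρ r : Fin D.nroots) = R.lin D.rank (aJ {j | j ≠ j0}) r)
    (hT : ∀ r < D.nroots, ρ' r = r → ∃ Lm : List ℕ, (∀ j ∈ Lm, j < D.rank ∧ J j = [j] ∧ ρ' (D.simple j) = D.simple j) ∧
      Tm R X D J top j0 (Lm.foldl (fun s j => X.wf j s) r))
    (hL₀ : ∀ i ∈ L₀, i < D.rank) (hw0 : ∀ s < D.nroots, (R.N ≤ s ↔ foldw X J L₀ s < R.N))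
    (hfin : ∀ c : Fin D.rank → Fˣ, (∀ β < D.nroots, R.N ≤ β → ρ' β = β → chiT D c β = 1) →
      (∀ r, (∃ L e, RatCl R D ρ' gs L e ∧ (∀ s ∈ L, 0 < R.rcAt s j0) ∧ r ∈ L) → chiT D c r = 1) → tor R D c = (1 : GL D.Idx F))
    (hlv : ∀ r < D.nroots, R.N ≤ r → 1 ≤ R.lin D.rank a r)
    (hρlv : ∀ r < D.nroots, R.lin D.rank a (ρ' r) = R.lin D.rank a r)
    (hct : ∀ r < D.nroots, ∀ s < D.nroots, R.N ≤ r → R.N ≤ s → R.lin D.rank a r = R.lin D.rank a s → s ≠ r → s ≠ D.neg r ∧ D.commTerms r s = [])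
    (hM : ∀ r < D.nroots, R.lin D.rank a r < M)
    (hlong : ∀ r < D.nroots, R.N ≤ r → (mδ : ℤ) < R.lin D.rank a r → ρ' r = r)
    (hkill : ∀ k, k + 1 ≠ mδ → ∀ t : ℕ → F, (∀ r ∈ LsF R D a (k + 1), t (ρ' r) = (gs r : F) * f (t r)) →
      (∀ (L' : List ℕ) (e : ℕ → ℤ) (k' w i : ℕ), RatCl R D ρ' gs L' e → (∀ s ∈ L', R.lin D.rank a s = (k' : ℤ) + 1) →
        w < D.nroots → R.N ≤ w → R.lin D.rank a w = (k : ℤ) + k' + 2 → i < D.rank →
        (∀ r ∈ LsF R D a (k + 1), ∀ s ∈ L', Ex1 D s w r = true) → (∀ r ∈ LsF R D a (k + 1), ∀ s ∈ L', Ex1 D r w s = true) →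
        ((LsF R D a (k + 1)).map fun r => ((Zc D L' e w i r : ℤ) : F) * (f (t r) - t r)).sum = 0) →
      ∀ r ∈ LsF R D a (k + 1), f (t r) = t r)
    (H : Subgroup (GL D.Idx F)) (hHG : H ≤ h.G1) (hMH : MM h ≤ H)
    (hclose : ∀ t : ℕ → F, hF.wL (LsF R D a mδ) t ∈ H → (∀ r ∈ LsF R D a mδ, t (ρ' r) = (gs r : F) * f (t r)) →
      (∃ r ∈ LsF R D a mδ, f (t r) ≠ t r) → h.G1 ≤ H) :
    H = MM h ∨ H = h.G1 := by
  by_cases hStar : ∀ u ∈ H, u ∈ D.posUnipotent F → glMap D f u = u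
  · left
    apply le_antisymm _ hMH
    intro x hx
    refine ⟨hHG hx, ?_⟩
    exact part_two h htop hmax hpos hj0 hcart0 hcart hm hρ hρtop hTr hSum H hHG hMH hStar hs hgs hinv hT hL₀ hw0 hfin hx
  · right
    push Not at hStar
    obtain ⟨t, h1, h2, h3⟩ := part_one h hlv hρ hρlv hs hgs (Ls := LsF R D a) (fun m r => mem_LsF m r) nodup_LsF (commL_LsF hF hct) hM H hHG hMH hlong hkill hStar
    exact le_antisymm hHG (hclose t h1 h2 h3)

omit h [Fintype F] in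
/-- Fixed points of the power map on a matrix group. -/
theorem fix_iff {q : ℕ} (hf : ∀ t, f t = t ^ q) (g : GL D.Idx F) :
    glMap D f g = g ↔ ∀ i j : D.Idx, ((g : Matrix D.Idx D.Idx F) i j) ^ q = (g : Matrix D.Idx D.Idx F) i j := by
  constructor
  · intro h i j
    have h1 := congrArg (fun g : GL D.Idx F => (g : Matrix D.Idx D.Idx F) i j) h
    simp only [glMap_val, Matrix.map_apply] at h1
    rwa [hf] at h1
  · intro h
    apply Units.ext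
    rw [glMap_val]
    ext i j
    rw [Matrix.map_apply, hf, h i j]

/-- The subfield points are a proper subgroup. -/
theorem MM_ne_G1 {i : ℕ} (hi : i < D.rank) {x : F} (hx : f^[dd i] x = x) (hne : f x ≠ x)
    (hd : 0 < dd i) (hpos : ∀ r ∈ rsOf ρ' (D.simple (A i)) (dd i), R.N ≤ r ∧ r < D.nroots)
    (hnd : (rsOf ρ' (D.simple (A i)) (dd i)).Nodup) (hc : hF.CommL F (rsOf ρ' (D.simple (A i)) (dd i))) : MM h ≠ h.G1 := by
  intro e
  have hg : hF.c.wordG (cw ρ' f (D.simple (A i)) (dd i) x) ∈ h.G1 := Subgroup.subset_closure ⟨i, hi, x, hx, Or.inl rfl⟩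
  rw [← e] at hg
  have h1 := hg.2
  rw [sig_cw hF] at h1
  exact hne (Tw.cw_inj (hF := hF) f hd hpos hnd hc h1)

end Cfsg.Agent.Lib.ChevTw
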