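import Mathlib
import Cfsg.Agent.Lib.ChevTw.Close
import Cfsg.Agent.Lib.Chev.TwD4
import Cfsg.Agent.Lib.ChevMonoN

/-!
# Subfield points of the twisted group of type ³D₄: the tables
-/

set_option autoImplicit false
set_option maxRecDepth 100000
set_option synthInstance.maxSize 10000
set_option synthInstance.maxHeartbeats 2000000
set_option linter.unusedSectionVars false
set_option linter.unusedVariables false
set_option linter.unnecessarySimpa false

namespace Cfsg.Agent.Lib.ChevTw.InstD4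

open Cfsg Cfsg.Lie Matrix Cfsg.Agent.Lib.Chev Cfsg.Agent.Lib.Chev.Full Cfsg.Agent.Lib.Chev.Tri
open Cfsg.Agent.Lib.ChevTransfer Cfsg.Agent.Lib.ChevAut.SubField Cfsg.Agent.Lib.ChevAut.WClosed
open Cfsg.Agent.Lib.ChevAut.ParabFit Cfsg.Agent.Lib.ChevInv Cfsg.Agent.Lib.ChevInv.CentG
open Cfsg.Agent.Lib.ChevSub Cfsg.Agent.Lib.ChevAut.RootCent Equiv
open Cfsg.Agent.Lib.Chev.TwD4 (hF sc G1_eq J A dd τ)

noncomputable abbrev ρ' : ℕ → ℕ := TwTabD4.S.r
noncomputable abbrev gs : ℕ → ℤ := fun r => Trie.find (Int.ofNat 1) TwTabD4.g r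
noncomputable abbrev RR := RootD4T.R
noncomputable abbrev XX := TabD4.X

/-- The level weights. -/
def aL : ℕ → ℤ
  | 1 => 10
  | _ => 1

noncomputable abbrev lv (r : ℕ) : ℤ := RR.lin chevD4.rank aL r

variable {K : Type*} [Field K] [Fintype K] (f : K ≃+* K)

theorem htop : 23 < chevD4.nroots := by decide +kernel
theorem hmax : ∀ s < chevD4.nroots, s ≤ 23 := by decide +kernel
theorem hpos : RR.N ≤ 23 := by decide +kernel
theorem hj0 : 1 < chevD4.rank := by decide +kernel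
theorem hcart0 : 0 < chevD4.cartan 1 23 := by decide +kernel
theorem hcart : ∀ j < chevD4.rank, j ≠ 1 → chevD4.cartan j 23 = 0 := by decide +kernel
theorem hρtop : ρ' 23 = 23 := by decide +kernel

theorem hTr : ∀ β, RR.N ≤ β → β < chevD4.nroots → ρ' β = β → ∃ L : List ℕ, (∀ i ∈ L, i < chevD4.rank) ∧ foldw XX J L 23 = β := by
  have key : ∀ β < chevD4.nroots, RR.N ≤ β → ρ' β = β → β = 14 ∨ β = 22 ∨ β = 23 := by decide +kernel
  intro β h1 h2 h3
  rcases key β h2 h1 h3 with rfl | rfl | rfl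
  · exact ⟨[0, 1], by decide +kernel, by decide +kernel⟩
  · exact ⟨[1], by decide +kernel, by decide +kernel⟩
  · exact ⟨[], by decide +kernel, by decide +kernel⟩

theorem hSum : ∀ m < chevD4.rank, ρ' (chevD4.simple m) = chevD4.simple m ∨ ∃ b₁ b₀ : ℕ, b₀ < b₁ ∧ b₁ < chevD4.nroots ∧ RR.N ≤ b₀ ∧ ρ' b₁ = b₁ ∧ ρ' b₀ = b₀ ∧
      ∀ j < chevD4.rank, RR.rcAt b₁ j - RR.rcAt b₀ j = if j ∈ J m then 1 else 0 := by
  have key : ∀ m < chevD4.rank, ρ' (chevD4.simple m) = chevD4.simple m ∨ ((22 : ℕ) < chevD4.nroots ∧ RR.N ≤ 14 ∧ ρ' 22 = 22 ∧ ρ' 14 = 14 ∧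
      ∀ j < chevD4.rank, RR.rcAt 22 j - RR.rcAt 14 j = if j ∈ J m then 1 else 0) := by decide +kernel
  intro m hm
  rcases key m hm with h | ⟨h1, h2, h3, h4, h5⟩
  · exact Or.inl h
  · exact Or.inr ⟨22, 14, by norm_num, h1, h2, h3, h4, h5⟩

theorem hgs : ∀ r < chevD4.nroots, ρ' r = r → gs r = 1 := by decide +kernel

theorem hs : ∀ r < chevD4.nroots, ∀ a : K, (τ f).s (hF.c.xG r a) = hF.c.xG (ρ' r) ((gs r : K) * f a) := fun r hr a =>
  TwTabD4.ok.signTw_s hF TwTabD4.sign_ok TwTabD4.sq_ok TwTabD4.unit_ok TwTabD4.neg_ok f hr a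

theorem hρ : ∀ r : Fin chevD4.nroots, (((τ f).ρ r : Fin chevD4.nroots) : ℕ) = ρ' r := fun _ => rfl

theorem hrc0 : ∀ r < chevD4.nroots, RR.rcAt (ρ' r) 1 = RR.rcAt r 1 := by decide +kernel

theorem lin_aJ1 {r : ℕ} : RR.lin chevD4.rank (aJ {j | j ≠ 1}) r = RR.rcAt r 1 := by
  classical
  unfold RootTab.lin
  rw [Finset.sum_eq_single 1]
  · simp [aJ]
  · intro b _ hb
    simp [aJ, hb]
  · intro h
    exact absurd (Finset.mem_range.2 (by decide +kernel)) h

theorem hinv : ∀ r : Fin chevD4.nroots, RR.lin chevD4.rank (aJ {j | j ≠ 1}) ((τ f).ρ r : Fin chevD4.nroots) = RR.lin chevD4.rank (aJ {j | j ≠ 1}) r := by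
  intro r
  rw [lin_aJ1, lin_aJ1]
  exact hrc0 r r.2

theorem hT : ∀ r < chevD4.nroots, ρ' r = r → ∃ Lm : List ℕ, (∀ j ∈ Lm, j < chevD4.rank ∧ J j = [j] ∧ ρ' (chevD4.simple j) = chevD4.simple j) ∧
      Tm RR XX chevD4 J 23 1 (Lm.foldl (fun s j => XX.wf j s) r) := by
  have key : ∀ r < chevD4.nroots, ρ' r = r → r = 0 ∨ r = 1 ∨ r = 9 ∨ r = 14 ∨ r = 22 ∨ r = 23 := by decide +kernel
  intro r hr hρr
  rcases key r hr hρr with rfl | rfl | rfl | rfl | rfl | rfl
  · refine ⟨[1], by decide +kernel, Or.inr ⟨14, 1, [0, 1], 14, ?_⟩⟩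
    decide +kernel
  · refine ⟨[], by decide +kernel, Or.inr ⟨14, 1, [0, 1], 14, ?_⟩⟩
    decide +kernel
  · refine ⟨[], by decide +kernel, Or.inr ⟨22, -1, [1], 14, ?_⟩⟩
    decide +kernel
  · exact ⟨[], by decide +kernel, Or.inl (by decide +kernel)⟩
  · exact ⟨[], by decide +kernel, Or.inl (by decide +kernel)⟩
  · exact ⟨[], by decide +kernel, Or.inl (by decide +kernel)⟩

theorem hL₀ : ∀ i ∈ [1, 0, 1, 0, 1, 0], i < chevD4.rank := by decide +kernel
theorem hw0 : ∀ s < chevD4.nroots, (RR.N ≤ s ↔ foldw XX J [1, 0, 1, 0, 1, 0] s < RR.N) := by decide +kernel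

theorem hlv : ∀ r < chevD4.nroots, RR.N ≤ r → 1 ≤ lv r := by decide +kernel
theorem hρlv : ∀ r < chevD4.nroots, lv (ρ' r) = lv r := by decide +kernel
theorem hct : ∀ r < chevD4.nroots, ∀ s < chevD4.nroots, RR.N ≤ r → RR.N ≤ s → lv r = lv s → s ≠ r → s ≠ chevD4.neg r ∧ chevD4.commTerms r s = [] := by
  decide +kernel
theorem hM : ∀ r < chevD4.nroots, lv r < (24 : ℕ) := by decide +kernel
theorem hlong : ∀ r < chevD4.nroots, RR.N ≤ r → ((12 : ℕ) : ℤ) < lv r → ρ' r = r := by decide +kernel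

/-- The rational class of `b`. -/
theorem ratB : RatCl RR chevD4 ρ' gs [14] (fun _ => 1) := by
  constructor <;> decide +kernel

/-- The rational class of `a`. -/
theorem ratA : RatCl RR chevD4 ρ' gs [12, 13, 18] (fun _ => 1) := by
  constructor <;> decide +kernel

/-- The rational class of `a + b`. -/
def eS : ℕ → ℤ
  | 19 => -1
  | _ => 1

theorem ratS : RatCl RR chevD4 ρ' gs [15, 16, 19] eS := by
  constructor <;> decide +kernel

theorem L1 : LsF RR chevD4 aL 1 = [12, 13, 18] := by decide +kernel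
theorem L11 : LsF RR chevD4 aL 11 = [15, 16, 19] := by decide +kernel
theorem L12 : LsF RR chevD4 aL 12 = [17, 20, 21] := by decide +kernel

end Cfsg.Agent.Lib.ChevTw.InstD4
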