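import Mathlib
import Cfsg.Agent.Lib.ChevTw.InstD4

/-!
# Subfield points of the twisted group of type ³D₄: extraction and closure
-/

set_option autoImplicit false
set_option maxRecDepth 100000
set_option synthInstance.maxSize 10000
set_option synthInstance.maxHeartbeats 2000000
set_option linter.unusedSectionVars false
set_option linter.unusedVariables false
set_option linter.unnecessarySimpa false

namespace Cfsg.Agent.Lib.ChevTw

open Cfsg Cfsg.Lie Matrix Cfsg.Agent.Lib.Chev Cfsg.Agent.Lib.Chev.Full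

/-- Commuting root elements. -/
theorem cm_nil {T : Tabs} {X : Extra} {R : RootTab} {D : ChevalleyDatum} (hF : Full T X R D) {F : Type*} [Field F] {r s : ℕ}
    (h : r < D.nroots ∧ s < D.nroots ∧ s ≠ r ∧ s ≠ D.neg r ∧ D.commTerms r s = []) (a b : F) :
    Commute (hF.c.xG r a) (hF.c.xG s b) :=
  Full.xG_commute_of_nil (hF := hF) h.1 h.2.1 h.2.2.1 h.2.2.2.1 h.2.2.2.2 a b

/-- The commutator relation with one term. -/
theorem swap1 {T : Tabs} {X : Extra} {R : RootTab} {D : ChevalleyDatum} (hF : Full T X R D) {F : Type*} [Field F] {r s m : ℕ} {C : ℤ}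
    (h : r < D.nroots ∧ s < D.nroots ∧ s ≠ r ∧ s ≠ D.neg r ∧ D.commTerms r s = [(m, C, 1, 1)]) (t u : F) :
    hF.c.xG s u * hF.c.xG r t = hF.c.xG r t * hF.c.xG s u * hF.c.xG m ((C : F) * (-t) * u) := by
  have h1 := hF.xG_comm h.1 h.2.1 h.2.2.1 h.2.2.2.1 t u
  rw [h1]
  simp [ChevalleyDatum.commWord, h.2.2.2.2, Checks.wordG_cons, Checks.wordG_nil]

/-- Conjugation with one term. -/
theorem conj1 {T : Tabs} {X : Extra} {R : RootTab} {D : ChevalleyDatum} (hF : Full T X R D) {F : Type*} [Field F] {r s m : ℕ} {C : ℤ}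
    (h : r < D.nroots ∧ s < D.nroots ∧ s ≠ r ∧ s ≠ D.neg r ∧ D.commTerms r s = [(m, C, 1, 1)]) (t u : F) :
    hF.c.xG r t * hF.c.xG s u * (hF.c.xG r t)⁻¹ = hF.c.xG s u * hF.c.xG m ((C : F) * t * u) := by
  have h1 := hF.xG_conj h.1 h.2.1 h.2.2.1 h.2.2.2.1 t u
  rw [h1]
  simp [ChevalleyDatum.commWord, h.2.2.2.2, Checks.wordG_cons, Checks.wordG_nil]

/-- Conjugation by an inverse, with one term. -/
theorem conj1' {T : Tabs} {X : Extra} {R : RootTab} {D : ChevalleyDatum} (hF : Full T X R D) {F : Type*} [Field F] {r s m : ℕ} {C : ℤ}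
    (h : r < D.nroots ∧ s < D.nroots ∧ s ≠ r ∧ s ≠ D.neg r ∧ D.commTerms r s = [(m, C, 1, 1)]) (t u : F) :
    (hF.c.xG r t)⁻¹ * hF.c.xG s u * hF.c.xG r t = hF.c.xG s u * hF.c.xG m ((C : F) * (-t) * u) := by
  have h1 := conj1 hF h (-t) u
  rw [← hF.c.xG_inv, inv_inv] at h1
  exact h1

/-- The word identity behind the quadratic map: first part. -/
theorem word_W {G : Type*} [Group G] {x₁₂ x₁₃ x₁₈ B a₁ a₂ a₃ z₁ z₂ z₃ th : G}
    (h₁ : B * x₁₂ * B⁻¹ = x₁₂ * a₁) (h₂ : B * x₁₃ * B⁻¹ = x₁₃ * a₂) (h₃ : B * x₁₈ * B⁻¹ = x₁₈ * a₃)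
    (h₄ : x₁₃⁻¹ * a₁ * x₁₃ = a₁ * z₁) (h₅ : x₁₈⁻¹ * a₁ * x₁₈ = a₁ * z₂) (h₆ : x₁₈⁻¹ * z₁ * x₁₈ = z₁ * th)
    (h₇ : x₁₈⁻¹ * a₂ * x₁₈ = a₂ * z₃) :
    (x₁₂ * (x₁₃ * (x₁₈ * 1)))⁻¹ * (B * (x₁₂ * (x₁₃ * (x₁₈ * 1))) * B⁻¹) = a₁ * z₂ * z₁ * th * a₂ * z₃ * a₃ := by
  have e1 : B * (x₁₂ * (x₁₃ * (x₁₈ * 1))) * B⁻¹ = (B * x₁₂ * B⁻¹) * (B * x₁₃ * B⁻¹) * (B * x₁₈ * B⁻¹) := by group
  rw [e1, h₁, h₂, h₃]
  calc (x₁₂ * (x₁₃ * (x₁₈ * 1)))⁻¹ * (x₁₂ * a₁ * (x₁₃ * a₂) * (x₁₈ * a₃))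
      = x₁₈⁻¹ * (x₁₃⁻¹ * a₁ * x₁₃) * a₂ * x₁₈ * a₃ := by group
    _ = (x₁₈⁻¹ * a₁ * x₁₈) * (x₁₈⁻¹ * z₁ * x₁₈) * (x₁₈⁻¹ * a₂ * x₁₈) * a₃ := by rw [h₄]; group
    _ = _ := by rw [h₅, h₆, h₇]; group

/-- The word identity behind the quadratic map: second part. -/
theorem word_N {G : Type*} [Group G] {a₁ a₂ a₃ z₁ z₂ z₃ th tp : G}
    (h1 : z₂ * a₂ = a₂ * z₂ * tp) (h2 : z₁ * a₃ = a₃ * z₁ * tp)
    (c1 : z₁ * a₂ = a₂ * z₁) (c2 : th * a₂ = a₂ * th) (c3 : z₃ * a₃ = a₃ * z₃) (c4 : th * a₃ = a₃ * th) (c5 : z₂ * a₃ = a₃ * z₂)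
    (c6 : tp * a₃ = a₃ * tp) (c7 : tp * z₁ = z₁ * tp) (c8 : tp * th = th * tp) (c9 : tp * z₃ = z₃ * tp) (c10 : z₂ * z₁ = z₁ * z₂) (c11 : tp * z₂ = z₂ * tp) (c12 : th * z₃ = z₃ * th) :
    a₁ * z₂ * z₁ * th * a₂ * z₃ * a₃ = a₁ * (a₂ * (a₃ * 1)) * (z₁ * (z₂ * (z₃ * 1))) * th * (tp * tp) := by
  have e : z₂ * tp * z₁ * tp * th * z₃ = z₁ * (z₂ * (z₃ * 1)) * th * (tp * tp) := by
    calc z₂ * tp * z₁ * tp * th * z₃ = z₂ * (tp * z₁) * (tp * th) * z₃ := by group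
      _ = z₂ * (z₁ * tp) * (th * tp) * z₃ := by rw [c7, c8]
      _ = (z₂ * z₁) * (tp * th) * (tp * z₃) := by group
      _ = (z₁ * z₂) * (th * tp) * (z₃ * tp) := by rw [c10, c8, c9]
      _ = z₁ * z₂ * th * (tp * z₃) * tp := by group
      _ = z₁ * z₂ * th * (z₃ * tp) * tp := by rw [c9]
      _ = z₁ * z₂ * (th * z₃) * tp * tp := by group
      _ = _ := by rw [c12]; group
  calc a₁ * z₂ * z₁ * th * a₂ * z₃ * a₃
      = a₁ * z₂ * z₁ * (th * a₂) * z₃ * a₃ := by group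
    _ = a₁ * z₂ * (z₁ * a₂) * th * z₃ * a₃ := by rw [c2]; group
    _ = a₁ * (z₂ * a₂) * z₁ * th * z₃ * a₃ := by rw [c1]; group
    _ = a₁ * a₂ * z₂ * tp * z₁ * th * (z₃ * a₃) := by rw [h1]; group
    _ = a₁ * a₂ * z₂ * tp * z₁ * (th * a₃) * z₃ := by rw [c3]; group
    _ = a₁ * a₂ * z₂ * tp * (z₁ * a₃) * th * z₃ := by rw [c4]; group
    _ = a₁ * a₂ * z₂ * (tp * a₃) * z₁ * tp * th * z₃ := by rw [h2]; group
    _ = a₁ * a₂ * (z₂ * a₃) * tp * z₁ * tp * th * z₃ := by rw [c6]; group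
    _ = a₁ * a₂ * a₃ * (z₂ * tp * z₁ * tp * th * z₃) := by rw [c5]; group
    _ = _ := by rw [e]; group

namespace InstD4

open Cfsg.Agent.Lib.Chev.Tri
open Cfsg.Agent.Lib.ChevTransfer Cfsg.Agent.Lib.ChevAut.SubField Cfsg.Agent.Lib.ChevAut.WClosed
open Cfsg.Agent.Lib.ChevAut.ParabFit Cfsg.Agent.Lib.ChevInv Cfsg.Agent.Lib.ChevInv.CentG
open Cfsg.Agent.Lib.ChevSub Cfsg.Agent.Lib.ChevAut.RootCent Equiv
open Cfsg.Agent.Lib.Chev.TwD4 (hF sc G1_eq J A dd τ)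

variable {K : Type*} [Field K] [Fintype K] (f : K ≃+* K)

theorem rc_vals : RR.rcAt 14 0 = 0 ∧ RR.rcAt 14 1 = 1 ∧ RR.rcAt 14 2 = 0 ∧ RR.rcAt 14 3 = 0 ∧
    RR.rcAt 15 0 = 0 ∧ RR.rcAt 15 1 = 1 ∧ RR.rcAt 15 2 = 0 ∧ RR.rcAt 15 3 = 1 ∧
    RR.rcAt 16 0 = 0 ∧ RR.rcAt 16 1 = 1 ∧ RR.rcAt 16 2 = 1 ∧ RR.rcAt 16 3 = 0 ∧
    RR.rcAt 19 0 = 1 ∧ RR.rcAt 19 1 = 1 ∧ RR.rcAt 19 2 = 0 ∧ RR.rcAt 19 3 = 0 := by
  decide +kernel

theorem chr_exp (v : ℕ → Kˣ) (s : ℕ) :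
    chr RR chevD4.rank v s = v 0 ^ RR.rcAt s 0 * v 1 ^ RR.rcAt s 1 * v 2 ^ RR.rcAt s 2 * v 3 ^ RR.rcAt s 3 := by
  unfold chr
  rw [show chevD4.rank = 4 from rfl]
  simp only [Finset.prod_range_succ, Finset.prod_range_zero, one_mul]

theorem hfin (c : Fin chevD4.rank → Kˣ) (h1 : ∀ β < chevD4.nroots, RR.N ≤ β → ρ' β = β → chiT chevD4 c β = 1)
    (h2 : ∀ r, (∃ L e, RatCl RR chevD4 ρ' gs L e ∧ (∀ s ∈ L, 0 < RR.rcAt s 1) ∧ r ∈ L) → chiT chevD4 c r = 1) :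
    tor RR chevD4 c = (1 : GL chevD4.Idx K) := by
  rw [hF.tor_eq_one_iff]
  have e14 := h1 14 (by decide +kernel) (by decide +kernel) (by decide +kernel)
  have hmem : ∀ r ∈ ([15, 16, 19] : List ℕ), chiT chevD4 c r = 1 := fun r hr => h2 r ⟨_, _, ratS, by decide +kernel, hr⟩
  have e15 := hmem 15 (by simp)
  have e16 := hmem 16 (by simp)
  have e19 := hmem 19 (by simp)
  rw [hF.chiT_eq_chr c (by decide +kernel), chr_exp] at e14 e15 e16 e19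
  obtain ⟨a0, a1, a2, a3, b0, b1, b2, b3, c0, c1, c2, c3, d0, d1, d2, d3⟩ := rc_vals
  rw [a0, a1, a2, a3] at e14
  rw [b0, b1, b2, b3] at e15
  rw [c0, c1, c2, c3] at e16
  rw [d0, d1, d2, d3] at e19
  simp only [zpow_zero, zpow_one, one_mul, mul_one] at e14 e15 e16 e19
  rw [e14, one_mul] at e15 e16
  rw [e14, mul_one] at e19
  intro j hj
  have hj' : j < 4 := hj
  interval_cases j
  · exact e19
  · exact e14
  · exact e16
  · exact e15

theorem rho_vals : ρ' 17 = 20 ∧ ρ' 20 = 21 ∧ ρ' 21 = 17 ∧ ρ' 18 = 13 ∧ ρ' 13 = 12 ∧ ρ' 12 = 18 ∧ ρ' 19 = 16 ∧ ρ' 16 = 15 ∧ ρ' 15 = 19 := by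
  decide +kernel

theorem gs_vals : gs 17 = -1 ∧ gs 20 = 1 ∧ gs 21 = -1 ∧ gs 18 = 1 ∧ gs 13 = 1 ∧ gs 12 = 1 ∧ gs 19 = -1 ∧ gs 16 = 1 ∧ gs 15 = -1 := by
  decide +kernel

set_option maxHeartbeats 4000000 in
/-- Levels other than the special one do not contribute. -/
theorem hkill (k : ℕ) (hk : k + 1 ≠ 12) (t : ℕ → K) (hp : ∀ r ∈ LsF RR chevD4 aL (k + 1), t (ρ' r) = (gs r : K) * f (t r))
    (hrel : ∀ (L' : List ℕ) (e : ℕ → ℤ) (k' w i : ℕ), RatCl RR chevD4 ρ' gs L' e → (∀ s ∈ L', lv s = (k' : ℤ) + 1) →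
        w < chevD4.nroots → RR.N ≤ w → lv w = (k : ℤ) + k' + 2 → i < chevD4.rank →
        (∀ r ∈ LsF RR chevD4 aL (k + 1), ∀ s ∈ L', Ex1 chevD4 s w r = true) → (∀ r ∈ LsF RR chevD4 aL (k + 1), ∀ s ∈ L', Ex1 chevD4 r w s = true) →
        ((LsF RR chevD4 aL (k + 1)).map fun r => ((Zc chevD4 L' e w i r : ℤ) : K) * (f (t r) - t r)).sum = 0)
    (r : ℕ) (hr : r ∈ LsF RR chevD4 aL (k + 1)) : f (t r) = t r := by
  obtain ⟨h1, h2, h3'⟩ := (mem_LsF _ _).1 hr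
  have h3 : lv r = ((k + 1 : ℕ) : ℤ) := h3'
  by_cases hfix : ρ' r = r
  · have h4 := hp r hr
    rw [hfix, hgs r h1 hfix] at h4
    simpa using h4.symm
  have key : ∀ r < chevD4.nroots, RR.N ≤ r → ρ' r ≠ r → lv r ≠ 12 →
      (r = 12 ∨ r = 13 ∨ r = 18) ∨ (r = 15 ∨ r = 16 ∨ r = 19) := by decide +kernel
  have hne : lv r ≠ 12 := by
    intro e
    apply hk
    rw [e] at h3
    have : ((k + 1 : ℕ) : ℤ) = 12 := h3.symm
    exact_mod_cast this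
  rcases key r h1 h2 hfix hne with h5 | h5
  · -- the class of `a`
    have hk0 : k = 0 := by
      have h6 : lv r = 1 := by
        rcases h5 with rfl | rfl | rfl <;> decide +kernel
      rw [h6] at h3
      have : ((k + 1 : ℕ) : ℤ) = 1 := h3.symm
      have : k + 1 = 1 := by exact_mod_cast this
      omega
    subst hk0
    have hL := nodup_LsF (R := RR) (D := chevD4) (a := aL) (0 + 1)
    rcases h5 with rfl | rfl | rfl
    · have h7 := hrel [14] (fun _ => 1) 9 15 1 ratB (by decide +kernel) (by decide +kernel) (by decide +kernel) (by decide +kernel) (by decide +kernel) (by decide +kernel) (by decide +kernel)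
      have h8 := kill_row hL hr (Z := Zc chevD4 [14] (fun _ => 1) 15 1) (by decide +kernel) (by decide +kernel) h7
      exact sub_eq_zero.1 h8
    · have h7 := hrel [14] (fun _ => 1) 9 16 1 ratB (by decide +kernel) (by decide +kernel) (by decide +kernel) (by decide +kernel) (by decide +kernel) (by decide +kernel) (by decide +kernel)
      have h8 := kill_row hL hr (Z := Zc chevD4 [14] (fun _ => 1) 16 1) (by decide +kernel) (by decide +kernel) h7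
      exact sub_eq_zero.1 h8
    · have h7 := hrel [14] (fun _ => 1) 9 19 1 ratB (by decide +kernel) (by decide +kernel) (by decide +kernel) (by decide +kernel) (by decide +kernel) (by decide +kernel) (by decide +kernel)
      have h8 := kill_row hL hr (Z := Zc chevD4 [14] (fun _ => 1) 19 1) (by decide +kernel) (by decide +kernel) h7
      exact sub_eq_zero.1 h8
  · -- the class of `a + b`
    have hk10 : k = 10 := by
      have h6 : lv r = 11 := by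
        rcases h5 with rfl | rfl | rfl <;> decide +kernel
      rw [h6] at h3
      have : ((k + 1 : ℕ) : ℤ) = 11 := h3.symm
      have : k + 1 = 11 := by exact_mod_cast this
      omega
    subst hk10
    have h7 := hrel [12, 13, 18] (fun _ => 1) 0 17 1 ratA (by decide +kernel) (by decide +kernel) (by decide +kernel) (by decide +kernel) (by decide +kernel)
      (by decide +kernel) (by decide +kernel)
    have hL : LsF RR chevD4 aL (10 + 1) = [15, 16, 19] := L11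
    rw [hL] at h7 hp
    have hz : Zc chevD4 [12, 13, 18] (fun _ => 1) 17 1 15 = -1 ∧ Zc chevD4 [12, 13, 18] (fun _ => 1) 17 1 16 = -1 ∧ Zc chevD4 [12, 13, 18] (fun _ => 1) 17 1 19 = 0 := by
      decide +kernel
    simp only [List.map_cons, List.map_nil, List.sum_cons, List.sum_nil, hz.1, hz.2.1, hz.2.2] at h7
    obtain ⟨r0, r1, r2, r3, r4, r5, r6, r7, r8⟩ := rho_vals
    obtain ⟨g0, g1, g2, g3, g4, g5, g6, g7, g8⟩ := gs_vals
    have p15 := hp 15 (by simp)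
    have p16 := hp 16 (by simp)
    have p19 := hp 19 (by simp)
    rw [r8, g8] at p15
    rw [r7, g7] at p16
    rw [r6, g6] at p19
    push_cast at p15 p16 p19 h7
    simp only [one_mul, neg_mul] at p15 p16 p19
    have e16 : f (t 16) = t 15 := p16.symm
    have e19 : t 19 = - f (t 15) := p15
    have e16' : t 16 = f (f (t 15)) := by
      rw [p19, e19, map_neg, _root_.neg_neg]
    rw [e16] at h7
    have h9 : f (f (t 15)) = f (t 15) := by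
      rw [e16'] at h7
      linear_combination h7
    have h10 : f (t 15) = t 15 := f.injective h9
    rcases h5 with rfl | rfl | rfl
    · exact h10
    · rw [e16, e16', h10, h10]
    · rw [e19, map_neg, h10, h10]

end InstD4

end Cfsg.Agent.Lib.ChevTw
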