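import Mathlib
import Cfsg.Agent.Lib.ChevTw.CloseD4

/-!
# Subfield points of the twisted group of type ³D₄: the additive group of parameters
-/

set_option autoImplicit false
set_option maxRecDepth 100000
set_option synthInstance.maxSize 10000
set_option synthInstance.maxHeartbeats 2000000
set_option linter.unusedSectionVars false
set_option linter.unusedVariables false
set_option linter.unnecessarySimpa false

namespace Cfsg.Agent.Lib.ChevTw.InstD4

open Cfsg Cfsg.Lie Matrix Cfsg.Agent.Lib.Chev Cfsg.Agent.Lib.Chev.Full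
open Cfsg.Agent.Lib.Chev.Tri
open Cfsg.Agent.Lib.ChevTransfer Cfsg.Agent.Lib.ChevAut.SubField Cfsg.Agent.Lib.ChevAut.WClosed
open Cfsg.Agent.Lib.ChevAut.ParabFit Cfsg.Agent.Lib.ChevInv Cfsg.Agent.Lib.ChevInv.CentG
open Cfsg.Agent.Lib.ChevSub Cfsg.Agent.Lib.ChevAut.RootCent Equiv
open Cfsg.Agent.Lib.Chev.TwD4 (hF sc G1_eq J A dd τ)

variable {K : Type*} [Field K] [Fintype K] (f : K ≃+* K)

/-- Parameters along the special class. -/
def repD (x : K) : ℕ → K := fun r => if r = 17 then x else if r = 20 then - f x else - f (f x)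
/-- Parameters along the class of `a`. -/
def repA (x : K) : ℕ → K := fun r => if r = 18 then x else if r = 13 then f x else f (f x)
/-- Parameters along the class of `a + b`. -/
def repS (x : K) : ℕ → K := fun r => if r = 19 then x else if r = 16 then - f x else - f (f x)

theorem comD : hF.CommL K [17, 20, 21] := commL_of_nil (by decide +kernel) (by decide +kernel)
theorem comA : hF.CommL K [12, 13, 18] := commL_of_nil (by decide +kernel) (by decide +kernel)
theorem comS : hF.CommL K [15, 16, 19] := commL_of_nil (by decide +kernel) (by decide +kernel)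

theorem permD : ([17, 20, 21].map ρ').Perm [17, 20, 21] := by decide +kernel
theorem permA : ([12, 13, 18].map ρ').Perm [12, 13, 18] := by decide +kernel
theorem permS : ([15, 16, 19].map ρ').Perm [15, 16, 19] := by decide +kernel

section

variable {f} (hf3 : ∀ t, f (f (f t)) = t)

include hf3

theorem patD (x : K) : ∀ r ∈ [17, 20, 21], repD f x (ρ' r) = (gs r : K) * f (repD f x r) := by
  obtain ⟨r0, r1, r2, r3, r4, r5, r6, r7, r8⟩ := rho_vals
  obtain ⟨g0, g1, g2, g3, g4, g5, g6, g7, g8⟩ := gs_vals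
  intro r hr
  simp only [List.mem_cons, List.not_mem_nil, or_false] at hr
  rcases hr with rfl | rfl | rfl
  · rw [r0, g0]
    simp [repD]
  · rw [r1, g1]
    simp [repD]
  · rw [r2, g2]
    simp [repD, hf3]

theorem patA (x : K) : ∀ r ∈ [12, 13, 18], repA f x (ρ' r) = (gs r : K) * f (repA f x r) := by
  obtain ⟨r0, r1, r2, r3, r4, r5, r6, r7, r8⟩ := rho_vals
  obtain ⟨g0, g1, g2, g3, g4, g5, g6, g7, g8⟩ := gs_vals
  intro r hr
  simp only [List.mem_cons, List.not_mem_nil, or_false] at hr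
  rcases hr with rfl | rfl | rfl
  · rw [r5, g5]
    simp [repA, hf3]
  · rw [r4, g4]
    simp [repA]
  · rw [r3, g3]
    simp [repA]

theorem patS (x : K) : ∀ r ∈ [15, 16, 19], repS f x (ρ' r) = (gs r : K) * f (repS f x r) := by
  obtain ⟨r0, r1, r2, r3, r4, r5, r6, r7, r8⟩ := rho_vals
  obtain ⟨g0, g1, g2, g3, g4, g5, g6, g7, g8⟩ := gs_vals
  intro r hr
  simp only [List.mem_cons, List.not_mem_nil, or_false] at hr
  rcases hr with rfl | rfl | rfl
  · rw [r8, g8]
    simp [repS, hf3]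
  · rw [r7, g7]
    simp [repS]
  · rw [r6, g6]
    simp [repS]

omit hf3 in
theorem uniqD {t : ℕ → K} (hp : ∀ r ∈ [17, 20, 21], t (ρ' r) = (gs r : K) * f (t r)) : ∀ r ∈ [17, 20, 21], t r = repD f (t 17) r := by
  obtain ⟨r0, r1, r2, r3, r4, r5, r6, r7, r8⟩ := rho_vals
  obtain ⟨g0, g1, g2, g3, g4, g5, g6, g7, g8⟩ := gs_vals
  have h17 := hp 17 (by simp)
  have h20 := hp 20 (by simp)
  rw [r0, g0] at h17
  rw [r1, g1] at h20
  push_cast at h17 h20
  simp only [neg_mul, one_mul] at h17 h20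
  intro r hr
  simp only [List.mem_cons, List.not_mem_nil, or_false] at hr
  rcases hr with rfl | rfl | rfl
  · simp [repD]
  · simp [repD, h17]
  · simp [repD, h20, h17]

omit hf3 in
theorem uniqA {t : ℕ → K} (hp : ∀ r ∈ [12, 13, 18], t (ρ' r) = (gs r : K) * f (t r)) : ∀ r ∈ [12, 13, 18], t r = repA f (t 18) r := by
  obtain ⟨r0, r1, r2, r3, r4, r5, r6, r7, r8⟩ := rho_vals
  obtain ⟨g0, g1, g2, g3, g4, g5, g6, g7, g8⟩ := gs_vals
  have h18 := hp 18 (by simp)
  have h13 := hp 13 (by simp)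
  rw [r3, g3] at h18
  rw [r4, g4] at h13
  push_cast at h18 h13
  simp only [one_mul] at h18 h13
  intro r hr
  simp only [List.mem_cons, List.not_mem_nil, or_false] at hr
  rcases hr with rfl | rfl | rfl
  · simp [repA, h13, h18]
  · simp [repA, h18]
  · simp [repA]

omit hf3 in
theorem uniqS {t : ℕ → K} (hp : ∀ r ∈ [15, 16, 19], t (ρ' r) = (gs r : K) * f (t r)) : ∀ r ∈ [15, 16, 19], t r = repS f (t 19) r := by
  obtain ⟨r0, r1, r2, r3, r4, r5, r6, r7, r8⟩ := rho_vals
  obtain ⟨g0, g1, g2, g3, g4, g5, g6, g7, g8⟩ := gs_vals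
  have h19 := hp 19 (by simp)
  have h16 := hp 16 (by simp)
  rw [r6, g6] at h19
  rw [r7, g7] at h16
  push_cast at h19 h16
  simp only [neg_mul, one_mul] at h19 h16
  intro r hr
  simp only [List.mem_cons, List.not_mem_nil, or_false] at hr
  rcases hr with rfl | rfl | rfl
  · simp [repS, h16, h19]
  · simp [repS, h19]
  · simp [repS]

end

theorem hlD : ∀ r ∈ [17, 20, 21], r < chevD4.nroots ∧ RR.N ≤ r := by decide +kernel
theorem hlA : ∀ r ∈ [12, 13, 18], r < chevD4.nroots ∧ RR.N ≤ r := by decide +kernel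
theorem hlS : ∀ r ∈ [15, 16, 19], r < chevD4.nroots ∧ RR.N ≤ r := by decide +kernel

theorem chi_expand (c : Fin chevD4.rank → Kˣ) (s : ℕ) : chiT chevD4 c s =
    c ⟨0, by decide⟩ ^ chevD4.cartan 0 s * c ⟨1, by decide⟩ ^ chevD4.cartan 1 s * c ⟨2, by decide⟩ ^ chevD4.cartan 2 s *
      c ⟨3, by decide⟩ ^ chevD4.cartan 3 s :=
  Fin.prod_univ_four (fun i : Fin 4 => c i ^ chevD4.cartan i s)

section V

variable {f} (hf3 : ∀ t, f (f (f t)) = t) (H : Subgroup (GL chevD4.Idx K)) (hHG : H ≤ (sc f).G1) (hMH : MM (sc f) ≤ H)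

include hf3 hHG hMH

theorem V_add {x y : K} (hx : hF.wL [17, 20, 21] (repD f x) ∈ H) (hy : hF.wL [17, 20, 21] (repD f y) ∈ H) :
    hF.wL [17, 20, 21] (repD f (x + y)) ∈ H := by
  have h1 := mul_mem hx hy
  rw [hF.wL_mul comD] at h1
  convert h1 using 1
  apply hF.wL_congr
  intro r _
  simp only [repD]
  split_ifs <;> simp <;> ring

theorem V_rat {c : K} (hc : f c = c) : hF.wL [17, 20, 21] (repD f c) ∈ H := by
  apply hMH
  refine pattern_mem_MM (sc f) (hs f) hlD comD (by decide +kernel) permD (patD hf3 c) ?_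
  intro r _
  simp only [repD]
  split_ifs <;> simp [hc]

/-- The twist fixes a torus element with rational parameters invariant under the graph. -/
theorem tor_scale {c : Kˣ} (hc : f (c : K) = c) : tor RR chevD4 (fun j : Fin chevD4.rank => if (j : ℕ) = 1 then (1 : Kˣ) else c) ∈ MM (sc f) := by
  have huc : unitsF f c = c := Units.ext hc
  refine tor_mem_MM (sc f) (reps := [0, 1]) (by decide +kernel) (by decide +kernel) (by decide +kernel) ?_ ?_
  · obtain ⟨p0, p1, p2, p3⟩ := TwD4.pi_vals f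
    refine TwD4.fin4_cases ?_ ?_ ?_ ?_
    · rw [p0]
      simp [huc]
    · rw [p1]
      simp [unitsF]
    · rw [p2]
      simp [huc]
    · rw [p3]
      simp [huc]
  · intro k
    split_ifs
    · simp
    · exact hc

theorem V_scale {c : Kˣ} (hc : f (c : K) = c) {x : K} (hx : hF.wL [17, 20, 21] (repD f x) ∈ H) :
    hF.wL [17, 20, 21] (repD f ((c : K) * x)) ∈ H := by
  have h1 := tor_scale hf3 H hHG hMH hc
  have h2 := mul_mem (mul_mem (hMH h1) hx) (inv_mem (hMH h1))
  rw [hF.tor_conj_wL _ (by decide +kernel)] at h2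
  convert h2 using 1
  apply hF.wL_congr
  intro r hr
  have e : ∀ s, chiT chevD4 (fun j : Fin chevD4.rank => if (j : ℕ) = 1 then (1 : Kˣ) else c) s =
      c ^ chevD4.cartan 0 s * c ^ chevD4.cartan 2 s * c ^ chevD4.cartan 3 s := by
    intro s
    rw [chi_expand]
    simp
  have c17 : chevD4.cartan 0 17 = -1 ∧ chevD4.cartan 2 17 = 1 ∧ chevD4.cartan 3 17 = 1 := by decide +kernel
  have c20 : chevD4.cartan 0 20 = 1 ∧ chevD4.cartan 2 20 = -1 ∧ chevD4.cartan 3 20 = 1 := by decide +kernel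
  have c21 : chevD4.cartan 0 21 = 1 ∧ chevD4.cartan 2 21 = 1 ∧ chevD4.cartan 3 21 = -1 := by decide +kernel
  simp only [List.mem_cons, List.not_mem_nil, or_false] at hr
  rcases hr with rfl | rfl | rfl
  · rw [e, c17.1, c17.2.1, c17.2.2]
    simp [repD]
  · rw [e, c20.1, c20.2.1, c20.2.2]
    simp [repD, hc]
  · rw [e, c21.1, c21.2.1, c21.2.2]
    simp [repD, hc]

end V

end Cfsg.Agent.Lib.ChevTw.InstD4
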