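import Mathlib
import Cfsg.Agent.Lib.ChevTw.CloseD4b

/-!
# Subfield points of the twisted group of type ³D₄: the quadratic map
-/

set_option autoImplicit false
set_option maxRecDepth 100000
set_option synthInstance.maxSize 10000
set_option synthInstance.maxHeartbeats 2000000
set_option linter.unusedSectionVars false
set_option linter.unusedVariables false
set_option linter.unnecessarySimpa false

namespace Cfsg.Agent.Lib.ChevTw.InstD4

open Cfsg Cfsg.Lie Matrix Cfsg.Agent.Lib.Chev Cfsg.Agent.Lib.Chev.Full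
open Cfsg.Agent.Lib.Chev.Tri
open Cfsg.Agent.Lib.ChevTransfer Cfsg.Agent.Lib.ChevAut.SubField Cfsg.Agent.Lib.ChevAut.WClosed
open Cfsg.Agent.Lib.ChevAut.ParabFit Cfsg.Agent.Lib.ChevInv Cfsg.Agent.Lib.ChevInv.CentG
open Cfsg.Agent.Lib.ChevSub Cfsg.Agent.Lib.ChevAut.RootCent Equiv
open Cfsg.Agent.Lib.Chev.TwD4 (hF sc G1_eq J A dd τ)

variable {K : Type*} [Field K] [Fintype K]

section V

variable {f : K ≃+* K} (hf3 : ∀ t, f (f (f t)) = t) (H : Subgroup (GL chevD4.Idx K)) (hHG : H ≤ (sc f).G1) (hMH : MM (sc f) ≤ H)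

include hf3 hHG hMH

/-- The special class parameters give class elements for `a`. -/
theorem V_A {x : K} (hx : hF.wL [17, 20, 21] (repD f x) ∈ H) : hF.wL [12, 13, 18] (repA f x) ∈ H := by
  obtain ⟨v, hv, hfv, hT⟩ := transfer (sc f) (hs f) (L₁ := [17, 20, 21]) (L₂ := [12, 13, 18]) (Lw := [1, 0]) (by decide +kernel) (by decide +kernel)
    hlA comA (by decide +kernel) permA (by decide +kernel) (r₁ := 17) (by simp) H hHG hMH
  have hc : f (((Units.mk0 v hv)⁻¹ : Kˣ) : K) = (((Units.mk0 v hv)⁻¹ : Kˣ) : K) := by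
    simp [hfv]
  have h1 := V_scale hf3 H hHG hMH hc hx
  obtain ⟨t, h2, h3, h4⟩ := hT _ h1
  rw [show foldw XX J [1, 0] 17 = 18 by decide +kernel] at h3
  have h5 : t 18 = x := by
    rw [h3]
    simp [repD, hv]
  have h6 := uniqA (f := f) h4
  rw [h5] at h6
  rwa [hF.wL_congr h6] at h2

/-- The special class parameters give class elements for `a + b`. -/
theorem V_S {x : K} (hx : hF.wL [17, 20, 21] (repD f x) ∈ H) : hF.wL [15, 16, 19] (repS f x) ∈ H := by
  obtain ⟨v, hv, hfv, hT⟩ := transfer (sc f) (hs f) (L₁ := [17, 20, 21]) (L₂ := [15, 16, 19]) (Lw := [0]) (by decide +kernel) (by decide +kernel)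
    hlS comS (by decide +kernel) permS (by decide +kernel) (r₁ := 17) (by simp) H hHG hMH
  have hc : f (((Units.mk0 v hv)⁻¹ : Kˣ) : K) = (((Units.mk0 v hv)⁻¹ : Kˣ) : K) := by
    simp [hfv]
  have h1 := V_scale hf3 H hHG hMH hc hx
  obtain ⟨t, h2, h3, h4⟩ := hT _ h1
  rw [show foldw XX J [0] 17 = 19 by decide +kernel] at h3
  have h5 : t 19 = x := by
    rw [h3]
    simp [repD, hv]
  have h6 := uniqS (f := f) h4
  rw [h5] at h6
  rwa [hF.wL_congr h6] at h2

set_option maxHeartbeats 4000000 in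
/-- The quadratic map preserves the parameters. -/
theorem V_Q {x : K} (hx : hF.wL [17, 20, 21] (repD f x) ∈ H) : hF.wL [17, 20, 21] (repD f (f x * f (f x))) ∈ H := by
  have hA := V_A hf3 H hHG hMH hx
  have hS := V_S hf3 H hHG hMH hx
  set α := x with hα
  set β := f x with hβ
  set γ := f (f x) with hγ
  have hfα : f α = β := rfl
  have hfβ : f β = γ := rfl
  have hfγ : f γ = α := hf3 x
  set N := α * β * γ with hN
  have hfN : f N = N := by
    rw [hN, map_mul, map_mul, hfα, hfβ, hfγ]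
    ring
  have hB : hF.c.xG 14 (1 : K) ∈ H := hMH (long_mem_MM (sc f) (hs f) hgs (by decide +kernel) (by decide +kernel) (by decide +kernel) (map_one f))
  have hth : hF.c.xG 22 N ∈ H := hMH (long_mem_MM (sc f) (hs f) hgs (by decide +kernel) (by decide +kernel) (by decide +kernel) hfN)
  have htp : hF.c.xG 23 N ∈ H := hMH (long_mem_MM (sc f) (hs f) hgs (by decide +kernel) (by decide +kernel) (by decide +kernel) hfN)
  -- the words
  have eA : hF.wL [12, 13, 18] (repA f x) = hF.c.xG 12 γ * (hF.c.xG 13 β * (hF.c.xG 18 α * 1)) := by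
    simp [Full.wL_cons, Full.wL_nil, repA]
    rfl
  have eS : hF.wL [15, 16, 19] (repS f x) = hF.c.xG 15 (-γ) * (hF.c.xG 16 (-β) * (hF.c.xG 19 α * 1)) := by
    simp [Full.wL_cons, Full.wL_nil, repS]
    rfl
  have eD : hF.wL [17, 20, 21] (repD f (β * γ)) = hF.c.xG 17 (β * γ) * (hF.c.xG 20 (-(α * γ)) * (hF.c.xG 21 (-(α * β)) * 1)) := by
    have h1 : f (β * γ) = α * γ := by
      rw [map_mul, hfβ, hfγ]
      ring
    have h2 : f (f (β * γ)) = α * β := by
      rw [h1, map_mul, hfα, hfγ]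
      ring
    have r17 : ∀ y : K, repD f y 17 = y := fun y => by simp [repD]
    have r20 : ∀ y : K, repD f y 20 = - f y := fun y => by simp [repD]
    have r21 : ∀ y : K, repD f y 21 = - f (f y) := fun y => by simp [repD]
    rw [Full.wL_cons, Full.wL_cons, Full.wL_cons, Full.wL_nil, r17, r20, r21, h2, h1]
  have hW := mul_mem (inv_mem hA) (mul_mem (mul_mem hB hA) (inv_mem hB))
  rw [eA] at hW
  have key := word_W (x₁₂ := hF.c.xG 12 γ) (x₁₃ := hF.c.xG 13 β) (x₁₈ := hF.c.xG 18 α) (B := hF.c.xG 14 (1 : K))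
    (a₁ := hF.c.xG 15 (-γ)) (a₂ := hF.c.xG 16 (-β)) (a₃ := hF.c.xG 19 α)
    (z₁ := hF.c.xG 17 (β * γ)) (z₂ := hF.c.xG 20 (-(α * γ))) (z₃ := hF.c.xG 21 (-(α * β))) (th := hF.c.xG 22 N)
    (by
      rw [conj1 hF (r := 14) (s := 12) (m := 15) (C := -1) (by decide +kernel)]
      congr 2
      push_cast
      ring)
    (by
      rw [conj1 hF (r := 14) (s := 13) (m := 16) (C := -1) (by decide +kernel)]
      congr 2
      push_cast
      ring)
    (by
      rw [conj1 hF (r := 14) (s := 18) (m := 19) (C := 1) (by decide +kernel)]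
      congr 2
      push_cast
      ring)
    (by
      rw [conj1' hF (r := 13) (s := 15) (m := 17) (C := 1) (by decide +kernel)]
      congr 2
      push_cast
      ring)
    (by
      rw [conj1' hF (r := 18) (s := 15) (m := 20) (C := -1) (by decide +kernel)]
      congr 2
      push_cast
      ring)
    (by
      rw [conj1' hF (r := 18) (s := 17) (m := 22) (C := -1) (by decide +kernel)]
      congr 2
      push_cast
      rw [hN]
      ring)
    (by
      rw [conj1' hF (r := 18) (s := 16) (m := 21) (C := -1) (by decide +kernel)]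
      congr 2
      push_cast
      ring)
  rw [key] at hW
  have key2 := word_N (a₁ := hF.c.xG 15 (-γ)) (a₂ := hF.c.xG 16 (-β)) (a₃ := hF.c.xG 19 α)
    (z₁ := hF.c.xG 17 (β * γ)) (z₂ := hF.c.xG 20 (-(α * γ))) (z₃ := hF.c.xG 21 (-(α * β))) (th := hF.c.xG 22 N) (tp := hF.c.xG 23 N)
    (by
      rw [swap1 hF (r := 16) (s := 20) (m := 23) (C := -1) (by decide +kernel)]
      congr 2
      push_cast
      rw [hN]
      ring)
    (by
      rw [swap1 hF (r := 19) (s := 17) (m := 23) (C := -1) (by decide +kernel)]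
      congr 2
      push_cast
      rw [hN]
      ring)
    (cm_nil hF (r := 17) (s := 16) (by decide +kernel) _ _)
    (cm_nil hF (r := 22) (s := 16) (by decide +kernel) _ _)
    (cm_nil hF (r := 21) (s := 19) (by decide +kernel) _ _)
    (cm_nil hF (r := 22) (s := 19) (by decide +kernel) _ _)
    (cm_nil hF (r := 20) (s := 19) (by decide +kernel) _ _)
    (cm_nil hF (r := 23) (s := 19) (by decide +kernel) _ _)
    (cm_nil hF (r := 23) (s := 17) (by decide +kernel) _ _)
    (cm_nil hF (r := 23) (s := 22) (by decide +kernel) _ _)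
    (cm_nil hF (r := 23) (s := 21) (by decide +kernel) _ _)
    (cm_nil hF (r := 20) (s := 17) (by decide +kernel) _ _)
    (cm_nil hF (r := 23) (s := 20) (by decide +kernel) _ _)
    (cm_nil hF (r := 22) (s := 21) (by decide +kernel) _ _)
  rw [key2, ← eS, ← eD] at hW
  have e : hF.wL [17, 20, 21] (repD f (β * γ)) =
      (hF.wL [15, 16, 19] (repS f x))⁻¹ *
        (hF.wL [15, 16, 19] (repS f x) * hF.wL [17, 20, 21] (repD f (β * γ)) * hF.c.xG 22 N * (hF.c.xG 23 N * hF.c.xG 23 N)) *
        (hF.c.xG 23 N * hF.c.xG 23 N)⁻¹ * (hF.c.xG 22 N)⁻¹ := by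
    group
  rw [e]
  exact mul_mem (mul_mem (mul_mem (inv_mem hS) hW) (inv_mem (mul_mem htp htp))) (inv_mem hth)

end V

end Cfsg.Agent.Lib.ChevTw.InstD4
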