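import Mathlib
import Cfsg.Agent.Lib.ChevTw.CloseD4c
import Cfsg.Agent.Lib.Chev.TwD4BN

/-!
# Subfield points of the twisted group of type ³D₄: conclusion
-/

set_option autoImplicit false
set_option maxRecDepth 100000
set_option synthInstance.maxSize 10000
set_option synthInstance.maxHeartbeats 2000000
set_option linter.unusedSectionVars false
set_option linter.unusedVariables false
set_option linter.unnecessarySimpa false

namespace Cfsg.Agent.Lib.ChevTw.InstD4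

open Cfsg Cfsg.Lie Matrix Cfsg.Agent.Lib.Chev Cfsg.Agent.Lib.Chev.Full
open Cfsg.Agent.Lib.Chev.Tri
open Cfsg.Agent.Lib.ChevTransfer Cfsg.Agent.Lib.ChevAut.SubField Cfsg.Agent.Lib.ChevAut.WClosed
open Cfsg.Agent.Lib.ChevAut.ParabFit Cfsg.Agent.Lib.ChevInv Cfsg.Agent.Lib.ChevInv.CentG
open Cfsg.Agent.Lib.ChevSub Cfsg.Agent.Lib.ChevAut.RootCent Equiv
open Cfsg.Agent.Lib.Chev.TwD4 (hF sc G1_eq J A dd τ)

variable {K : Type*} [Field K] [Fintype K]

/-- Independence of `1, τ, Q τ` over the fixed field. -/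
theorem indep {f : K ≃+* K} (hf3 : ∀ t, f (f (f t)) = t) {τ₀ a b c : K} (hτ : f τ₀ ≠ τ₀) (ha : f a = a) (hb : f b = b) (hc : f c = c)
    (h : a + b * τ₀ + c * (f τ₀ * f (f τ₀)) = 0) : a = 0 ∧ b = 0 ∧ c = 0 := by
  set β := f τ₀ with hβ
  set γ := f (f τ₀) with hγ
  have hfβ : f β = γ := rfl
  have hfγ : f γ = τ₀ := hf3 τ₀
  have hτ0 : τ₀ ≠ 0 := by
    intro e
    exact hτ (by rw [hβ, e, map_zero])
  have hβ0 : β ≠ 0 := fun e => hτ0 ((map_eq_zero f).1 e)
  have hγ0 : γ ≠ 0 := fun e => hβ0 ((map_eq_zero f).1 e)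
  set N := τ₀ * β * γ with hN
  have e1 : a * τ₀ + b * τ₀ ^ 2 + c * N = 0 := by
    rw [hN]
    linear_combination τ₀ * h
  have e2 : a * β + b * β ^ 2 + c * N = 0 := by
    have := congrArg f e1
    rw [map_add, map_add, map_mul, map_mul, map_mul, map_pow, ha, hb, hc, map_zero, show f τ₀ = β from rfl, hN, map_mul, map_mul, hfβ, hfγ,
      show f τ₀ = β from rfl] at this
    rw [hN]
    linear_combination this
  have e3 : a * γ + b * γ ^ 2 + c * N = 0 := by
    have := congrArg f e2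
    rw [map_add, map_add, map_mul, map_mul, map_mul, map_pow, ha, hb, hc, map_zero, hfβ, hN, map_mul, map_mul, hfβ, hfγ,
      show f τ₀ = β from rfl] at this
    rw [hN]
    linear_combination this
  have hne12 : τ₀ - β ≠ 0 := sub_ne_zero.2 (Ne.symm hτ)
  have hne13 : τ₀ - γ ≠ 0 := by
    intro e
    apply hτ
    have h1 : γ = τ₀ := by linear_combination -e
    have h2 : f τ₀ = f γ := by rw [h1]
    rw [hfγ] at h2
    exact h2
  have hne23 : β - γ ≠ 0 := by
    intro e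
    apply hτ
    have h1 : β = γ := by linear_combination e
    have h2 : f β = f γ := by rw [h1]
    rw [hfβ, hfγ] at h2
    have h3 : f γ = f τ₀ := by rw [h2]
    rw [hfγ] at h3
    exact h3.symm
  have f12 : a + b * (τ₀ + β) = 0 := by
    apply (mul_eq_zero.1 (show (τ₀ - β) * (a + b * (τ₀ + β)) = 0 by linear_combination e1 - e2)).resolve_left hne12
  have f13 : a + b * (τ₀ + γ) = 0 := by
    apply (mul_eq_zero.1 (show (τ₀ - γ) * (a + b * (τ₀ + γ)) = 0 by linear_combination e1 - e3)).resolve_left hne13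
  have hb0 : b = 0 := by
    apply (mul_eq_zero.1 (show b * (β - γ) = 0 by linear_combination f12 - f13)).resolve_right hne23
  have ha0 : a = 0 := by
    rw [hb0] at f12
    simpa using f12
  have hc0 : c = 0 := by
    rw [ha0, hb0] at h
    simp only [zero_add, zero_mul] at h
    exact (mul_eq_zero.1 h).resolve_right (mul_ne_zero hβ0 hγ0)
  exact ⟨ha0, hb0, hc0⟩

section V

variable {f : K ≃+* K} (hf3 : ∀ t, f (f (f t)) = t) (H : Subgroup (GL chevD4.Idx K)) (hHG : H ≤ (sc f).G1) (hMH : MM (sc f) ≤ H)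

include hf3 hHG hMH

theorem V_smul {c x : K} (hc : f c = c) (hx : hF.wL [17, 20, 21] (repD f x) ∈ H) : hF.wL [17, 20, 21] (repD f (c * x)) ∈ H := by
  by_cases h0 : c = 0
  · rw [h0, zero_mul]
    exact V_rat hf3 H hHG hMH (map_zero f)
  · exact V_scale hf3 H hHG hMH (c := Units.mk0 c h0) hc hx

/-- All parameters occur as soon as an irrational one does. -/
theorem V_all {q : ℕ} (hq : IsPrimePow q) (hK : Fintype.card K = q ^ 3) (hf : ∀ t, f t = t ^ q) {τ₀ : K} (hτ : f τ₀ ≠ τ₀)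
    (h₀ : hF.wL [17, 20, 21] (repD f τ₀) ∈ H) (x : K) : hF.wL [17, 20, 21] (repD f x) ∈ H := by
  have hQ := V_Q hf3 H hHG hMH h₀
  let Fq := {t : K // t ^ q = t}
  have hFq : Nat.card Fq = q := card_fix_pow hq hK (by norm_num)
  have hfq : ∀ t : Fq, f t.1 = t.1 := fun t => by rw [hf]; exact t.2
  let Φ : Fq × Fq × Fq → K := fun p => p.1.1 + p.2.1.1 * τ₀ + p.2.2.1 * (f τ₀ * f (f τ₀))
  have hinj : Function.Injective Φ := by
    rintro ⟨a, b, c⟩ ⟨a', b', c'⟩ e
    have h1 : (a.1 - a'.1) + (b.1 - b'.1) * τ₀ + (c.1 - c'.1) * (f τ₀ * f (f τ₀)) = 0 := by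
      have : Φ (a, b, c) = Φ (a', b', c') := e
      simp only [Φ] at this
      linear_combination this
    obtain ⟨h2, h3, h4⟩ := indep hf3 hτ (by rw [map_sub, hfq, hfq]) (by rw [map_sub, hfq, hfq]) (by rw [map_sub, hfq, hfq]) h1
    have h5 : a = a' := Subtype.ext (sub_eq_zero.1 h2)
    have h6 : b = b' := Subtype.ext (sub_eq_zero.1 h3)
    have h7 : c = c' := Subtype.ext (sub_eq_zero.1 h4)
    rw [h5, h6, h7]
  have hcard : Nat.card K ≤ Nat.card (Fq × Fq × Fq) := by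
    rw [Nat.card_prod, Nat.card_prod, hFq, Nat.card_eq_fintype_card, hK]
    apply le_of_eq
    ring
  have hsurj := (Function.Injective.bijective_of_nat_card_le hinj hcard).2
  obtain ⟨⟨a, b, c⟩, rfl⟩ := hsurj x
  simp only [Φ]
  have h1 := V_smul hf3 H hHG hMH (hfq a) (V_rat hf3 H hHG hMH (c := 1) (map_one f))
  have h2 := V_smul hf3 H hHG hMH (hfq b) h₀
  have h3 := V_smul hf3 H hHG hMH (hfq c) hQ
  rw [mul_one] at h1
  exact V_add hf3 H hHG hMH (V_add hf3 H hHG hMH h1 h2) h3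

end V

theorem hgen : ∀ i < chevD4.rank, dd i = 1 ∨
      ((∀ k < dd i, ρ'^[k] (chevD4.simple (A i)) < chevD4.nroots) ∧ (∀ k < dd i, ρ'^[k] (chevD4.neg (chevD4.simple (A i))) < chevD4.nroots) ∧
        (∃ Lw : List ℕ, (∀ j ∈ Lw, j < chevD4.rank) ∧ ∀ k < dd i, foldw XX J Lw (ρ'^[k] (chevD4.simple (A i))) ∈ [17, 20, 21]) ∧
        (∃ Lw : List ℕ, (∀ j ∈ Lw, j < chevD4.rank) ∧ ∀ k < dd i, foldw XX J Lw (ρ'^[k] (chevD4.neg (chevD4.simple (A i)))) ∈ [17, 20, 21])) := by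
  have key : ∀ i < chevD4.rank, dd i = 1 ∨
      ((∀ k < dd i, ρ'^[k] (chevD4.simple (A i)) < chevD4.nroots) ∧ (∀ k < dd i, ρ'^[k] (chevD4.neg (chevD4.simple (A i))) < chevD4.nroots) ∧
        ((∀ j ∈ [0, 1], j < chevD4.rank) ∧ ∀ k < dd i, foldw XX J [0, 1] (ρ'^[k] (chevD4.simple (A i))) ∈ [17, 20, 21]) ∧
        ((∀ j ∈ [0, 1, 0], j < chevD4.rank) ∧ ∀ k < dd i, foldw XX J [0, 1, 0] (ρ'^[k] (chevD4.neg (chevD4.simple (A i)))) ∈ [17, 20, 21])) := by
    decide +kernel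
  intro i hi
  rcases key i hi with h | ⟨h1, h2, h3, h4⟩
  · exact Or.inl h
  · exact Or.inr ⟨h1, h2, ⟨_, h3⟩, ⟨_, h4⟩⟩

/-- The dichotomy for `³D₄`. -/
theorem dich {q : ℕ} (hq : IsPrimePow q) (hK : Fintype.card K = q ^ 3) {f : K ≃+* K} (hf : ∀ t, f t = t ^ q) (hf3 : ∀ t, f (f (f t)) = t)
    (H : Subgroup (GL chevD4.Idx K)) (hHG : H ≤ (sc f).G1) (hMH : MM (sc f) ≤ H) : H = MM (sc f) ∨ H = (sc f).G1 := by
  refine dichotomy (sc f) (a := aL) (gs := gs) (top := 23) (j0 := 1) (M := 24) (mδ := 12) (L₀ := [1, 0, 1, 0, 1, 0])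
    htop hmax hpos hj0 hcart0 hcart ChevMonoN.mono_D4 (hρ f) hρtop hTr hSum (hs f) hgs (hinv f) hT hL₀ hw0 hfin hlv hρlv hct hM hlong ?_ H hHG hMH ?_
  · intro k hk t hp hrel
    exact hkill f k hk t hp hrel
  · intro t ht hp hne
    rw [L12] at ht hp hne
    have h0 : ∀ r ∈ [17, 20, 21], t r = repD f (t 17) r := uniqD hp
    have h1 : hF.wL [17, 20, 21] (repD f (t 17)) ∈ H := by
      rwa [← hF.wL_congr h0]
    have hne' : f (t 17) ≠ t 17 := by
      intro e
      obtain ⟨r, hr, hr'⟩ := hne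
      apply hr'
      rw [h0 r hr]
      simp only [repD]
      split_ifs <;> simp [e]
    refine full_G1 (sc f) (hs f) hlD comD (by decide +kernel) permD H hMH ?_ hgen
    intro t' hp'
    have h2 : ∀ r ∈ [17, 20, 21], t' r = repD f (t' 17) r := uniqD hp'
    rw [hF.wL_congr h2]
    exact V_all hf3 H hHG hMH hq hK hf hne' h1 _

/-- The subfield points of `³D₄` are a proper maximal subgroup. -/
theorem main (p : ℕ) [Fact p.Prime] [CharP K p] (q : ℕ) (hq : ∃ a : ℕ, 1 ≤ a ∧ q = p ^ a) (hK : Fintype.card K = q ^ 3) (M : Subgroup (GL chevD4.Idx K))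
    (hM : ∀ g : GL chevD4.Idx K, g ∈ M ↔ g ∈ twistedD4 K q ∧ ∀ i j : chevD4.Idx, ((g : Matrix chevD4.Idx chevD4.Idx K) i j) ^ q = (g : Matrix chevD4.Idx chevD4.Idx K) i j) :
    M ≠ twistedD4 K q ∧ ∀ H : Subgroup (GL chevD4.Idx K), M ≤ H → H ≤ twistedD4 K q → H = M ∨ H = twistedD4 K q := by
  have hq' : IsPrimePow q := by
    obtain ⟨a, ha, rfl⟩ := hq
    exact (Nat.Prime.isPrimePow Fact.out).pow (by omega)
  obtain ⟨f, hf, hf3⟩ := TwD4.exists_frob3 hq' hK
  have hf3' : ∀ t, f (f (f t)) = t := hf3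
  have hG := G1_eq f hf hf3
  have hMe : M = MM (sc f) := by
    ext g
    rw [hM g, mem_MM, hG, fix_iff hf]
  constructor
  · rw [hMe, ← hG]
    obtain ⟨x, hx⟩ : ∃ x : K, f x ≠ x := by
      by_contra hcon
      push Not at hcon
      have h1 : Nat.card {t : K // t ^ q = t} = q := card_fix_pow hq' hK (by norm_num)
      have h2 : Nat.card {t : K // t ^ q = t} = Nat.card K := by
        apply Nat.card_congr
        exact Equiv.subtypeUnivEquiv (fun t => by rw [← hf]; exact hcon t)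
      rw [h1, Nat.card_eq_fintype_card, hK] at h2
      have hq2 := hq'.two_le
      nlinarith [pow_succ q 2, Nat.pos_of_ne_zero (by omega : q ≠ 0)]
    exact MM_ne_G1 (sc f) (i := 0) (by decide +kernel) (hf3 x) hx (by decide +kernel) (by decide +kernel) (by decide +kernel)
      (commL_of_nil (by decide +kernel) (by decide +kernel))
  · intro H h1 h2
    rw [hMe] at h1 ⊢
    rw [← hG] at h2 ⊢
    exact dich hq' hK hf hf3' H h2 h1

end Cfsg.Agent.Lib.ChevTw.InstD4
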