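import Mathlib
import Cfsg.Agent.Lib.ChevTw.Close
import Cfsg.Agent.Lib.Chev.TwE6
import Cfsg.Agent.Lib.Chev.TwE6BN
import Cfsg.Agent.Lib.ChevMonoN

/-!
# Subfield points of the twisted group of type ²E₆
-/

set_option autoImplicit false
set_option maxRecDepth 100000
set_option synthInstance.maxSize 10000
set_option synthInstance.maxHeartbeats 2000000
set_option linter.unusedSectionVars false
set_option linter.unusedVariables false
set_option linter.unnecessarySimpa false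

namespace Cfsg.Agent.Lib.ChevTw.InstE6

open Cfsg Cfsg.Lie Matrix Cfsg.Agent.Lib.Chev Cfsg.Agent.Lib.Chev.Full Cfsg.Agent.Lib.Chev.Tri
open Cfsg.Agent.Lib.ChevTransfer Cfsg.Agent.Lib.ChevAut.SubField Cfsg.Agent.Lib.ChevAut.WClosed
open Cfsg.Agent.Lib.ChevAut.ParabFit Cfsg.Agent.Lib.ChevInv Cfsg.Agent.Lib.ChevInv.CentG
open Cfsg.Agent.Lib.ChevSub Cfsg.Agent.Lib.ChevAut.RootCent Equiv
open Cfsg.Agent.Lib.Chev.TwE6 (hF sc G1_eq J A dd τ)

noncomputable abbrev ρ' : ℕ → ℕ := TwTabE6.S.r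
noncomputable abbrev gs : ℕ → ℤ := fun r => Trie.find (Int.ofNat 1) TwTabE6.g r
noncomputable abbrev RR := RootE6T.R
noncomputable abbrev XX := TabE6.X

/-- The level weights. -/
def aL : ℕ → ℤ
  | 0 => 4
  | 1 => 2
  | 2 => 5
  | 3 => 1
  | 4 => 5
  | 5 => 4
  | _ => 0

noncomputable abbrev lv (r : ℕ) : ℤ := RR.lin chevE6.rank aL r

variable {K : Type*} [Field K] [Fintype K] (f : K ≃+* K)

theorem htop : 71 < chevE6.nroots := by decide +kernel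
theorem hmax : ∀ s < chevE6.nroots, s ≤ 71 := by decide +kernel
theorem hpos : RR.N ≤ 71 := by decide +kernel
theorem hj0 : 1 < chevE6.rank := by decide +kernel
theorem hcart0 : 0 < chevE6.cartan 1 71 := by decide +kernel
theorem hcart : ∀ j < chevE6.rank, j ≠ 1 → chevE6.cartan j 71 = 0 := by decide +kernel
theorem hρtop : ρ' 71 = 71 := by decide +kernel

theorem hTr : ∀ β, RR.N ≤ β → β < chevE6.nroots → ρ' β = β → ∃ L : List ℕ, (∀ i ∈ L, i < chevE6.rank) ∧ foldw XX J L 71 = β := by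
  have key : ∀ β < chevE6.nroots, RR.N ≤ β → ρ' β = β → β = 39 ∨ β = 44 ∨ β = 46 ∨ β = 47 ∨ β = 51 ∨ β = 53 ∨ β = 60 ∨ β = 63 ∨ β = 65 ∨ β = 69 ∨ β = 70 ∨ β = 71 := by decide +kernel
  intro β h1 h2 h3
  rcases key β h2 h1 h3 with rfl | rfl | rfl | rfl | rfl | rfl | rfl | rfl | rfl | rfl | rfl | rfl
  · exact ⟨[2, 1, 3, 0, 2, 3, 1], by decide +kernel, by decide +kernel⟩
  · exact ⟨[1, 3, 0, 2, 3, 1], by decide +kernel, by decide +kernel⟩
  · exact ⟨[3, 2, 3, 0, 2, 3, 1], by decide +kernel, by decide +kernel⟩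
  · exact ⟨[2, 3, 0, 2, 3, 1], by decide +kernel, by decide +kernel⟩
  · exact ⟨[3, 0, 2, 3, 1], by decide +kernel, by decide +kernel⟩
  · exact ⟨[0, 2, 3, 1], by decide +kernel, by decide +kernel⟩
  · exact ⟨[1, 3, 2, 3, 1], by decide +kernel, by decide +kernel⟩
  · exact ⟨[3, 2, 3, 1], by decide +kernel, by decide +kernel⟩
  · exact ⟨[2, 3, 1], by decide +kernel, by decide +kernel⟩
  · exact ⟨[3, 1], by decide +kernel, by decide +kernel⟩
  · exact ⟨[1], by decide +kernel, by decide +kernel⟩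
  · exact ⟨[], by decide +kernel, by decide +kernel⟩

theorem hSum : ∀ m < chevE6.rank, ρ' (chevE6.simple m) = chevE6.simple m ∨ ∃ b₁ b₀ : ℕ, b₀ < b₁ ∧ b₁ < chevE6.nroots ∧ RR.N ≤ b₀ ∧ ρ' b₁ = b₁ ∧ ρ' b₀ = b₀ ∧
      ∀ j < chevE6.rank, RR.rcAt b₁ j - RR.rcAt b₀ j = if j ∈ J m then 1 else 0 := by
  have key : ∀ m < chevE6.rank, ρ' (chevE6.simple m) = chevE6.simple m ∨ ((60 : ℕ) < chevE6.nroots ∧ RR.N ≤ 44 ∧ ρ' 60 = 60 ∧ ρ' 44 = 44 ∧
      ∀ j < chevE6.rank, RR.rcAt 60 j - RR.rcAt 44 j = if j ∈ J m then 1 else 0) ∨ ((44 : ℕ) < chevE6.nroots ∧ RR.N ≤ 39 ∧ ρ' 44 = 44 ∧ ρ' 39 = 39 ∧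
      ∀ j < chevE6.rank, RR.rcAt 44 j - RR.rcAt 39 j = if j ∈ J m then 1 else 0) := by decide +kernel
  intro m hm
  rcases key m hm with h | ⟨h1, h2, h3, h4, h5⟩ | ⟨h1, h2, h3, h4, h5⟩
  · exact Or.inl h
  · exact Or.inr ⟨60, 44, by norm_num, h1, h2, h3, h4, h5⟩
  · exact Or.inr ⟨44, 39, by norm_num, h1, h2, h3, h4, h5⟩

theorem hgs : ∀ r < chevE6.nroots, ρ' r = r → gs r = 1 := by decide +kernel

theorem hs : ∀ r < chevE6.nroots, ∀ a : K, (τ f).s (hF.c.xG r a) = hF.c.xG (ρ' r) ((gs r : K) * f a) := fun r hr a =>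
  TwTabE6.ok.signTw_s hF TwTabE6.sign_ok TwTabE6.sq_ok TwTabE6.unit_ok TwTabE6.neg_ok f hr a

theorem hρ : ∀ r : Fin chevE6.nroots, (((τ f).ρ r : Fin chevE6.nroots) : ℕ) = ρ' r := fun _ => rfl

theorem hrc0 : ∀ r < chevE6.nroots, RR.rcAt (ρ' r) 1 = RR.rcAt r 1 := by decide +kernel

theorem lin_aJ1 {r : ℕ} : RR.lin chevE6.rank (aJ {j | j ≠ 1}) r = RR.rcAt r 1 := by
  classical
  unfold RootTab.lin
  rw [Finset.sum_eq_single 1]
  · simp [aJ]
  · intro b _ hb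
    simp [aJ, hb]
  · intro h
    exact absurd (Finset.mem_range.2 (by decide +kernel)) h

theorem hinv : ∀ r : Fin chevE6.nroots, RR.lin chevE6.rank (aJ {j | j ≠ 1}) ((τ f).ρ r : Fin chevE6.nroots) = RR.lin chevE6.rank (aJ {j | j ≠ 1}) r := by
  intro r
  rw [lin_aJ1, lin_aJ1]
  exact hrc0 r r.2

theorem hT : ∀ r < chevE6.nroots, ρ' r = r → ∃ Lm : List ℕ, (∀ j ∈ Lm, j < chevE6.rank ∧ J j = [j] ∧ ρ' (chevE6.simple j) = chevE6.simple j) ∧
      Tm RR XX chevE6 J 71 1 (Lm.foldl (fun s j => XX.wf j s) r) := by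
  have key : ∀ r < chevE6.nroots, ρ' r = r → r = 0 ∨ r = 1 ∨ r = 2 ∨ r = 6 ∨ r = 8 ∨ r = 11 ∨ r = 18 ∨ r = 20 ∨ r = 24 ∨ r = 25 ∨ r = 27 ∨ r = 32 ∨ r = 39 ∨ r = 44 ∨ r = 46 ∨ r = 47 ∨ r = 51 ∨ r = 53 ∨ r = 60 ∨ r = 63 ∨ r = 65 ∨ r = 69 ∨ r = 70 ∨ r = 71 := by decide +kernel
  intro r hr hρr
  rcases key r hr hρr with rfl | rfl | rfl | rfl | rfl | rfl | rfl | rfl | rfl | rfl | rfl | rfl | rfl | rfl | rfl | rfl | rfl | rfl | rfl | rfl | rfl | rfl | rfl | rfl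
  · refine ⟨[1], by decide +kernel, Or.inr ⟨46, 1, [3, 2, 3, 0, 2, 3, 1], 46, ?_⟩⟩
    decide +kernel
  · refine ⟨[], by decide +kernel, Or.inr ⟨46, 1, [3, 2, 3, 0, 2, 3, 1], 46, ?_⟩⟩
    decide +kernel
  · refine ⟨[], by decide +kernel, Or.inr ⟨47, -1, [2, 3, 0, 2, 3, 1], 46, ?_⟩⟩
    decide +kernel
  · refine ⟨[], by decide +kernel, Or.inr ⟨51, -1, [3, 0, 2, 3, 1], 46, ?_⟩⟩
    decide +kernel
  · refine ⟨[], by decide +kernel, Or.inr ⟨53, 1, [0, 2, 3, 1], 46, ?_⟩⟩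
    decide +kernel
  · refine ⟨[1], by decide +kernel, Or.inr ⟨53, 1, [0, 2, 3, 1], 46, ?_⟩⟩
    decide +kernel
  · refine ⟨[], by decide +kernel, Or.inr ⟨63, -1, [3, 2, 3, 1], 46, ?_⟩⟩
    decide +kernel
  · refine ⟨[], by decide +kernel, Or.inr ⟨65, 1, [2, 3, 1], 46, ?_⟩⟩
    decide +kernel
  · refine ⟨[], by decide +kernel, Or.inr ⟨69, 1, [3, 1], 46, ?_⟩⟩
    decide +kernel
  · refine ⟨[], by decide +kernel, Or.inr ⟨70, -1, [1], 46, ?_⟩⟩
    decide +kernel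
  · refine ⟨[1], by decide +kernel, Or.inr ⟨65, 1, [2, 3, 1], 46, ?_⟩⟩
    decide +kernel
  · refine ⟨[1], by decide +kernel, Or.inr ⟨69, 1, [3, 1], 46, ?_⟩⟩
    decide +kernel
  · exact ⟨[], by decide +kernel, Or.inl (by decide +kernel)⟩
  · exact ⟨[], by decide +kernel, Or.inl (by decide +kernel)⟩
  · exact ⟨[], by decide +kernel, Or.inl (by decide +kernel)⟩
  · exact ⟨[], by decide +kernel, Or.inl (by decide +kernel)⟩
  · exact ⟨[], by decide +kernel, Or.inl (by decide +kernel)⟩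
  · exact ⟨[], by decide +kernel, Or.inl (by decide +kernel)⟩
  · exact ⟨[], by decide +kernel, Or.inl (by decide +kernel)⟩
  · exact ⟨[], by decide +kernel, Or.inl (by decide +kernel)⟩
  · exact ⟨[], by decide +kernel, Or.inl (by decide +kernel)⟩
  · exact ⟨[], by decide +kernel, Or.inl (by decide +kernel)⟩
  · exact ⟨[], by decide +kernel, Or.inl (by decide +kernel)⟩
  · exact ⟨[], by decide +kernel, Or.inl (by decide +kernel)⟩

theorem hL₀ : ∀ i ∈ [3, 1, 2, 3, 1, 0, 2, 3, 1, 0, 2, 3, 1, 0, 2, 3, 1, 0, 2, 3, 1, 0, 2, 0], i < chevE6.rank := by decide +kernel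
theorem hw0 : ∀ s < chevE6.nroots, (RR.N ≤ s ↔ foldw XX J [3, 1, 2, 3, 1, 0, 2, 3, 1, 0, 2, 3, 1, 0, 2, 3, 1, 0, 2, 3, 1, 0, 2, 0] s < RR.N) := by decide +kernel

theorem hlv : ∀ r < chevE6.nroots, RR.N ≤ r → 1 ≤ lv r := by decide +kernel
theorem hρlv : ∀ r < chevE6.nroots, lv (ρ' r) = lv r := by decide +kernel
theorem hct : ∀ r < chevE6.nroots, ∀ s < chevE6.nroots, RR.N ≤ r → RR.N ≤ s → lv r = lv s → s ≠ r → s ≠ chevE6.neg r ∧ chevE6.commTerms r s = [] := by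
  decide +kernel
theorem hM : ∀ r < chevE6.nroots, lv r < (36 : ℕ) := by decide +kernel
theorem hlong : ∀ r < chevE6.nroots, RR.N ≤ r → ((27 : ℕ) : ℤ) < lv r → ρ' r = r := by decide +kernel

theorem ratB1 : RatCl RR chevE6 ρ' gs [46] (fun _ => 1) := by
  constructor <;> decide +kernel
theorem ratB3 : RatCl RR chevE6 ρ' gs [39] (fun _ => 1) := by
  constructor <;> decide +kernel
theorem ratA0 : RatCl RR chevE6 ρ' gs [36, 56] (fun _ => 1) := by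
  constructor <;> decide +kernel
theorem ratA2 : RatCl RR chevE6 ρ' gs [37, 42] (fun _ => 1) := by
  constructor <;> decide +kernel

/-- The rational classes for the torus. -/
def e49 : ℕ → ℤ
  | 61 => -1
  | _ => 1

theorem rat47 : RatCl RR chevE6 ρ' gs [48, 50] (fun _ => 1) := by
  constructor <;> decide +kernel
theorem rat49 : RatCl RR chevE6 ρ' gs [49, 61] e49 := by
  constructor <;> decide +kernel

theorem L27 : LsF RR chevE6 aL 27 = [66, 68] := by decide +kernel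

theorem rc_vals : (RR.rcAt 46 0 = 0 ∧ RR.rcAt 46 1 = 1 ∧ RR.rcAt 46 2 = 0 ∧ RR.rcAt 46 3 = 0 ∧ RR.rcAt 46 4 = 0 ∧ RR.rcAt 46 5 = 0) ∧
    (RR.rcAt 47 0 = 0 ∧ RR.rcAt 47 1 = 1 ∧ RR.rcAt 47 2 = 0 ∧ RR.rcAt 47 3 = 1 ∧ RR.rcAt 47 4 = 0 ∧ RR.rcAt 47 5 = 0) ∧
    (RR.rcAt 48 0 = 0 ∧ RR.rcAt 48 1 = 1 ∧ RR.rcAt 48 2 = 0 ∧ RR.rcAt 48 3 = 1 ∧ RR.rcAt 48 4 = 1 ∧ RR.rcAt 48 5 = 0) ∧
    (RR.rcAt 50 0 = 0 ∧ RR.rcAt 50 1 = 1 ∧ RR.rcAt 50 2 = 1 ∧ RR.rcAt 50 3 = 1 ∧ RR.rcAt 50 4 = 0 ∧ RR.rcAt 50 5 = 0) ∧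
    (RR.rcAt 49 0 = 0 ∧ RR.rcAt 49 1 = 1 ∧ RR.rcAt 49 2 = 0 ∧ RR.rcAt 49 3 = 1 ∧ RR.rcAt 49 4 = 1 ∧ RR.rcAt 49 5 = 1) ∧
    (RR.rcAt 61 0 = 1 ∧ RR.rcAt 61 1 = 1 ∧ RR.rcAt 61 2 = 1 ∧ RR.rcAt 61 3 = 1 ∧ RR.rcAt 61 4 = 0 ∧ RR.rcAt 61 5 = 0) := by
  decide +kernel

theorem chr_exp (v : ℕ → Kˣ) (s : ℕ) :
    chr RR chevE6.rank v s = v 0 ^ RR.rcAt s 0 * v 1 ^ RR.rcAt s 1 * v 2 ^ RR.rcAt s 2 * v 3 ^ RR.rcAt s 3 * v 4 ^ RR.rcAt s 4 * v 5 ^ RR.rcAt s 5 := by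
  unfold chr
  rw [show chevE6.rank = 6 from rfl]
  simp only [Finset.prod_range_succ, Finset.prod_range_zero, one_mul]

theorem hfin (c : Fin chevE6.rank → Kˣ) (h1 : ∀ β < chevE6.nroots, RR.N ≤ β → ρ' β = β → chiT chevE6 c β = 1)
    (h2 : ∀ r, (∃ L e, RatCl RR chevE6 ρ' gs L e ∧ (∀ s ∈ L, 0 < RR.rcAt s 1) ∧ r ∈ L) → chiT chevE6 c r = 1) :
    tor RR chevE6 c = (1 : GL chevE6.Idx K) := by
  rw [hF.tor_eq_one_iff]
  have e46 := h1 46 (by decide +kernel) (by decide +kernel) (by decide +kernel)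
  have e47 := h1 47 (by decide +kernel) (by decide +kernel) (by decide +kernel)
  have e48 := h2 48 ⟨_, _, rat47, by decide +kernel, by simp⟩
  have e50 := h2 50 ⟨_, _, rat47, by decide +kernel, by simp⟩
  have e49' := h2 49 ⟨_, _, rat49, by decide +kernel, by simp⟩
  have e61 := h2 61 ⟨_, _, rat49, by decide +kernel, by simp⟩
  rw [hF.chiT_eq_chr c (by decide +kernel), chr_exp] at e46 e47 e48 e50 e49' e61
  obtain ⟨⟨a0, a1, a2, a3, a4, a5⟩, ⟨b0, b1, b2, b3, b4, b5⟩, ⟨c0, c1, c2, c3, c4, c5⟩, ⟨d0, d1, d2, d3, d4, d5⟩, ⟨g0, g1, g2, g3, g4, g5⟩, ⟨k0, k1, k2, k3, k4, k5⟩⟩ := rc_vals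
  rw [a0, a1, a2, a3, a4, a5] at e46
  rw [b0, b1, b2, b3, b4, b5] at e47
  rw [c0, c1, c2, c3, c4, c5] at e48
  rw [d0, d1, d2, d3, d4, d5] at e50
  rw [g0, g1, g2, g3, g4, g5] at e49'
  rw [k0, k1, k2, k3, k4, k5] at e61
  simp only [zpow_zero, zpow_one, one_mul, mul_one] at e46 e47 e48 e50 e49' e61
  have x3 : cartanMap chevE6 c 3 = 1 := by simpa [e46] using e47
  have x4 : cartanMap chevE6 c 4 = 1 := by simpa [e46, x3] using e48
  have x2 : cartanMap chevE6 c 2 = 1 := by simpa [e46, x3] using e50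
  have x5 : cartanMap chevE6 c 5 = 1 := by simpa [e46, x3, x4] using e49'
  have x0 : cartanMap chevE6 c 0 = 1 := by simpa [e46, x2, x3] using e61
  intro j hj
  have hj' : j < 6 := hj
  interval_cases j
  · exact x0
  · exact e46
  · exact x2
  · exact x3
  · exact x4
  · exact x5

/-- One row of the table. -/
theorem row_kill {k : ℕ} (t : ℕ → K) (k₀ r : ℕ) (L' : List ℕ) (e : ℕ → ℤ) (k' w i : ℕ) (hcl : RatCl RR chevE6 ρ' gs L' e)
    (hrel : ∀ (L' : List ℕ) (e : ℕ → ℤ) (k' w i : ℕ), RatCl RR chevE6 ρ' gs L' e → (∀ s ∈ L', lv s = (k' : ℤ) + 1) →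
        w < chevE6.nroots → RR.N ≤ w → lv w = (k : ℤ) + k' + 2 → i < chevE6.rank →
        (∀ r ∈ LsF RR chevE6 aL (k + 1), ∀ s ∈ L', Ex1 chevE6 s w r = true) → (∀ r ∈ LsF RR chevE6 aL (k + 1), ∀ s ∈ L', Ex1 chevE6 r w s = true) →
        ((LsF RR chevE6 aL (k + 1)).map fun r => ((Zc chevE6 L' e w i r : ℤ) : K) * (f (t r) - t r)).sum = 0)
    (hp' : True)
    (hchk : lv r = (k₀ : ℤ) + 1 ∧ (∀ s ∈ L', lv s = (k' : ℤ) + 1) ∧ w < chevE6.nroots ∧ RR.N ≤ w ∧ lv w = (k₀ : ℤ) + k' + 2 ∧ i < chevE6.rank ∧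
        (∀ r ∈ LsF RR chevE6 aL (k₀ + 1), ∀ s ∈ L', Ex1 chevE6 s w r = true) ∧ (∀ r ∈ LsF RR chevE6 aL (k₀ + 1), ∀ s ∈ L', Ex1 chevE6 r w s = true) ∧
        (∀ s ∈ LsF RR chevE6 aL (k₀ + 1), s ≠ r → Zc chevE6 L' e w i s = 0) ∧ (Zc chevE6 L' e w i r = 1 ∨ Zc chevE6 L' e w i r = -1))
    (hr : r ∈ LsF RR chevE6 aL (k + 1)) (h3 : lv r = ((k + 1 : ℕ) : ℤ)) : f (t r) = t r := by
  obtain ⟨h0, h1, h2, h4, h5, h6, h7, h8, h9, h10⟩ := hchk
  have hk : k = k₀ := by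
    rw [h0] at h3
    push_cast at h3
    omega
  subst hk
  have h11 := hrel L' e k' w i hcl h1 h2 h4 h5 h6 h7 h8
  exact sub_eq_zero.1 (kill_row (nodup_LsF _) hr h9 h10 h11)

set_option maxHeartbeats 4000000 in
/-- Levels other than the special one do not contribute. -/
theorem hkill (k : ℕ) (hk : k + 1 ≠ 27) (t : ℕ → K) (hp : ∀ r ∈ LsF RR chevE6 aL (k + 1), t (ρ' r) = (gs r : K) * f (t r))
    (hrel : ∀ (L' : List ℕ) (e : ℕ → ℤ) (k' w i : ℕ), RatCl RR chevE6 ρ' gs L' e → (∀ s ∈ L', lv s = (k' : ℤ) + 1) →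
        w < chevE6.nroots → RR.N ≤ w → lv w = (k : ℤ) + k' + 2 → i < chevE6.rank →
        (∀ r ∈ LsF RR chevE6 aL (k + 1), ∀ s ∈ L', Ex1 chevE6 s w r = true) → (∀ r ∈ LsF RR chevE6 aL (k + 1), ∀ s ∈ L', Ex1 chevE6 r w s = true) →
        ((LsF RR chevE6 aL (k + 1)).map fun r => ((Zc chevE6 L' e w i r : ℤ) : K) * (f (t r) - t r)).sum = 0)
    (r : ℕ) (hr : r ∈ LsF RR chevE6 aL (k + 1)) : f (t r) = t r := by
  obtain ⟨h1, h2, h3'⟩ := (mem_LsF _ _).1 hr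
  have h3 : lv r = ((k + 1 : ℕ) : ℤ) := h3'
  have hp' : True := trivial
  by_cases hfix : ρ' r = r
  · have h4 := hp r hr
    rw [hfix, hgs r h1 hfix] at h4
    simpa using h4.symm
  have key : ∀ r < chevE6.nroots, RR.N ≤ r → ρ' r ≠ r → lv r ≠ 27 → r = 36 ∨ r = 56 ∨ r = 37 ∨ r = 42 ∨ r = 38 ∨ r = 57 ∨ r = 40 ∨ r = 43 ∨ r = 41 ∨ r = 58 ∨ r = 45 ∨ r = 59 ∨ r = 48 ∨ r = 50 ∨ r = 49 ∨ r = 61 ∨ r = 52 ∨ r = 62 ∨ r = 54 ∨ r = 64 ∨ r = 55 ∨ r = 67 := by decide +kernel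
  have hne : lv r ≠ 27 := by
    intro e
    apply hk
    rw [e] at h3
    have : ((k + 1 : ℕ) : ℤ) = 27 := h3.symm
    exact_mod_cast this
  rcases key r h1 h2 hfix hne with rfl | rfl | rfl | rfl | rfl | rfl | rfl | rfl | rfl | rfl | rfl | rfl | rfl | rfl | rfl | rfl | rfl | rfl | rfl | rfl | rfl | rfl
  · exact row_kill f t 3 36 [37, 42] (fun _ => 1) 4 38 4 ratA2 hrel hp' (by decide +kernel) hr h3
  · exact row_kill f t 3 56 [37, 42] (fun _ => 1) 4 57 0 ratA2 hrel hp' (by decide +kernel) hr h3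
  · exact row_kill f t 4 37 [39] (fun _ => 1) 0 40 3 ratB3 hrel hp' (by decide +kernel) hr h3
  · exact row_kill f t 4 42 [39] (fun _ => 1) 0 43 2 ratB3 hrel hp' (by decide +kernel) hr h3
  · exact row_kill f t 8 38 [39] (fun _ => 1) 0 41 3 ratB3 hrel hp' (by decide +kernel) hr h3
  · exact row_kill f t 8 57 [39] (fun _ => 1) 0 58 0 ratB3 hrel hp' (by decide +kernel) hr h3
  · exact row_kill f t 5 40 [46] (fun _ => 1) 1 48 1 ratB1 hrel hp' (by decide +kernel) hr h3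
  · exact row_kill f t 5 43 [46] (fun _ => 1) 1 50 1 ratB1 hrel hp' (by decide +kernel) hr h3
  · exact row_kill f t 9 41 [46] (fun _ => 1) 1 49 1 ratB1 hrel hp' (by decide +kernel) hr h3
  · exact row_kill f t 9 58 [46] (fun _ => 1) 1 61 0 ratB1 hrel hp' (by decide +kernel) hr h3
  · exact row_kill f t 14 45 [46] (fun _ => 1) 1 52 1 ratB1 hrel hp' (by decide +kernel) hr h3
  · exact row_kill f t 14 59 [46] (fun _ => 1) 1 62 0 ratB1 hrel hp' (by decide +kernel) hr h3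
  · exact row_kill f t 7 48 [36, 56] (fun _ => 1) 3 49 1 ratA0 hrel hp' (by decide +kernel) hr h3
  · exact row_kill f t 7 50 [36, 56] (fun _ => 1) 3 61 0 ratA0 hrel hp' (by decide +kernel) hr h3
  · exact row_kill f t 11 49 [37, 42] (fun _ => 1) 4 52 1 ratA2 hrel hp' (by decide +kernel) hr h3
  · exact row_kill f t 11 61 [37, 42] (fun _ => 1) 4 62 0 ratA2 hrel hp' (by decide +kernel) hr h3
  · exact row_kill f t 16 52 [39] (fun _ => 1) 0 54 1 ratB3 hrel hp' (by decide +kernel) hr h3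
  · exact row_kill f t 16 62 [39] (fun _ => 1) 0 64 0 ratB3 hrel hp' (by decide +kernel) hr h3
  · exact row_kill f t 17 54 [37, 42] (fun _ => 1) 4 55 1 ratA2 hrel hp' (by decide +kernel) hr h3
  · exact row_kill f t 17 64 [37, 42] (fun _ => 1) 4 67 0 ratA2 hrel hp' (by decide +kernel) hr h3
  · exact row_kill f t 22 55 [36, 56] (fun _ => 1) 3 66 0 ratA0 hrel hp' (by decide +kernel) hr h3
  · exact row_kill f t 22 67 [36, 56] (fun _ => 1) 3 68 0 ratA0 hrel hp' (by decide +kernel) hr h3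

/-- Parameters along the special class. -/
def repD (x : K) : ℕ → K := fun r => if r = 66 then x else f x

theorem comD : hF.CommL K [66, 68] := commL_of_nil (by decide +kernel) (by decide +kernel)
theorem permD : ([66, 68].map ρ').Perm [66, 68] := by decide +kernel
theorem hlD : ∀ r ∈ [66, 68], r < chevE6.nroots ∧ RR.N ≤ r := by decide +kernel

theorem rho_vals : ρ' 66 = 68 ∧ ρ' 68 = 66 := by decide +kernel
theorem gs_vals : gs 66 = 1 ∧ gs 68 = 1 := by decide +kernel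

section

variable {f} (hf2 : ∀ t, f (f t) = t)

include hf2

theorem patD (x : K) : ∀ r ∈ [66, 68], repD f x (ρ' r) = (gs r : K) * f (repD f x r) := by
  obtain ⟨r0, r1⟩ := rho_vals
  obtain ⟨g0, g1⟩ := gs_vals
  intro r hr
  simp only [List.mem_cons, List.not_mem_nil, or_false] at hr
  rcases hr with rfl | rfl
  · rw [r0, g0]
    simp [repD]
  · rw [r1, g1]
    simp [repD, hf2]

omit hf2 in
theorem uniqD {t : ℕ → K} (hp : ∀ r ∈ [66, 68], t (ρ' r) = (gs r : K) * f (t r)) : ∀ r ∈ [66, 68], t r = repD f (t 66) r := by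
  obtain ⟨r0, r1⟩ := rho_vals
  obtain ⟨g0, g1⟩ := gs_vals
  have h66 := hp 66 (by simp)
  rw [r0, g0] at h66
  push_cast at h66
  simp only [one_mul] at h66
  intro r hr
  simp only [List.mem_cons, List.not_mem_nil, or_false] at hr
  rcases hr with rfl | rfl
  · simp [repD]
  · simp [repD, h66]

end

theorem chi_expand (c : Fin chevE6.rank → Kˣ) (s : ℕ) : chiT chevE6 c s =
    c ⟨0, by decide⟩ ^ chevE6.cartan 0 s * c ⟨1, by decide⟩ ^ chevE6.cartan 1 s * c ⟨2, by decide⟩ ^ chevE6.cartan 2 s *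
      c ⟨3, by decide⟩ ^ chevE6.cartan 3 s * c ⟨4, by decide⟩ ^ chevE6.cartan 4 s * c ⟨5, by decide⟩ ^ chevE6.cartan 5 s := by
  have := Fin.prod_univ_six (fun i : Fin 6 => c i ^ chevE6.cartan i s)
  exact this

section V

variable {f} (hf2 : ∀ t, f (f t) = t) (H : Subgroup (GL chevE6.Idx K)) (hHG : H ≤ (sc f).G1) (hMH : MM (sc f) ≤ H)

include hf2 hHG hMH

theorem V_add {x y : K} (hx : hF.wL [66, 68] (repD f x) ∈ H) (hy : hF.wL [66, 68] (repD f y) ∈ H) :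
    hF.wL [66, 68] (repD f (x + y)) ∈ H := by
  have h1 := mul_mem hx hy
  rw [hF.wL_mul comD] at h1
  convert h1 using 1
  apply hF.wL_congr
  intro r _
  simp only [repD]
  split_ifs <;> simp

theorem V_rat {c : K} (hc : f c = c) : hF.wL [66, 68] (repD f c) ∈ H := by
  apply hMH
  refine pattern_mem_MM (sc f) (hs f) hlD comD (by decide +kernel) permD (patD hf2 c) ?_
  intro r _
  simp only [repD]
  split_ifs <;> simp [hc]

theorem tor_scale {c : Kˣ} (hc : f (c : K) = c) :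
    tor RR chevE6 (fun j : Fin chevE6.rank => if (j : ℕ) = 0 ∨ (j : ℕ) = 5 then c else (1 : Kˣ)) ∈ MM (sc f) := by
  have huc : unitsF f c = c := Units.ext hc
  refine tor_mem_MM (sc f) (reps := [0, 1, 2, 3]) (by decide +kernel) (by decide +kernel) (by decide +kernel) ?_ ?_
  · obtain ⟨p0, p1, p2, p3, p4, p5⟩ := TwE6.pi_vals f
    refine TwE6.fin6_cases ?_ ?_ ?_ ?_ ?_ ?_
    · rw [p0]
      simp [huc]
    · rw [p1]
      simp [unitsF]
    · rw [p2]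
      simp [unitsF]
    · rw [p3]
      simp [unitsF]
    · rw [p4]
      simp [unitsF]
    · rw [p5]
      simp [huc]
  · intro k
    split_ifs
    · exact hc
    · simp

theorem V_scale {c : Kˣ} (hc : f (c : K) = c) {x : K} (hx : hF.wL [66, 68] (repD f x) ∈ H) :
    hF.wL [66, 68] (repD f ((c : K) * x)) ∈ H := by
  have h1 := tor_scale hf2 H hHG hMH hc
  have h2 := mul_mem (mul_mem (hMH h1) hx) (inv_mem (hMH h1))
  rw [hF.tor_conj_wL _ (by decide +kernel)] at h2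
  convert h2 using 1
  apply hF.wL_congr
  intro r hr
  have e : ∀ s, chiT chevE6 (fun j : Fin chevE6.rank => if (j : ℕ) = 0 ∨ (j : ℕ) = 5 then c else (1 : Kˣ)) s =
      c ^ chevE6.cartan 0 s * c ^ chevE6.cartan 5 s := by
    intro s
    rw [chi_expand]
    simp
  have c66 : chevE6.cartan 0 66 = 1 ∧ chevE6.cartan 5 66 = 0 := by decide +kernel
  have c68 : chevE6.cartan 0 68 = 0 ∧ chevE6.cartan 5 68 = 1 := by decide +kernel
  simp only [List.mem_cons, List.not_mem_nil, or_false] at hr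
  rcases hr with rfl | rfl
  · rw [e, c66.1, c66.2]
    simp [repD]
  · rw [e, c68.1, c68.2]
    simp [repD, hc]

theorem V_smul {c x : K} (hc : f c = c) (hx : hF.wL [66, 68] (repD f x) ∈ H) : hF.wL [66, 68] (repD f (c * x)) ∈ H := by
  by_cases h0 : c = 0
  · rw [h0, zero_mul]
    exact V_rat hf2 H hHG hMH (map_zero f)
  · exact V_scale hf2 H hHG hMH (c := Units.mk0 c h0) hc hx

/-- All parameters occur as soon as an irrational one does. -/
theorem V_all {q : ℕ} (hq : IsPrimePow q) (hK : Fintype.card K = q ^ 2) (hf : ∀ t, f t = t ^ q) {τ₀ : K} (hτ : f τ₀ ≠ τ₀)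
    (h₀ : hF.wL [66, 68] (repD f τ₀) ∈ H) (x : K) : hF.wL [66, 68] (repD f x) ∈ H := by
  let Fq := {t : K // t ^ q = t}
  have hFq : Nat.card Fq = q := card_fix_pow hq hK (by norm_num)
  have hfq : ∀ t : Fq, f t.1 = t.1 := fun t => by rw [hf]; exact t.2
  let Φ : Fq × Fq → K := fun p => p.1.1 + p.2.1 * τ₀
  have hinj : Function.Injective Φ := by
    rintro ⟨a, b⟩ ⟨a', b'⟩ e
    have h1 : (a.1 - a'.1) + (b.1 - b'.1) * τ₀ = 0 := by
      have : Φ (a, b) = Φ (a', b') := e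
      simp only [Φ] at this
      linear_combination this
    have hb : b.1 - b'.1 = 0 := by
      by_contra hne
      apply hτ
      have h2 := congrArg f h1
      rw [map_add, map_mul, map_sub, map_sub, hfq, hfq, hfq, hfq, map_zero] at h2
      have h3 : (b.1 - b'.1) * (f τ₀ - τ₀) = 0 := by linear_combination h2 - h1
      exact sub_eq_zero.1 ((mul_eq_zero.1 h3).resolve_left hne)
    have ha : a.1 - a'.1 = 0 := by
      rw [hb] at h1
      simpa using h1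
    have h5 : a = a' := Subtype.ext (sub_eq_zero.1 ha)
    have h6 : b = b' := Subtype.ext (sub_eq_zero.1 hb)
    rw [h5, h6]
  have hcard : Nat.card K ≤ Nat.card (Fq × Fq) := by
    rw [Nat.card_prod, hFq, Nat.card_eq_fintype_card, hK]
    apply le_of_eq
    ring
  have hsurj := (Function.Injective.bijective_of_nat_card_le hinj hcard).2
  obtain ⟨⟨a, b⟩, rfl⟩ := hsurj x
  simp only [Φ]
  have h1 := V_smul hf2 H hHG hMH (hfq a) (V_rat hf2 H hHG hMH (c := 1) (map_one f))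
  have h2 := V_smul hf2 H hHG hMH (hfq b) h₀
  rw [mul_one] at h1
  exact V_add hf2 H hHG hMH h1 h2

end V

theorem hgen : ∀ i < chevE6.rank, dd i = 1 ∨
      ((∀ k < dd i, ρ'^[k] (chevE6.simple (A i)) < chevE6.nroots) ∧ (∀ k < dd i, ρ'^[k] (chevE6.neg (chevE6.simple (A i))) < chevE6.nroots) ∧
        (∃ Lw : List ℕ, (∀ j ∈ Lw, j < chevE6.rank) ∧ ∀ k < dd i, foldw XX J Lw (ρ'^[k] (chevE6.simple (A i))) ∈ [66, 68]) ∧
        (∃ Lw : List ℕ, (∀ j ∈ Lw, j < chevE6.rank) ∧ ∀ k < dd i, foldw XX J Lw (ρ'^[k] (chevE6.neg (chevE6.simple (A i)))) ∈ [66, 68])) := by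
  have key : ∀ i < chevE6.rank, dd i = 1 ∨
      ((∀ k < dd i, ρ'^[k] (chevE6.simple (A i)) < chevE6.nroots) ∧ (∀ k < dd i, ρ'^[k] (chevE6.neg (chevE6.simple (A i))) < chevE6.nroots) ∧
        (((∀ j ∈ [0, 2, 3, 2, 1, 3, 2], j < chevE6.rank) ∧ ∀ k < dd i, foldw XX J [0, 2, 3, 2, 1, 3, 2] (ρ'^[k] (chevE6.simple (A i))) ∈ [66, 68]) ∨
         ((∀ j ∈ [0, 2, 3, 2, 1, 3, 0], j < chevE6.rank) ∧ ∀ k < dd i, foldw XX J [0, 2, 3, 2, 1, 3, 0] (ρ'^[k] (chevE6.simple (A i))) ∈ [66, 68])) ∧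
        (((∀ j ∈ [0, 2, 3, 2, 1, 3, 2, 0], j < chevE6.rank) ∧ ∀ k < dd i, foldw XX J [0, 2, 3, 2, 1, 3, 2, 0] (ρ'^[k] (chevE6.neg (chevE6.simple (A i)))) ∈ [66, 68]) ∨
         ((∀ j ∈ [0, 2, 3, 2, 1, 3, 0, 2], j < chevE6.rank) ∧ ∀ k < dd i, foldw XX J [0, 2, 3, 2, 1, 3, 0, 2] (ρ'^[k] (chevE6.neg (chevE6.simple (A i)))) ∈ [66, 68]))) := by
    decide +kernel
  intro i hi
  rcases key i hi with h | ⟨h1, h2, h3, h4⟩
  · exact Or.inl h
  · refine Or.inr ⟨h1, h2, ?_, ?_⟩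
    · rcases h3 with h3 | h3
      · exact ⟨_, h3⟩
      · exact ⟨_, h3⟩
    · rcases h4 with h4 | h4
      · exact ⟨_, h4⟩
      · exact ⟨_, h4⟩

/-- The dichotomy for `²E₆`. -/
theorem dich {q : ℕ} (hq : IsPrimePow q) (hK : Fintype.card K = q ^ 2) {f : K ≃+* K} (hf : ∀ t, f t = t ^ q) (hf2 : ∀ t, f (f t) = t)
    (H : Subgroup (GL chevE6.Idx K)) (hHG : H ≤ (sc f).G1) (hMH : MM (sc f) ≤ H) : H = MM (sc f) ∨ H = (sc f).G1 := by
  refine dichotomy (sc f) (a := aL) (gs := gs) (top := 71) (j0 := 1) (M := 36) (mδ := 27) (L₀ := [3, 1, 2, 3, 1, 0, 2, 3, 1, 0, 2, 3, 1, 0, 2, 3, 1, 0, 2, 3, 1, 0, 2, 0])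
    htop hmax hpos hj0 hcart0 hcart ChevMonoN.mono_E6 (hρ f) hρtop hTr hSum (hs f) hgs (hinv f) hT hL₀ hw0 hfin hlv hρlv hct hM hlong ?_ H hHG hMH ?_
  · intro k hk t hp hrel
    exact hkill f k hk t hp hrel
  · intro t ht hp hne
    rw [L27] at ht hp hne
    have h0 : ∀ r ∈ [66, 68], t r = repD f (t 66) r := uniqD hp
    have h1 : hF.wL [66, 68] (repD f (t 66)) ∈ H := by
      rwa [← hF.wL_congr h0]
    have hne' : f (t 66) ≠ t 66 := by
      intro e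
      obtain ⟨r, hr, hr'⟩ := hne
      apply hr'
      rw [h0 r hr]
      simp only [repD]
      split_ifs <;> simp [e]
    refine full_G1 (sc f) (hs f) hlD comD (by decide +kernel) permD H hMH ?_ hgen
    intro t' hp'
    have h2 : ∀ r ∈ [66, 68], t' r = repD f (t' 66) r := uniqD hp'
    rw [hF.wL_congr h2]
    exact V_all hf2 H hHG hMH hq hK hf hne' h1 _

/-- The subfield points of `²E₆` are a proper maximal subgroup. -/
theorem main (p : ℕ) [Fact p.Prime] [CharP K p] (q : ℕ) (hq : ∃ a : ℕ, 1 ≤ a ∧ q = p ^ a) (hK : Fintype.card K = q ^ 2) (M : Subgroup (GL chevE6.Idx K))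
    (hM : ∀ g : GL chevE6.Idx K, g ∈ M ↔ g ∈ twistedE6 K q ∧ ∀ i j : chevE6.Idx, ((g : Matrix chevE6.Idx chevE6.Idx K) i j) ^ q = (g : Matrix chevE6.Idx chevE6.Idx K) i j) :
    M ≠ twistedE6 K q ∧ ∀ H : Subgroup (GL chevE6.Idx K), M ≤ H → H ≤ twistedE6 K q → H = M ∨ H = twistedE6 K q := by
  have hq' : IsPrimePow q := by
    obtain ⟨a, ha, rfl⟩ := hq
    exact (Nat.Prime.isPrimePow Fact.out).pow (by omega)
  obtain ⟨f, hf, hf2⟩ := TwE6.exists_frob2 hq' hK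
  have hf2' : ∀ t, f (f t) = t := hf2
  have hG := G1_eq f hf hf2
  have hMe : M = MM (sc f) := by
    ext g
    rw [hM g, mem_MM, hG, fix_iff hf]
  constructor
  · rw [hMe, ← hG]
    obtain ⟨x, hx⟩ : ∃ x : K, f x ≠ x := by
      by_contra hcon
      push Not at hcon
      have h1 : Nat.card {t : K // t ^ q = t} = q := card_fix_pow hq' hK (by norm_num)
      have h2 : Nat.card {t : K // t ^ q = t} = Nat.card K := by
        apply Nat.card_congr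
        exact Equiv.subtypeUnivEquiv (fun t => by rw [← hf]; exact hcon t)
      rw [h1, Nat.card_eq_fintype_card, hK] at h2
      have hq2 := hq'.two_le
      nlinarith
    exact MM_ne_G1 (sc f) (i := 0) (by decide +kernel) (hf2 x) hx (by decide +kernel) (by decide +kernel) (by decide +kernel)
      (commL_of_nil (by decide +kernel) (by decide +kernel))
  · intro H h1 h2
    rw [hMe] at h1 ⊢
    rw [← hG] at h2 ⊢
    exact dich hq' hK hf hf2' H h2 h1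

end Cfsg.Agent.Lib.ChevTw.InstE6
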